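import Mathlib
import Cfsg.Agent.ClassicalGeometry.AutPSL.Main
import Cfsg.Agent.Schreier.ClassPSL
import Cfsg.Agent.ClassicalGeometry.AutPSL.SylowU
import Cfsg.Agent.LieRecognition.FieldSemilinear
import Cfsg.Agent.OddHalf.D4.NoBig

-- merged: Cfsg.Agent.OddHalf.D4.L3.Mat
section

/-!
# ODD, D4, row `L_3(2^a)`: matrices

`um a b c` : the unitriangular matrix with entries `a = (0,1)`, `b = (1,2)`, `c = (0,2)`; `hm x y = diag(x, y, (xy)⁻¹)`;
`nr`, `ns` : the reflections exchanging the last two, the first two coordinates.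
-/

set_option autoImplicit false
set_option linter.unusedSectionVars false

namespace Cfsg.Agent.OddHalf.D4.L3

open Cfsg.Agent.ClassicalGeometry.AutPSL.Root

variable {F : Type*} [Field F]

/-- `SL_3` -/
abbrev SL3 (F : Type*) [Field F] := Matrix.SpecialLinearGroup (Fin 3) F
/-- `PSL_3` -/
abbrev Y3 (F : Type*) [Field F] := Matrix.ProjectiveSpecialLinearGroup (Fin 3) F

/-- unitriangular -/
def um (a b c : F) : SL3 F := ⟨!![1, a, c; 0, 1, b; 0, 0, 1], by simp [Matrix.det_fin_three]⟩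
/-- torus -/
def hm (x y : Fˣ) : SL3 F := ⟨!![(x : F), 0, 0; 0, (y : F), 0; 0, 0, ((x * y)⁻¹ : Fˣ)], by
  rw [Matrix.det_fin_three]
  simp
  field_simp⟩
/-- the reflection exchanging the last two coordinates -/
def nr : SL3 F := ⟨!![1, 0, 0; 0, 0, 1; 0, -1, 0], by simp [Matrix.det_fin_three]⟩
/-- the reflection exchanging the first two coordinates -/
def ns : SL3 F := ⟨!![0, 1, 0; -1, 0, 0; 0, 0, 1], by simp [Matrix.det_fin_three]⟩
/-- lower triangular, last two coordinates -/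
def lr (t : F) : SL3 F := ⟨!![1, 0, 0; 0, 1, 0; 0, t, 1], by simp [Matrix.det_fin_three]⟩
/-- lower triangular, first two coordinates -/
def ls (t : F) : SL3 F := ⟨!![1, 0, 0; t, 1, 0; 0, 0, 1], by simp [Matrix.det_fin_three]⟩

theorem sl3_ext {A B : SL3 F} (h : ∀ i j, A.1 i j = B.1 i j) : A = B := Subtype.ext (Matrix.ext h)

theorem um_mul (a b c a' b' c' : F) : um a b c * um a' b' c' = um (a + a') (b + b') (c + c' + a * b') := by
  apply sl3_ext
  intro i j
  rw [Matrix.SpecialLinearGroup.coe_mul, Matrix.mul_apply, Fin.sum_univ_three]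
  fin_cases i <;> fin_cases j <;> simp [um] <;> ring

theorem um_zero : um (0 : F) 0 0 = 1 := by
  apply sl3_ext
  intro i j
  fin_cases i <;> fin_cases j <;> simp [um]

theorem um_inv (a b c : F) : (um a b c)⁻¹ = um (-a) (-b) (a * b - c) := by
  rw [inv_eq_iff_mul_eq_one, um_mul, ← um_zero]
  congr 1 <;> ring

theorem hm_mul (x y x' y' : Fˣ) : hm x y * hm x' y' = hm (x * x') (y * y') := by
  apply sl3_ext
  intro i j
  rw [Matrix.SpecialLinearGroup.coe_mul, Matrix.mul_apply, Fin.sum_univ_three]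
  fin_cases i <;> fin_cases j <;> simp [hm] <;> ring

theorem hm_one : hm (1 : Fˣ) 1 = 1 := by
  apply sl3_ext
  intro i j
  fin_cases i <;> fin_cases j <;> simp [hm]

theorem hm_inv (x y : Fˣ) : (hm x y)⁻¹ = hm x⁻¹ y⁻¹ := by
  rw [inv_eq_iff_mul_eq_one, hm_mul, mul_inv_cancel, mul_inv_cancel, hm_one]

theorem hm_um (x y : Fˣ) (a b c : F) :
    hm x y * um a b c = um ((x * y⁻¹ : Fˣ) * a) ((x * y ^ 2 : Fˣ) * b) ((x ^ 2 * y : Fˣ) * c) * hm x y := by
  apply sl3_ext
  intro i j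
  rw [Matrix.SpecialLinearGroup.coe_mul, Matrix.mul_apply, Fin.sum_univ_three,
    Matrix.SpecialLinearGroup.coe_mul, Matrix.mul_apply, Fin.sum_univ_three]
  fin_cases i <;> fin_cases j <;> simp [hm, um] <;> field_simp

theorem nr_um_a (a : F) : nr * um a 0 0 = um 0 0 (-a) * nr := by
  apply sl3_ext
  intro i j
  rw [Matrix.SpecialLinearGroup.coe_mul, Matrix.mul_apply, Fin.sum_univ_three,
    Matrix.SpecialLinearGroup.coe_mul, Matrix.mul_apply, Fin.sum_univ_three]
  fin_cases i <;> fin_cases j <;> simp [nr, um]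

theorem nr_um_c (c : F) : nr * um 0 0 c = um c 0 0 * nr := by
  apply sl3_ext
  intro i j
  rw [Matrix.SpecialLinearGroup.coe_mul, Matrix.mul_apply, Fin.sum_univ_three,
    Matrix.SpecialLinearGroup.coe_mul, Matrix.mul_apply, Fin.sum_univ_three]
  fin_cases i <;> fin_cases j <;> simp [nr, um]

theorem ns_um_b (b : F) : ns * um 0 b 0 = um 0 0 b * ns := by
  apply sl3_ext
  intro i j
  rw [Matrix.SpecialLinearGroup.coe_mul, Matrix.mul_apply, Fin.sum_univ_three,
    Matrix.SpecialLinearGroup.coe_mul, Matrix.mul_apply, Fin.sum_univ_three]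
  fin_cases i <;> fin_cases j <;> simp [ns, um]

theorem ns_um_c (c : F) : ns * um 0 0 c = um 0 (-c) 0 * ns := by
  apply sl3_ext
  intro i j
  rw [Matrix.SpecialLinearGroup.coe_mul, Matrix.mul_apply, Fin.sum_univ_three,
    Matrix.SpecialLinearGroup.coe_mul, Matrix.mul_apply, Fin.sum_univ_three]
  fin_cases i <;> fin_cases j <;> simp [ns, um]

/-- the elements of the torus centralising `(1,2)` commute with `nr` -/
theorem hm_nr (x y : Fˣ) (h : x * y ^ 2 = 1) : hm x y * nr = nr * hm x y := by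
  have h1 : (x : F) * (y : F) ^ 2 = 1 := by
    have := congrArg (fun z : Fˣ => (z : F)) h
    simpa using this
  have h2 : (y : F)⁻¹ * (x : F)⁻¹ = y := by
    have hx := x.ne_zero
    have hy := y.ne_zero
    field_simp
    linear_combination -h1
  apply sl3_ext
  intro i j
  rw [Matrix.SpecialLinearGroup.coe_mul, Matrix.mul_apply, Fin.sum_univ_three,
    Matrix.SpecialLinearGroup.coe_mul, Matrix.mul_apply, Fin.sum_univ_three]
  fin_cases i <;> fin_cases j <;> simp [hm, nr, h2]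

theorem hm_ns (x : Fˣ) : hm x x * ns = ns * hm x x := by
  apply sl3_ext
  intro i j
  rw [Matrix.SpecialLinearGroup.coe_mul, Matrix.mul_apply, Fin.sum_univ_three,
    Matrix.SpecialLinearGroup.coe_mul, Matrix.mul_apply, Fin.sum_univ_three]
  fin_cases i <;> fin_cases j <;> simp [hm, ns]

/-- conjugation of `(0,2)` by a lower triangular element -/
theorem lr_um (t a c : F) : lr t * um a 0 c = um (a - c * t) 0 c * lr t := by
  apply sl3_ext
  intro i j
  rw [Matrix.SpecialLinearGroup.coe_mul, Matrix.mul_apply, Fin.sum_univ_three,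
    Matrix.SpecialLinearGroup.coe_mul, Matrix.mul_apply, Fin.sum_univ_three]
  fin_cases i <;> fin_cases j <;> simp [lr, um]

theorem ls_um (t b c : F) : ls t * um 0 b c = um 0 (b + t * c) c * ls t := by
  apply sl3_ext
  intro i j
  rw [Matrix.SpecialLinearGroup.coe_mul, Matrix.mul_apply, Fin.sum_univ_three,
    Matrix.SpecialLinearGroup.coe_mul, Matrix.mul_apply, Fin.sum_univ_three]
  fin_cases i <;> fin_cases j <;> simp [ls, um] <;> ring

/-- an upper triangular matrix -/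
theorem upper_decomp (g : SL3 F) (h1 : g.1 1 0 = 0) (h2 : g.1 2 0 = 0) (h3 : g.1 2 1 = 0) :
    ∃ (x y : Fˣ) (a b c : F), g = hm x y * um a b c := by
  have hd : g.1.det = 1 := g.2
  rw [Matrix.det_fin_three, h1, h2, h3] at hd
  have hd' : g.1 0 0 * g.1 1 1 * g.1 2 2 = 1 := by
    linear_combination hd
  have hx : g.1 0 0 ≠ 0 := by
    intro h0; rw [h0, zero_mul, zero_mul] at hd'; exact zero_ne_one hd'
  have hy : g.1 1 1 ≠ 0 := by
    intro h0; rw [h0, mul_zero, zero_mul] at hd'; exact zero_ne_one hd'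
  refine ⟨Units.mk0 _ hx, Units.mk0 _ hy, (g.1 0 0)⁻¹ * g.1 0 1, (g.1 1 1)⁻¹ * g.1 1 2, (g.1 0 0)⁻¹ * g.1 0 2, ?_⟩
  apply sl3_ext
  intro i j
  rw [Matrix.SpecialLinearGroup.coe_mul, Matrix.mul_apply, Fin.sum_univ_three]
  fin_cases i <;> fin_cases j <;> simp [hm, um, h1, h2, h3, hx, hy]
  field_simp
  linear_combination hd'

theorem um_eq01 (a : F) : um a 0 0 = Matrix.SpecialLinearGroup.transvection (show (0 : Fin 3) ≠ 1 by decide) a := by
  apply sl3_ext
  intro i j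
  show _ = (1 + Matrix.single 0 1 a : Matrix (Fin 3) (Fin 3) F) i j
  fin_cases i <;> fin_cases j <;> simp [um, Matrix.single_apply]

theorem um_eq12 (a : F) : um 0 a 0 = Matrix.SpecialLinearGroup.transvection (show (1 : Fin 3) ≠ 2 by decide) a := by
  apply sl3_ext
  intro i j
  show _ = (1 + Matrix.single 1 2 a : Matrix (Fin 3) (Fin 3) F) i j
  fin_cases i <;> fin_cases j <;> simp [um, Matrix.single_apply]

theorem um_eq02 (a : F) : um 0 0 a = Matrix.SpecialLinearGroup.transvection (show (0 : Fin 3) ≠ 2 by decide) a := by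
  apply sl3_ext
  intro i j
  show _ = (1 + Matrix.single 0 2 a : Matrix (Fin 3) (Fin 3) F) i j
  fin_cases i <;> fin_cases j <;> simp [um, Matrix.single_apply]

theorem lr_eq (a : F) : lr a = Matrix.SpecialLinearGroup.transvection (show (2 : Fin 3) ≠ 1 by decide) a := by
  apply sl3_ext
  intro i j
  show _ = (1 + Matrix.single 2 1 a : Matrix (Fin 3) (Fin 3) F) i j
  fin_cases i <;> fin_cases j <;> simp [lr, Matrix.single_apply]

theorem ls_eq (a : F) : ls a = Matrix.SpecialLinearGroup.transvection (show (1 : Fin 3) ≠ 0 by decide) a := by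
  apply sl3_ext
  intro i j
  show _ = (1 + Matrix.single 1 0 a : Matrix (Fin 3) (Fin 3) F) i j
  fin_cases i <;> fin_cases j <;> simp [ls, Matrix.single_apply]

/-- the last root group is a commutator -/
theorem l20 (t : F) : Matrix.SpecialLinearGroup.transvection (show (2 : Fin 3) ≠ 0 by decide) t =
    lr t * ls 1 * lr (-t) * ls (-1) := by
  apply sl3_ext
  intro i j
  show (1 + Matrix.single 2 0 t : Matrix (Fin 3) (Fin 3) F) i j = _
  simp only [Matrix.SpecialLinearGroup.coe_mul, Matrix.mul_apply, Fin.sum_univ_three]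
  fin_cases i <;> fin_cases j <;> simp [lr, ls, Matrix.single_apply]

/-- equality in `PSL_3` of unitriangular matrices -/
theorem pr_um_inj {a b c a' b' c' : F} (h : pr (um a b c) = pr (um a' b' c')) : a = a' ∧ b = b' ∧ c = c' := by
  obtain ⟨r, hr⟩ := exists_smul_of_pr_eq h
  have h0 := congrFun (congrFun hr 0) 0
  have h1 := congrFun (congrFun hr 0) 1
  have h2 := congrFun (congrFun hr 1) 2
  have h3 := congrFun (congrFun hr 0) 2
  simp [um] at h0 h1 h2 h3
  subst h0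
  exact ⟨by rw [h1, one_mul], by rw [h2, one_mul], by rw [h3, one_mul]⟩

end Cfsg.Agent.OddHalf.D4.L3

end

-- merged: Cfsg.Agent.OddHalf.D4.L3.Aut
section

/-!
# ODD, D4, row `L_3(2^a)`: automorphisms of `PSL_3(F)`

* `conj_of_smul` : `A = r g`, `det g = 1`: conjugation by `A` is inner;
* `inner_of_two` : a 2-element of `PGL_3` is in `PSL_3`;
* `comm_pgl` : commutators of automorphisms are in `PGL_3`;
* `fix_row`, `fix_col` : automorphisms trivial on one of the two elementary abelian subgroups of order `q²` of a Sylow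
  2-subgroup.
-/

set_option autoImplicit false
set_option linter.unusedSectionVars false

namespace Cfsg.Agent.OddHalf.D4.L3

open Matrix Cfsg.Agent.ClassicalGeometry.AutPSL.Root Cfsg.Agent.ClassicalGeometry.AutPSL.Auto
  Cfsg.Agent.ClassicalGeometry.AutPSL.Main Cfsg.Agent.Schreier.ClassPSL
open scoped commutatorElement

variable {F : Type*} [Field F]

/-- conjugation by a multiple of a matrix of determinant 1 is inner -/
theorem conj_of_smul {A : GL (Fin 3) F} {g : SL3 F} {r : F} (h : (A : Matrix (Fin 3) (Fin 3) F) = r • g.1) :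
    lift (cj A) = MulAut.conj (pr g) := by
  apply MulEquiv.ext
  intro x
  obtain ⟨x, rfl⟩ := pr_surjective x
  rw [lift_pr, MulAut.conj_apply, ← map_inv, ← map_mul, ← map_mul]
  congr 1
  apply Subtype.ext
  rw [coe_cj]
  have hr : r ≠ 0 := by
    rintro rfl
    rw [zero_smul] at h
    have h1 : (A : Matrix (Fin 3) (Fin 3) F) * ((A⁻¹ : GL (Fin 3) F) : Matrix (Fin 3) (Fin 3) F) = 1 := by
      rw [← Units.val_mul, mul_inv_cancel, Units.val_one]
    rw [h, zero_mul] at h1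
    have := congrFun (congrFun h1 0) 0
    simp at this
  have hg : g.1 * (g⁻¹ : SL3 F).1 = 1 := by
    have : (g * g⁻¹ : SL3 F).1 = 1 := by rw [mul_inv_cancel]; rfl
    exact this
  have hinv : ((A⁻¹ : GL (Fin 3) F) : Matrix (Fin 3) (Fin 3) F) = r⁻¹ • (g⁻¹ : SL3 F).1 := by
    have h1 : (A : Matrix (Fin 3) (Fin 3) F) * (r⁻¹ • (g⁻¹ : SL3 F).1) = 1 := by
      rw [h, Matrix.smul_mul, Matrix.mul_smul, hg, smul_smul, mul_inv_cancel₀ hr, one_smul]
    have h2 : ((A⁻¹ : GL (Fin 3) F) : Matrix (Fin 3) (Fin 3) F) * (A : Matrix (Fin 3) (Fin 3) F) = 1 := by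
      rw [← Units.val_mul, inv_mul_cancel, Units.val_one]
    calc ((A⁻¹ : GL (Fin 3) F) : Matrix (Fin 3) (Fin 3) F)
        = ((A⁻¹ : GL (Fin 3) F) : Matrix (Fin 3) (Fin 3) F) *
          ((A : Matrix (Fin 3) (Fin 3) F) * (r⁻¹ • (g⁻¹ : SL3 F).1)) := by rw [h1, mul_one]
      _ = _ := by rw [← mul_assoc, h2, one_mul]
  rw [hinv, h, Matrix.smul_mul, Matrix.smul_mul, Matrix.mul_smul, smul_smul, mul_inv_cancel₀ hr, one_smul]
  rfl

/-- the cube of an element of `PGL_3` is in `PSL_3` -/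
theorem cube_inner (A : GL (Fin 3) F) : ∃ y : Y3 F, lift (cj A) ^ 3 = MulAut.conj y := by
  have hd : (A : Matrix (Fin 3) (Fin 3) F).det ≠ 0 := by
    have := A.det.ne_zero
    rwa [Matrix.GeneralLinearGroup.val_det_apply] at this
  set d := (A : Matrix (Fin 3) (Fin 3) F).det with hdd
  let g : SL3 F := ⟨d⁻¹ • ((A ^ 3 : GL (Fin 3) F) : Matrix (Fin 3) (Fin 3) F), by
    rw [Matrix.det_smul, Units.val_pow_eq_pow_val, Matrix.det_pow, ← hdd, Fintype.card_fin, ← mul_pow,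
      inv_mul_cancel₀ hd, one_pow]⟩
  refine ⟨pr g, ?_⟩
  rw [← map_pow, ← map_pow]
  apply conj_of_smul (r := d)
  show ((A ^ 3 : GL (Fin 3) F) : Matrix (Fin 3) (Fin 3) F) = d • (d⁻¹ • _)
  rw [smul_smul, mul_inv_cancel₀ hd, one_smul]

/-- the inner automorphisms -/
def Inn (Y : Type*) [Group Y] : Subgroup (MulAut Y) := (MulAut.conj : Y →* MulAut Y).range

theorem mem_Inn {Y : Type*} [Group Y] {α : MulAut Y} : α ∈ Inn Y ↔ ∃ y, α = MulAut.conj y :=
  ⟨fun ⟨y, hy⟩ => ⟨y, hy.symm⟩, fun ⟨y, hy⟩ => ⟨y, hy.symm⟩⟩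

/-- a 2-element of `PGL_3` is in `PSL_3` -/
theorem inner_of_two {A : GL (Fin 3) F} {k : ℕ} (h : lift (cj A) ^ 2 ^ k = (1 : MulAut (Y3 F))) :
    lift (cj A) ∈ Inn (Y3 F) := by
  have h3 : lift (cj A) ^ 3 ∈ Inn (Y3 F) := mem_Inn.2 (cube_inner A)
  have hc : Nat.Coprime 3 (2 ^ k) := by
    apply Nat.Coprime.pow_right
    norm_num
  have h1 : (1 : ℤ) = 3 * Nat.gcdA 3 (2 ^ k) + (2 ^ k : ℕ) * Nat.gcdB 3 (2 ^ k) := by
    have := Nat.gcd_eq_gcd_ab 3 (2 ^ k)
    rw [Nat.Coprime.gcd_eq_one hc] at this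
    exact_mod_cast this
  have h2 : lift (cj A) = (lift (cj A) ^ 3) ^ Nat.gcdA 3 (2 ^ k) := by
    calc lift (cj A) = lift (cj A) ^ (1 : ℤ) := by rw [zpow_one]
      _ = lift (cj A) ^ ((3 : ℤ) * Nat.gcdA 3 (2 ^ k) + (2 ^ k : ℕ) * Nat.gcdB 3 (2 ^ k)) := by rw [← h1]
      _ = (lift (cj A) ^ 3) ^ Nat.gcdA 3 (2 ^ k) * (lift (cj A) ^ (2 ^ k : ℕ)) ^ Nat.gcdB 3 (2 ^ k) := by
          rw [_root_.zpow_add, _root_.zpow_mul, _root_.zpow_mul]
          norm_cast
      _ = _ := by rw [h, _root_.one_zpow, mul_one]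
  rw [h2]
  exact zpow_mem h3 _

/-- Every automorphism is a product of an element of `PGL_3`, a field automorphism and possibly the inverse
transpose. -/
theorem forms [Finite F] (α : MulAut (Y3 F)) :
    (∃ (A : GL (Fin 3) F) (σ : F ≃+* F), α = lift (cj A * fld σ)) ∨
    (∃ (A : GL (Fin 3) F) (σ : F ≃+* F), α = lift (cj A * fld σ * itr)) := by
  have := Fintype.ofFinite F
  obtain ⟨p, hp⟩ := CharP.exists F
  have hprime : Fact p.Prime := ⟨CharP.char_is_prime F p⟩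
  exact surj_three p le_rfl α

/-- commutators of automorphisms are in `PGL_3` -/
theorem comm_pgl [Finite F] (α β : MulAut (Y3 F)) : ∃ A : GL (Fin 3) F, ⁅α, β⁆ = lift (cj A) := by
  let D : Subgroup (MulAut (Y3 F)) := ((cj : GL (Fin 3) F →* _).range).map lift
  have key : ∀ α : MulAut (Y3 F), ∃ d ∈ D, ∃ f : MulAut (Y3 F), (∃ σ : F ≃+* F, f = lift (fld σ) ∨ f = lift (fld σ * itr)) ∧
      α = d * f := by
    intro α
    rcases forms α with ⟨A, σ, rfl⟩ | ⟨A, σ, rfl⟩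
    · exact ⟨_, ⟨_, ⟨A, rfl⟩, rfl⟩, _, ⟨σ, Or.inl rfl⟩, by rw [map_mul]⟩
    · exact ⟨_, ⟨_, ⟨A, rfl⟩, rfl⟩, _, ⟨σ, Or.inr rfl⟩, by rw [mul_assoc, map_mul]⟩
  have hff := fun σ τ : F ≃+* F => fld_comm (ι := Fin 3) σ τ
  have hif := fun σ : F ≃+* F => itr_mul_fld (ι := Fin 3) σ
  have hlm : ∀ a b : MulAut (SL3 F), lift (a * b) = lift a * lift b := fun a b => map_mul lift a b
  have hnorm : ∀ f : MulAut (Y3 F), (∃ σ : F ≃+* F, f = lift (fld σ) ∨ f = lift (fld σ * itr)) →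
      ∀ d ∈ D, f * d * f⁻¹ ∈ D := by
    rintro f ⟨σ, rfl | rfl⟩ _ ⟨x, hx, rfl⟩
    · rw [← map_inv, ← map_mul, ← map_mul]
      exact ⟨_, cj_norm_fld σ hx, rfl⟩
    · rw [← map_inv, ← map_mul, ← map_mul]
      refine ⟨_, ?_, rfl⟩
      have h1 : fld σ * itr * x * (fld σ * itr)⁻¹ = fld σ * (itr * x * itr⁻¹) * (fld σ)⁻¹ := by
        group
      rw [h1]
      exact cj_norm_fld σ (cj_norm_itr hx)
  have hcomm : ∀ f g : MulAut (Y3 F), (∃ σ : F ≃+* F, f = lift (fld σ) ∨ f = lift (fld σ * itr)) →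
      (∃ σ : F ≃+* F, g = lift (fld σ) ∨ g = lift (fld σ * itr)) → f * g = g * f := by
    rintro f g ⟨σ, rfl | rfl⟩ ⟨τ, rfl | rfl⟩
    · rw [← hlm, ← hlm, hff]
    · rw [← hlm, ← hlm, ← mul_assoc, hff, mul_assoc, mul_assoc, hif]
    · rw [← hlm, ← hlm, mul_assoc, hif, ← mul_assoc, hff, mul_assoc]
    · rw [← hlm, ← hlm]
      congr 1
      calc fld σ * itr * (fld τ * itr) = fld σ * (itr * fld τ) * itr := by group
        _ = fld σ * fld τ * (itr * itr) := by rw [hif]; group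
        _ = fld τ * fld σ * (itr * itr) := by rw [hff]
        _ = fld τ * (fld σ * itr) * itr := by group
        _ = fld τ * (itr * fld σ) * itr := by rw [hif]
        _ = _ := by group
  obtain ⟨d, hd, f, hf, rfl⟩ := key α
  obtain ⟨e, he, g, hg, rfl⟩ := key β
  have h1 : ⁅d * f, e * g⁆ ∈ D := by
    have e1 : ⁅d * f, e * g⁆ = d * (f * e * f⁻¹) * (g * d⁻¹ * g⁻¹) * e⁻¹ := by
      rw [commutatorElement_def]
      have h2 : f * g = g * f := hcomm f g hf hg
      calc d * f * (e * g) * (d * f)⁻¹ * (e * g)⁻¹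
          = d * (f * e * f⁻¹) * ((f * g) * f⁻¹ * d⁻¹ * g⁻¹) * e⁻¹ := by group
        _ = d * (f * e * f⁻¹) * ((g * f) * f⁻¹ * d⁻¹ * g⁻¹) * e⁻¹ := by rw [h2]
        _ = d * (f * e * f⁻¹) * (g * d⁻¹ * g⁻¹) * e⁻¹ := by group
    rw [e1]
    exact mul_mem (mul_mem (mul_mem hd (hnorm f hf e he)) (hnorm g hg _ (inv_mem hd))) (inv_mem he)
  obtain ⟨_, ⟨A, rfl⟩, h2⟩ := h1
  exact ⟨A, h2.symm⟩

/-! ### Automorphisms and root elements -/

theorem eqA {A : GL (Fin 3) F} {σ : F ≃+* F} {i j k l : Fin 3} {hij : i ≠ j} {hkl : k ≠ l} {s t : F}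
    (h : lift (cj A * fld σ) (pr (Matrix.SpecialLinearGroup.transvection hij s)) =
      pr (Matrix.SpecialLinearGroup.transvection hkl t)) :
    (A : Matrix (Fin 3) (Fin 3) F) * single i j (σ s) = single k l t * (A : Matrix (Fin 3) (Fin 3) F) := by
  rw [lift_pr, MulAut.mul_apply, fld_transvection] at h
  exact cj_transvection_eq h

theorem eqB {A : GL (Fin 3) F} {σ : F ≃+* F} {i j k l : Fin 3} {hij : i ≠ j} {hkl : k ≠ l} {s t : F}
    (h : lift (cj A * fld σ * itr) (pr (Matrix.SpecialLinearGroup.transvection hij s)) =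
      pr (Matrix.SpecialLinearGroup.transvection hkl t)) :
    (A : Matrix (Fin 3) (Fin 3) F) * single j i (-(σ s)) = single k l t * (A : Matrix (Fin 3) (Fin 3) F) := by
  rw [lift_pr, MulAut.mul_apply, itr_transvection, MulAut.mul_apply, fld_transvection, map_neg] at h
  exact cj_transvection_eq h

theorem col_ne (A : GL (Fin 3) F) (j : Fin 3) : ¬ ∀ i, (A : Matrix (Fin 3) (Fin 3) F) i j = 0 := by
  intro h
  have h1 : ((A⁻¹ : GL (Fin 3) F) : Matrix (Fin 3) (Fin 3) F) * (A : Matrix (Fin 3) (Fin 3) F) = 1 := by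
    rw [← Units.val_mul, inv_mul_cancel, Units.val_one]
  have h2 := congrFun (congrFun h1 j) j
  rw [Matrix.mul_apply] at h2
  simp [h] at h2

theorem row_ne (A : GL (Fin 3) F) (i : Fin 3) : ¬ ∀ j, (A : Matrix (Fin 3) (Fin 3) F) i j = 0 := by
  intro h
  have h1 : (A : Matrix (Fin 3) (Fin 3) F) * ((A⁻¹ : GL (Fin 3) F) : Matrix (Fin 3) (Fin 3) F) = 1 := by
    rw [← Units.val_mul, mul_inv_cancel, Units.val_one]
  have h2 := congrFun (congrFun h1 i) i
  rw [Matrix.mul_apply] at h2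
  simp [h] at h2

/-- entries of the equation `A e_ij s = e_kl t A` -/
theorem ent {M : Matrix (Fin 3) (Fin 3) F} {i j k l : Fin 3} {s t : F} (h : M * single i j s = single k l t * M)
    (r c : Fin 3) : (if j = c then M r i * s else 0) = (if k = r then t * M l c else 0) := by
  have h1 := congrFun (congrFun h r) c
  rw [Matrix.mul_apply, Matrix.mul_apply] at h1
  simp only [Matrix.single_apply] at h1
  rw [Finset.sum_eq_single i, Finset.sum_eq_single l] at h1
  · by_cases hj : j = c <;> by_cases hk : k = r <;> simp [hj, hk] at h1 ⊢ <;> exact h1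
  · intro b _ hb
    rw [if_neg (fun h => hb h.2.symm), zero_mul]
  · intro h4; exact absurd (Finset.mem_univ _) h4
  · intro b _ hb
    rw [if_neg (fun h => hb h.1.symm), mul_zero]
  · intro h4; exact absurd (Finset.mem_univ _) h4

/-- an automorphism trivial on the first row -/
theorem fix_row [Finite F] {α : MulAut (Y3 F)} (h1 : ∀ a, α (pr (um a 0 0)) = pr (um a 0 0))
    (h2 : ∀ c, α (pr (um 0 0 c)) = pr (um 0 0 c)) : ∃ a c : F, α = MulAut.conj (pr (um a 0 c)) := by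
  rcases forms α with ⟨A, σ, rfl⟩ | ⟨A, σ, rfl⟩
  · have e1 : ∀ a, (A : Matrix (Fin 3) (Fin 3) F) * single 0 1 (σ a) = single 0 1 a * (A : Matrix (Fin 3) (Fin 3) F) := by
      intro a
      have := h1 a
      rw [um_eq01] at this
      exact eqA this
    have e2 : ∀ a, (A : Matrix (Fin 3) (Fin 3) F) * single 0 2 (σ a) = single 0 2 a * (A : Matrix (Fin 3) (Fin 3) F) := by
      intro a
      have := h2 a
      rw [um_eq02] at this
      exact eqA this
    have a10 := ent (e1 1) 0 0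
    have b1 := ent (e1 1) 0 1
    have b2 := ent (e1 1) 0 2
    have b3 := ent (e1 1) 1 1
    have b4 := ent (e1 1) 2 1
    have c1 := ent (e2 1) 0 1
    have c2 := ent (e2 1) 0 2
    simp only [map_one, mul_one, one_mul, if_true, if_false, reduceIte, Fin.isValue, one_ne_zero, zero_ne_one,
      reduceCtorEq, show (1 : Fin 3) ≠ 2 by decide, show (2 : Fin 3) ≠ 1 by decide, show (0 : Fin 3) ≠ 2 by decide,
      show (2 : Fin 3) ≠ 0 by decide] at a10 b1 b2 b3 b4 c1 c2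
    have h00 : (A : Matrix (Fin 3) (Fin 3) F) 0 0 ≠ 0 := by
      intro h0
      apply col_ne A 0
      intro i
      fin_cases i
      · exact h0
      · exact b3
      · exact b4
    have hσ : σ = 1 := by
      apply RingEquiv.ext
      intro x
      have := ent (e1 x) 0 1
      simp only [if_true, reduceIte] at this
      rw [← b1, mul_comm] at this
      exact mul_right_cancel₀ h00 this
    refine ⟨((A : Matrix (Fin 3) (Fin 3) F) 0 0)⁻¹ * (A : Matrix (Fin 3) (Fin 3) F) 0 1,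
      ((A : Matrix (Fin 3) (Fin 3) F) 0 0)⁻¹ * (A : Matrix (Fin 3) (Fin 3) F) 0 2, ?_⟩
    rw [hσ, map_one, mul_one]
    apply conj_of_smul (r := (A : Matrix (Fin 3) (Fin 3) F) 0 0)
    ext i j
    fin_cases i <;> fin_cases j <;> simp [um, h00, ← a10, b3, b4, ← b2, ← c1] 
    · exact b1.symm
    · exact c2.symm
  · exfalso
    have e1 := eqB (by have := h1 1; rw [um_eq01] at this; exact this)
    have e2 := eqB (by have := h2 1; rw [um_eq02] at this; exact this)
    have x1 := ent e1 1 0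
    have x2 := ent e1 2 0
    have y1 := ent e2 1 0
    have y2 := ent e2 2 0
    simp only [map_one, mul_one, mul_neg, one_mul, if_true, if_false, Fin.isValue, one_ne_zero, zero_ne_one,
      show (0 : Fin 3) ≠ 2 by decide, show (2 : Fin 3) ≠ 0 by decide, neg_eq_zero] at x1 x2 y1 y2
    have hd : (A : Matrix (Fin 3) (Fin 3) F).det ≠ 0 := by
      have := A.det.ne_zero
      rwa [Matrix.GeneralLinearGroup.val_det_apply] at this
    apply hd
    rw [Matrix.det_fin_three, x1, x2, y1, y2]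
    ring

/-- an automorphism trivial on the last column -/
theorem fix_col [Finite F] {α : MulAut (Y3 F)} (h1 : ∀ a, α (pr (um 0 a 0)) = pr (um 0 a 0))
    (h2 : ∀ c, α (pr (um 0 0 c)) = pr (um 0 0 c)) : ∃ b c : F, α = MulAut.conj (pr (um 0 b c)) := by
  rcases forms α with ⟨A, σ, rfl⟩ | ⟨A, σ, rfl⟩
  · have e1 : ∀ a, (A : Matrix (Fin 3) (Fin 3) F) * single 1 2 (σ a) = single 1 2 a * (A : Matrix (Fin 3) (Fin 3) F) := by
      intro a
      have := h1 a
      rw [um_eq12] at this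
      exact eqA this
    have e2 : ∀ a, (A : Matrix (Fin 3) (Fin 3) F) * single 0 2 (σ a) = single 0 2 a * (A : Matrix (Fin 3) (Fin 3) F) := by
      intro a
      have := h2 a
      rw [um_eq02] at this
      exact eqA this
    have a01 := ent (e1 1) 0 2
    have b1 := ent (e1 1) 1 2
    have b2 := ent (e1 1) 1 0
    have b3 := ent (e1 1) 1 1
    have b4 := ent (e1 1) 2 2
    have c1 := ent (e2 1) 1 2
    have c2 := ent (e2 1) 0 2
    have c3 := ent (e2 1) 0 0
    have c4 := ent (e2 1) 0 1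
    simp only [map_one, mul_one, one_mul, if_true, if_false, Fin.isValue, one_ne_zero, zero_ne_one,
      show (1 : Fin 3) ≠ 2 by decide, show (2 : Fin 3) ≠ 1 by decide, show (0 : Fin 3) ≠ 2 by decide,
      show (2 : Fin 3) ≠ 0 by decide] at a01 b1 b2 b3 b4 c1 c2 c3 c4
    have h22 : (A : Matrix (Fin 3) (Fin 3) F) 2 2 ≠ 0 := by
      intro h0
      apply row_ne A 2
      intro i
      fin_cases i
      · exact c3.symm
      · exact c4.symm
      · exact h0
    have hσ : σ = 1 := by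
      apply RingEquiv.ext
      intro x
      have := ent (e1 x) 1 2
      simp only [if_true] at this
      rw [b1, mul_comm] at this
      exact mul_right_cancel₀ h22 this
    refine ⟨((A : Matrix (Fin 3) (Fin 3) F) 2 2)⁻¹ * (A : Matrix (Fin 3) (Fin 3) F) 1 2,
      ((A : Matrix (Fin 3) (Fin 3) F) 2 2)⁻¹ * (A : Matrix (Fin 3) (Fin 3) F) 0 2, ?_⟩
    rw [hσ, map_one, mul_one]
    apply conj_of_smul (r := (A : Matrix (Fin 3) (Fin 3) F) 2 2)
    ext i j
    fin_cases i <;> fin_cases j <;> simp [um, h22, b1, c2, a01, c1, ← c3, ← c4]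
  · exfalso
    have e1 := eqB (by have := h1 1; rw [um_eq12] at this; exact this)
    have e2 := eqB (by have := h2 1; rw [um_eq02] at this; exact this)
    have x1 := ent e1 0 1
    have x2 := ent e1 2 1
    have y1 := ent e2 1 0
    have y2 := ent e2 2 0
    simp only [map_one, mul_one, mul_neg, one_mul, if_true, if_false, Fin.isValue, one_ne_zero, zero_ne_one,
      show (1 : Fin 3) ≠ 2 by decide, show (0 : Fin 3) ≠ 2 by decide, show (2 : Fin 3) ≠ 0 by decide,
      neg_eq_zero] at x1 x2 y1 y2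
    apply col_ne A 2
    intro i
    fin_cases i
    · exact x1
    · exact y1
    · exact y2

theorem ne_zero_of {α : MulAut (Y3 F)} {c κ : F} (hc : c ≠ 0) (h : α (pr (um 0 0 c)) = pr (um 0 0 κ)) : κ ≠ 0 := by
  rintro rfl
  apply hc
  rw [um_zero, map_one, ← map_one α] at h
  have h1 := α.injective h
  rw [← map_one (pr (ι := Fin 3) (F := F)), ← um_zero] at h1
  exact (pr_um_inj h1).2.2

/-- the action on the centre of the Sylow subgroup is semilinear; if it is trivial there is no field part -/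
theorem sem [Finite F] {α : MulAut (Y3 F)} (h : ∀ c, ∃ c', α (pr (um 0 0 c)) = pr (um 0 0 c')) :
    ∃ (κ : F) (σ : F ≃+* F), κ ≠ 0 ∧ (∀ c, α (pr (um 0 0 c)) = pr (um 0 0 (κ * σ c))) ∧
      (∃ A : GL (Fin 3) F, α = lift (cj A * fld σ) ∨ α = lift (cj A * fld σ * itr)) := by
  rcases forms α with ⟨A, σ, rfl⟩ | ⟨A, σ, rfl⟩
  · obtain ⟨κ, hκ⟩ := h 1
    have hκ0 := ne_zero_of one_ne_zero hκ
    refine ⟨κ, σ, hκ0, ?_, A, Or.inl rfl⟩
    intro c
    obtain ⟨c', hc⟩ := h c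
    rw [hc]
    congr 2
    rw [um_eq02, um_eq02] at hκ hc
    have e1 := eqA hκ
    have e2 := eqA hc
    obtain ⟨j, hj⟩ : ∃ j, (A : Matrix (Fin 3) (Fin 3) F) 2 j ≠ 0 := by
      by_contra hcon
      push Not at hcon
      exact row_ne A 2 hcon
    have f1 := ent e1 0 j
    have f2 := ent e2 0 j
    simp only [map_one, mul_one, if_true] at f1 f2
    by_cases h2 : 2 = j
    · rw [if_pos h2] at f1 f2
      rw [f1] at f2
      apply mul_right_cancel₀ hj
      rw [← f2]; ring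
    · exfalso
      rw [if_neg h2] at f1 f2
      exact mul_ne_zero hκ0 hj f1.symm
  · obtain ⟨κ, hκ⟩ := h 1
    have hκ0 := ne_zero_of one_ne_zero hκ
    refine ⟨κ, σ, hκ0, ?_, A, Or.inr rfl⟩
    intro c
    obtain ⟨c', hc⟩ := h c
    rw [hc]
    congr 2
    rw [um_eq02, um_eq02] at hκ hc
    have e1 := eqB hκ
    have e2 := eqB hc
    obtain ⟨j, hj⟩ : ∃ j, (A : Matrix (Fin 3) (Fin 3) F) 2 j ≠ 0 := by
      by_contra hcon
      push Not at hcon
      exact row_ne A 2 hcon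
    have f1 := ent e1 0 j
    have f2 := ent e2 0 j
    simp only [map_one, mul_one, if_true] at f1 f2
    by_cases h2 : 0 = j
    · rw [if_pos h2] at f1 f2
      apply mul_right_cancel₀ hj
      linear_combination -f2 + (σ c) * f1
    · exfalso
      rw [if_neg h2] at f1 f2
      exact mul_ne_zero hκ0 hj f1.symm

/-- at most one field automorphism of order 2 -/
theorem fld_invol [Finite F] {σ τ : F ≃+* F} (hs : σ * σ = 1) (ht : τ * τ = 1) : σ = 1 ∨ τ = 1 ∨ σ * τ = 1 := by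
  have hc : IsCyclic (F ≃+* F) := Cfsg.Agent.LieRecognition.FieldSemilinear.isCyclic_ringAut F
  have : Finite (F ≃+* F) := Finite.of_injective (fun e : F ≃+* F => (e : F → F)) (fun a b h => RingEquiv.ext (congrFun h))
  by_contra hcon
  push Not at hcon
  obtain ⟨h1, h2, h3⟩ := hcon
  have hst : σ ≠ τ := by
    rintro rfl
    exact h3 hs
  have := Fintype.ofFinite (F ≃+* F)
  classical
  have h4 := IsCyclic.card_pow_eq_one_le (α := F ≃+* F) (n := 2) two_pos
  have h5 : ({1, σ, τ} : Finset (F ≃+* F)) ⊆ Finset.univ.filter fun a => a ^ 2 = 1 := by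
    intro a ha
    rw [Finset.mem_filter]
    refine ⟨Finset.mem_univ _, ?_⟩
    simp only [Finset.mem_insert, Finset.mem_singleton] at ha
    rcases ha with rfl | rfl | rfl
    · exact one_pow 2
    · rw [pow_two]; exact hs
    · rw [pow_two]; exact ht
  have h6 := (Finset.card_le_card h5).trans h4
  rw [Finset.card_insert_of_notMem, Finset.card_insert_of_notMem, Finset.card_singleton] at h6
  · omega
  · simpa using hst
  · simp only [Finset.mem_insert, Finset.mem_singleton, not_or]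
    exact ⟨fun h => h1 h.symm, fun h => h2 h.symm⟩

/-- **(V)** -/
theorem no_four [Finite F] [CharP F 2] {a b : MulAut (Y3 F)} (ha : a * a = 1) (hb : b * b = 1) (hab : a * b = b * a)
    (na : a ∉ Inn (Y3 F)) (nb : b ∉ Inn (Y3 F)) (nab : a * b ∉ Inn (Y3 F))
    (za : ∀ c, ∃ c', a (pr (um 0 0 c)) = pr (um 0 0 c')) (zb : ∀ c, ∃ c', b (pr (um 0 0 c)) = pr (um 0 0 c'))
    (hc : ∀ v, v = a ∨ v = b ∨ v = a * b → (∀ c, v (pr (um 0 0 c)) = pr (um 0 0 c)) →
      (∀ c, a (pr (um 0 0 c)) = pr (um 0 0 c)) ∧ ∀ c, b (pr (um 0 0 c)) = pr (um 0 0 c)) : False := by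
  -- an involution with trivial field part centralises
  have one_of : ∀ v : MulAut (Y3 F), v * v = 1 → ∀ (κ : F) (σ : F ≃+* F),
      (∀ c, v (pr (um 0 0 c)) = pr (um 0 0 (κ * σ c))) → (σ * σ = 1 ∧ (σ = 1 → ∀ c, v (pr (um 0 0 c)) = pr (um 0 0 c))) := by
    intro v hv κ σ h
    have h1 : ∀ c, κ * σ (κ * σ c) = c := by
      intro c
      have h2 : v (v (pr (um 0 0 c))) = pr (um 0 0 c) := by
        rw [← MulAut.mul_apply, hv, MulAut.one_apply]
      rw [h, h] at h2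
      exact (pr_um_inj h2).2.2
    have h2 := h1 1
    rw [map_one, mul_one] at h2
    refine ⟨?_, ?_⟩
    · apply RingEquiv.ext
      intro c
      have h3 := h1 c
      rw [map_mul, ← mul_assoc, h2, one_mul] at h3
      exact h3
    · rintro rfl c
      have h3 : κ * κ = 1 := h2
      have h4 : (κ + 1) * (κ + 1) = 0 := by
        have h5 : (2 : F) = 0 := CharTwo.two_eq_zero
        linear_combination h3 + κ * h5 + h5
      have h5 : κ + 1 = 0 := mul_self_eq_zero.1 h4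
      have h6 : κ = 1 := by
        have := CharTwo.add_eq_zero.1 h5
        exact this
      rw [h, h6, one_mul]
      rfl
  obtain ⟨κ, σ, hκ, ea, A, fa⟩ := sem za
  obtain ⟨μ, τ, hμ, eb, B, fb⟩ := sem zb
  have hzab : ∀ c, (a * b) (pr (um 0 0 c)) = pr (um 0 0 ((κ * σ μ) * (σ * τ) c)) := by
    intro c
    rw [MulAut.mul_apply, eb, ea, map_mul]
    congr 2
    show _ = κ * σ μ * σ (τ c)
    ring
  have habab : a * b * (a * b) = 1 := by
    calc a * b * (a * b) = a * (b * a) * b := by group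
      _ = a * (a * b) * b := by rw [hab]
      _ = (a * a) * (b * b) := by group
      _ = 1 := by rw [ha, hb, one_mul]
  obtain ⟨sa, ca⟩ := one_of a ha κ σ ea
  obtain ⟨sb, cb⟩ := one_of b hb μ τ eb
  obtain ⟨-, cab⟩ := one_of _ habab _ _ hzab
  have hall : (∀ c, a (pr (um 0 0 c)) = pr (um 0 0 c)) ∧ ∀ c, b (pr (um 0 0 c)) = pr (um 0 0 c) := by
    rcases fld_invol sa sb with h | h | h
    · exact hc a (Or.inl rfl) (ca h)
    · exact hc b (Or.inr (Or.inl rfl)) (cb h)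
    · exact hc _ (Or.inr (Or.inr rfl)) (cab h)
  obtain ⟨ha1, hb1⟩ := hall
  have triv : ∀ (v : MulAut (Y3 F)) (κ : F) (σ : F ≃+* F), (∀ c, v (pr (um 0 0 c)) = pr (um 0 0 (κ * σ c))) →
      (∀ c, v (pr (um 0 0 c)) = pr (um 0 0 c)) → σ = 1 := by
    intro v κ σ h h'
    have h1 : ∀ c, κ * σ c = c := fun c => by
      have h2 := h c
      rw [h'] at h2
      exact (pr_um_inj h2).2.2.symm
    have h2 : κ = 1 := by
      have := h1 1
      rwa [map_one, mul_one] at this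
    apply RingEquiv.ext
    intro c
    have := h1 c
    rw [h2, one_mul] at this
    exact this
  have hs1 := triv a κ σ ea ha1
  have ht1 := triv b μ τ eb hb1
  rw [hs1, map_one, mul_one] at fa
  rw [ht1, map_one, mul_one] at fb
  have two : ∀ C : GL (Fin 3) F, lift (cj C) * lift (cj C) = (1 : MulAut (Y3 F)) → lift (cj C) ∈ Inn (Y3 F) := by
    intro C hC
    apply inner_of_two (k := 1)
    rw [pow_one, pow_two, hC]
  rcases fa with rfl | rfl
  · exact na (two A ha)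
  · rcases fb with rfl | rfl
    · exact nb (two B hb)
    · apply nab
      have e : lift (cj A * itr) * lift (cj B * itr) = (lift (cj (A * ctr B)) : MulAut (Y3 F)) := by
        rw [← map_mul (lift (ι := Fin 3) (F := F))]
        congr 1
        calc cj A * itr * (cj B * itr) = cj A * (itr * cj B) * itr := by group
          _ = cj A * (cj (ctr B) * itr) * itr := by rw [itr_mul_cj]
          _ = cj A * cj (ctr B) * (itr * itr) := by group
          _ = cj (A * ctr B) := by rw [itr_mul_itr, mul_one, map_mul]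
      rw [e]
      apply two
      rw [← e]
      exact habab

/-- 2-elements of `[A, B]` are inner, for subgroups `A ≤ [A, B]` -/
theorem inner_of_comm [Finite F] {A B : Subgroup (MulAut (Y3 F))} (h : A ≤ ⁅A, B⁆) {a : MulAut (Y3 F)} (ha : a ∈ A)
    {k : ℕ} (hk : a ^ 2 ^ k = 1) : a ∈ Inn (Y3 F) := by
  have h1 : ⁅A, B⁆ ≤ ((cj : GL (Fin 3) F →* _).range).map lift := by
    rw [Subgroup.commutator_le]
    intro x _ y _
    obtain ⟨A, hA⟩ := comm_pgl x y
    exact ⟨_, ⟨A, rfl⟩, hA.symm⟩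
  obtain ⟨_, ⟨C, rfl⟩, rfl⟩ := h1 (h ha)
  exact inner_of_two hk

end Cfsg.Agent.OddHalf.D4.L3

end

-- merged: Cfsg.Agent.OddHalf.D4.L3.Frame
section

/-!
# ODD, D4, row `L_3(2^a)`: the subgroup `K`

`f : PSL_3(F) →* G` injective, `K = f.range`; `U f a b c` the elements of a Sylow 2-subgroup `Sf f`, `Zf f` its centre,
`Hf f` the centraliser of `Zf f` in the torus.
* `Fr K S Z H` : the facts used in the first part; `fr`.
-/

set_option autoImplicit false
set_option linter.unusedSectionVars false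

namespace Cfsg.Agent.OddHalf.D4.L3

open Cfsg.Agent.ClassicalGeometry.AutPSL.Root Cfsg.Agent.ClassicalGeometry.AutPSL.Auto
  Cfsg.Agent.ClassicalGeometry.AutPSL.Main Cfsg.Agent.OddHalf.D4.Basic
open Subgroup (normalizer centralizer mem_centralizer_iff mem_normalizer_iff zpowers)
open scoped commutatorElement

/-- The facts on `K`, its Sylow 2-subgroup `S`, `Z = Z(S)` and a group `H` of odd order. -/
structure Fr {G : Type*} [Group G] (K S Z H : Subgroup G) : Prop where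
  SK : S ≤ K
  ZS : Z ≤ S
  HK : H ≤ K
  syl : IsSyl S K
  ctr : ∀ k ∈ K, k ∈ centralizer (K : Set G) → k = 1
  zc : ∀ z ∈ Z, ∀ s ∈ S, z * s = s * z
  z2 : ∀ z ∈ Z, z * z = 1
  cm : ∀ s ∈ S, ∀ t ∈ S, s * t * s⁻¹ * t⁻¹ ∈ Z
  on : ∀ s ∈ S, s ∉ Z → ∀ z ∈ Z, ∃ t ∈ S, s * t * s⁻¹ * t⁻¹ = z
  ne : ∃ z ∈ Z, z ≠ 1
  zne : ∃ s ∈ S, s ∉ Z
  hz : ∀ h ∈ H, ∀ z ∈ Z, h * z = z * h
  hs : ∀ h ∈ H, ∀ s ∈ S, h * s * h⁻¹ ∈ S
  sh : S ≤ ⁅S, H⁆
  F1 : ∀ y : G, y ∈ normalizer (K : Set G) → (∀ s ∈ S, y * s = s * y) →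
    ∃ z ∈ Z, z⁻¹ * y ∈ centralizer (K : Set G)
  O : ∀ A B : Subgroup G, IsPGroup 2 ↥A → A ≤ normalizer (K : Set G) → B ≤ normalizer (K : Set G) → A ≤ ⁅A, B⁆ →
    ∀ a ∈ A, ∃ k ∈ K, k⁻¹ * a ∈ centralizer (K : Set G)
  inv : ∀ t ∈ K, orderOf t = 2 → ∃ k ∈ K, ∀ s ∈ S, (k * s * k⁻¹) * t = t * (k * s * k⁻¹)
  V : ∀ a b : G, a ∈ normalizer (K : Set G) → b ∈ normalizer (K : Set G) → a * a = 1 → b * b = 1 → a * b = b * a →
    (∀ v, v = a ∨ v = b ∨ v = a * b → ∀ k ∈ K, k⁻¹ * v ∉ centralizer (K : Set G)) →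
    (∀ z ∈ Z, a * z * a⁻¹ ∈ Z) → (∀ z ∈ Z, b * z * b⁻¹ ∈ Z) →
    (∀ v, v = a ∨ v = b ∨ v = a * b → (∀ z ∈ Z, v * z = z * v) → (∀ z ∈ Z, a * z = z * a) ∧ ∀ z ∈ Z, b * z = z * b) →
    False
  gen : ∀ X : Subgroup G, (∀ e ∈ S, orderOf e = 2 → ∀ k ∈ K, k * e = e * k → k ∈ X) → K ≤ X

/-! ### The action of the normalizer -/

variable {F : Type*} [Field F] {G : Type*} [Group G]

/-- conjugation by `g` on `f.range` is `α` -/
def Rel (f : Y3 F →* G) (g : G) (α : MulAut (Y3 F)) : Prop := ∀ y, f (α y) = g * f y * g⁻¹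

section rel

variable {f : Y3 F →* G} (hf : Function.Injective f)

theorem Rel.mul {g h : G} {α β : MulAut (Y3 F)} (h1 : Rel f g α) (h2 : Rel f h β) : Rel f (g * h) (α * β) := by
  intro y
  rw [MulAut.mul_apply, h1, h2]
  group

theorem Rel.inv {g : G} {α : MulAut (Y3 F)} (h1 : Rel f g α) : Rel f g⁻¹ α⁻¹ := by
  intro y
  have h2 := h1 (α⁻¹ y)
  rw [MulAut.apply_inv_self] at h2
  rw [h2]
  group

theorem Rel.one : Rel f 1 1 := by
  intro y
  rw [MulAut.one_apply, one_mul, inv_one, mul_one]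

theorem Rel.pow {g : G} {α : MulAut (Y3 F)} (h1 : Rel f g α) (n : ℕ) : Rel f (g ^ n) (α ^ n) := by
  induction n with
  | zero => rw [pow_zero, pow_zero]; exact Rel.one
  | succ n ih => rw [pow_succ, pow_succ]; exact ih.mul h1

theorem Rel.comm {g h : G} {α β : MulAut (Y3 F)} (h1 : Rel f g α) (h2 : Rel f h β) : Rel f ⁅g, h⁆ ⁅α, β⁆ := by
  rw [commutatorElement_def, commutatorElement_def]
  exact ((h1.mul h2).mul h1.inv).mul h2.inv

include hf in
theorem Rel.ext {g : G} {α β : MulAut (Y3 F)} (h1 : Rel f g α) (h2 : Rel f g β) : α = β := by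
  apply MulEquiv.ext
  intro y
  apply hf
  rw [h1, h2]

theorem Rel.mem_centralizer {g : G} {y : Y3 F} (h1 : Rel f g (MulAut.conj y)) :
    (f y)⁻¹ * g ∈ centralizer (f.range : Set G) := by
  rw [mem_centralizer_iff]
  rintro _ ⟨z, rfl⟩
  have h2 := h1 z
  rw [MulAut.conj_apply, map_mul, map_mul, map_inv] at h2
  calc f z * ((f y)⁻¹ * g) = (f y)⁻¹ * (f y * f z * (f y)⁻¹) * g := by group
    _ = (f y)⁻¹ * g * f z := by rw [h2]; group

theorem Rel.of_centralizer {g k : G} {y : Y3 F} (hk : k = f y) (h : k⁻¹ * g ∈ centralizer (f.range : Set G)) :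
    Rel f g (MulAut.conj y) := by
  intro z
  rw [MulAut.conj_apply, map_mul, map_mul, map_inv, ← hk]
  have h1 := mem_centralizer_iff.1 h (f z) ⟨z, rfl⟩
  calc k * f z * k⁻¹ = k * (f z * (k⁻¹ * g)) * g⁻¹ := by group
    _ = k * ((k⁻¹ * g) * f z) * g⁻¹ := by rw [h1]
    _ = g * f z * g⁻¹ := by group

include hf in
theorem exists_rel {g : G} (hg : g ∈ normalizer (f.range : Set G)) : ∃ α, Rel f g α := by
  have e := MonoidHom.ofInjective hf
  have h1 : ∀ y, ∃ z, f z = g * f y * g⁻¹ := fun y =>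
    ((mem_normalizer_iff.1 hg (f y)).1 ⟨y, rfl⟩)
  have h2 : ∀ y, ∃ z, f z = g⁻¹ * f y * g := fun y => by
    have := (mem_normalizer_iff.1 (inv_mem hg) (f y)).1 ⟨y, rfl⟩
    rw [inv_inv] at this
    exact this
  choose a ha using h1
  choose b hb using h2
  refine ⟨{ toFun := a, invFun := b, left_inv := ?_, right_inv := ?_, map_mul' := ?_ }, ?_⟩
  · intro y
    apply hf
    rw [hb, ha]; group
  · intro y
    apply hf
    rw [ha, hb]; group
  · intro x y
    apply hf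
    rw [ha, map_mul, map_mul, ha, ha]; group
  · intro y
    exact ha y

end rel

/-! ### The Sylow subgroup -/

section defs

variable (f : Y3 F →* G)

/-- the elements of the Sylow subgroup -/
def U (a b c : F) : G := f (pr (um a b c))

/-- the elements of the torus -/
def Tm (x y : Fˣ) : G := f (pr (hm x y))

theorem U_mul (a b c a' b' c' : F) : U f a b c * U f a' b' c' = U f (a + a') (b + b') (c + c' + a * b') := by
  unfold U; rw [← map_mul, ← map_mul, um_mul]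

theorem U_one : U f (0 : F) 0 0 = 1 := by unfold U; rw [um_zero, map_one, map_one]

theorem U_inv (a b c : F) : (U f a b c)⁻¹ = U f (-a) (-b) (a * b - c) := by
  unfold U; rw [← map_inv, ← map_inv, um_inv]

theorem Tm_mul (x y x' y' : Fˣ) : Tm f x y * Tm f x' y' = Tm f (x * x') (y * y') := by
  unfold Tm; rw [← map_mul, ← map_mul, hm_mul]

theorem Tm_one : Tm f (1 : Fˣ) 1 = 1 := by unfold Tm; rw [hm_one, map_one, map_one]

theorem Tm_inv (x y : Fˣ) : (Tm f x y)⁻¹ = Tm f x⁻¹ y⁻¹ := by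
  unfold Tm; rw [← map_inv, ← map_inv, hm_inv]

theorem Tm_U (x y : Fˣ) (a b c : F) :
    Tm f x y * U f a b c = U f ((x * y⁻¹ : Fˣ) * a) ((x * y ^ 2 : Fˣ) * b) ((x ^ 2 * y : Fˣ) * c) * Tm f x y := by
  unfold Tm U; rw [← map_mul, ← map_mul, hm_um, map_mul, map_mul]

theorem Tm_conj (x y : Fˣ) (a b c : F) :
    Tm f x y * U f a b c * (Tm f x y)⁻¹ = U f ((x * y⁻¹ : Fˣ) * a) ((x * y ^ 2 : Fˣ) * b) ((x ^ 2 * y : Fˣ) * c) := by
  rw [Tm_U, mul_inv_cancel_right]

/-- the Sylow subgroup -/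
def Sf : Subgroup G where
  carrier := {x | ∃ a b c, x = U f a b c}
  one_mem' := ⟨0, 0, 0, (U_one f).symm⟩
  mul_mem' := by
    rintro _ _ ⟨a, b, c, rfl⟩ ⟨a', b', c', rfl⟩
    exact ⟨_, _, _, U_mul f a b c a' b' c'⟩
  inv_mem' := by
    rintro _ ⟨a, b, c, rfl⟩
    exact ⟨_, _, _, U_inv f a b c⟩

/-- its centre -/
def Zf : Subgroup G where
  carrier := {x | ∃ c, x = U f 0 0 c}
  one_mem' := ⟨0, (U_one f).symm⟩
  mul_mem' := by
    rintro _ _ ⟨c, rfl⟩ ⟨c', rfl⟩
    exact ⟨c + c', by rw [U_mul]; congr 1 <;> ring⟩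
  inv_mem' := by
    rintro _ ⟨c, rfl⟩
    exact ⟨-c, by rw [U_inv]; congr 1 <;> ring⟩

/-- the torus -/
def Tf : Subgroup G where
  carrier := {t | ∃ x y, t = Tm f x y}
  one_mem' := ⟨1, 1, (Tm_one f).symm⟩
  mul_mem' := by
    rintro _ _ ⟨x, y, rfl⟩ ⟨x', y', rfl⟩
    exact ⟨_, _, Tm_mul f x y x' y'⟩
  inv_mem' := by
    rintro _ ⟨x, y, rfl⟩
    exact ⟨_, _, Tm_inv f x y⟩

/-- the elements of the torus centralising the centre -/
def Hf : Subgroup G where
  carrier := {t | ∃ x y, x ^ 2 * y = 1 ∧ t = Tm f x y}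
  one_mem' := ⟨1, 1, by simp, (Tm_one f).symm⟩
  mul_mem' := by
    rintro _ _ ⟨x, y, h, rfl⟩ ⟨x', y', h', rfl⟩
    refine ⟨_, _, ?_, Tm_mul f x y x' y'⟩
    calc (x * x') ^ 2 * (y * y') = (x ^ 2 * y) * (x' ^ 2 * y') := by
          rw [mul_pow]; ac_rfl
      _ = 1 := by rw [h, h', one_mul]
  inv_mem' := by
    rintro _ ⟨x, y, h, rfl⟩
    refine ⟨_, _, ?_, Tm_inv f x y⟩
    rw [inv_pow, ← mul_inv, h, inv_one]

theorem mem_Sf {x : G} : x ∈ Sf f ↔ ∃ a b c, x = U f a b c := Iff.rfl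
theorem mem_Zf {x : G} : x ∈ Zf f ↔ ∃ c, x = U f 0 0 c := Iff.rfl
theorem mem_Tf {t : G} : t ∈ Tf f ↔ ∃ x y, t = Tm f x y := Iff.rfl
theorem mem_Hf {t : G} : t ∈ Hf f ↔ ∃ x y, x ^ 2 * y = 1 ∧ t = Tm f x y := Iff.rfl

theorem U_mem (a b c : F) : U f a b c ∈ Sf f := ⟨a, b, c, rfl⟩
theorem Z_mem (c : F) : U f 0 0 c ∈ Zf f := ⟨c, rfl⟩
theorem Tm_mem (x y : Fˣ) : Tm f x y ∈ Tf f := ⟨x, y, rfl⟩
theorem Sf_le : Sf f ≤ f.range := by rintro _ ⟨a, b, c, rfl⟩; exact ⟨_, rfl⟩
theorem Zf_le : Zf f ≤ Sf f := by rintro _ ⟨c, rfl⟩; exact U_mem f 0 0 c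
theorem Tf_le : Tf f ≤ f.range := by rintro _ ⟨x, y, rfl⟩; exact ⟨_, rfl⟩
theorem Hf_le : Hf f ≤ Tf f := by rintro _ ⟨x, y, _, rfl⟩; exact Tm_mem f x y

theorem commute_U (a b c a' b' c' : F) (h : a * b' = a' * b) : U f a b c * U f a' b' c' = U f a' b' c' * U f a b c := by
  rw [U_mul, U_mul, add_comm a a', add_comm b b', h]
  congr 1
  ring

theorem comm_U (a b c a' b' c' : F) :
    U f a b c * U f a' b' c' * (U f a b c)⁻¹ * (U f a' b' c')⁻¹ = U f 0 0 (a * b' - a' * b) := by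
  have h1 : U f a b c * U f a' b' c' = U f 0 0 (a * b' - a' * b) * (U f a' b' c' * U f a b c) := by
    rw [U_mul, U_mul, U_mul]
    congr 1 <;> ring
  rw [h1]
  group

end defs

section inj

variable {f : Y3 F →* G} (hf : Function.Injective f)

include hf

theorem U_inj {a b c a' b' c' : F} (h : U f a b c = U f a' b' c') : a = a' ∧ b = b' ∧ c = c' :=
  pr_um_inj (hf h)

theorem U_mem_Z {a b c : F} : U f a b c ∈ Zf f ↔ a = 0 ∧ b = 0 := by
  constructor
  · rintro ⟨c', h⟩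
    have := U_inj hf h
    exact ⟨this.1, this.2.1⟩
  · rintro ⟨rfl, rfl⟩
    exact Z_mem f c

end inj

end Cfsg.Agent.OddHalf.D4.L3

end

-- merged: Cfsg.Agent.OddHalf.D4.L3.FrameK
section

/-!
# ODD, D4, row `L_3(2^a)`: the facts on `K`

* `K2r`, `K2s`, `K1` : elements of `N(K)` centralising two, three root groups;
* `upper_of_norm` : `N_K(Z)` is upper triangular;
* **`fr`** : `Fr f.range (Sf f) (Zf f) (Hf f)`.
-/

set_option autoImplicit false
set_option linter.unusedSectionVars false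

namespace Cfsg.Agent.OddHalf.D4.L3

open Cfsg.Agent.ClassicalGeometry.AutPSL.Root Cfsg.Agent.ClassicalGeometry.AutPSL.Auto
  Cfsg.Agent.ClassicalGeometry.AutPSL.Main Cfsg.Agent.OddHalf.D4.Basic
open Subgroup (normalizer centralizer mem_centralizer_iff mem_normalizer_iff zpowers)
open scoped commutatorElement

variable {F : Type*} [Field F] {G : Type*} [Group G]

variable {f : Y3 F →* G} (hf : Function.Injective f)

include hf in
theorem fix_of_comm {g : G} {α : MulAut (Y3 F)} (h : Rel f g α) {y : Y3 F} (hy : g * f y = f y * g) : α y = y := by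
  apply hf
  rw [h y, hy, mul_inv_cancel_right]

include hf in
/-- **(K2)** first row -/
theorem K2r [Finite F] {g : G} (hg : g ∈ normalizer (f.range : Set G)) (h1 : ∀ a c, g * U f a 0 c = U f a 0 c * g) :
    ∃ a c, (U f a 0 c)⁻¹ * g ∈ centralizer (f.range : Set G) := by
  obtain ⟨α, hα⟩ := exists_rel hf hg
  obtain ⟨a, c, rfl⟩ := fix_row (α := α) (fun a => fix_of_comm hf hα (h1 a 0)) (fun c => fix_of_comm hf hα (h1 0 c))
  exact ⟨a, c, hα.mem_centralizer⟩

include hf in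
/-- **(K2)** last column -/
theorem K2s [Finite F] {g : G} (hg : g ∈ normalizer (f.range : Set G)) (h1 : ∀ b c, g * U f 0 b c = U f 0 b c * g) :
    ∃ b c, (U f 0 b c)⁻¹ * g ∈ centralizer (f.range : Set G) := by
  obtain ⟨α, hα⟩ := exists_rel hf hg
  obtain ⟨b, c, rfl⟩ := fix_col (α := α) (fun a => fix_of_comm hf hα (h1 a 0)) (fun c => fix_of_comm hf hα (h1 0 c))
  exact ⟨b, c, hα.mem_centralizer⟩

include hf in
/-- **(K1)** -/
theorem K1 [Finite F] {g : G} (hg : g ∈ normalizer (f.range : Set G)) (h1 : ∀ a b c, g * U f a b c = U f a b c * g) :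
    ∃ c, (U f 0 0 c)⁻¹ * g ∈ centralizer (f.range : Set G) := by
  obtain ⟨a, c, h⟩ := K2r hf hg (fun a c => h1 a 0 c)
  have h2 := mem_centralizer_iff.1 h (U f 0 1 0) (Sf_le f (U_mem f 0 1 0))
  have h3 := h1 0 1 0
  have h4 : U f a 0 c * U f 0 1 0 = U f 0 1 0 * U f a 0 c := by
    calc U f a 0 c * U f 0 1 0 = U f a 0 c * (U f 0 1 0 * ((U f a 0 c)⁻¹ * g)) * g⁻¹ * U f a 0 c := by group
      _ = U f a 0 c * (((U f a 0 c)⁻¹ * g) * U f 0 1 0) * g⁻¹ * U f a 0 c := by rw [h2]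
      _ = (g * U f 0 1 0) * g⁻¹ * U f a 0 c := by group
      _ = U f 0 1 0 * U f a 0 c := by rw [h3]; group
  rw [U_mul, U_mul] at h4
  have h5 := (U_inj hf h4).2.2
  have h6 : a = 0 := by linear_combination h5
  subst h6
  exact ⟨c, h⟩

/-- the upper triangular elements of `K` -/
theorem upper_of_pr {g : SL3 F} {c c' : F} (hc : c ≠ 0) (h : pr (g * um 0 0 c * g⁻¹) = pr (um 0 0 c')) :
    ∃ (x y : Fˣ) (a b c : F), g = hm x y * um a b c := by
  have e : g * um 0 0 c * g⁻¹ = cj (Matrix.SpecialLinearGroup.toGL g) (um 0 0 c) := by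
    apply Subtype.ext
    rw [coe_cj, ← map_inv]
    rfl
  rw [e, um_eq02, um_eq02] at h
  have h1 := cj_transvection_eq h
  have h1' : g.1 * Matrix.single 0 2 c = Matrix.single 0 2 c' * g.1 := h1
  have a1 := ent h1' 1 2
  have a2 := ent h1' 2 2
  have a3 := ent h1' 0 1
  have a4 := ent h1' 0 0
  simp only [if_true, if_false, Fin.isValue, zero_ne_one, show (2 : Fin 3) ≠ 1 by decide,
    show (0 : Fin 3) ≠ 2 by decide, show (2 : Fin 3) ≠ 0 by decide] at a1 a2 a3 a4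
  have b1 : g.1 1 0 = 0 := (mul_eq_zero.1 a1).resolve_right hc
  have b2 : g.1 2 0 = 0 := (mul_eq_zero.1 a2).resolve_right hc
  have hc' : c' ≠ 0 := by
    rintro rfl
    have h2 : (g.1 * Matrix.single 0 2 c : Matrix (Fin 3) (Fin 3) F) 0 2 = 0 := by rw [h1']; simp
    rw [Matrix.mul_apply, Finset.sum_eq_single 0] at h2
    · simp only [Matrix.single_apply, and_self, if_true] at h2
      rcases mul_eq_zero.1 h2 with h3 | h3
      · have hd : g.1.det = 1 := g.2
        rw [Matrix.det_fin_three, b1, b2, h3] at hd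
        simp at hd
      · exact hc h3
    · intro b _ hb
      rw [Matrix.single_apply, if_neg (fun h => hb h.1.symm), mul_zero]
    · intro h4; exact absurd (Finset.mem_univ _) h4
  have b3 : g.1 2 1 = 0 := (mul_eq_zero.1 a3.symm).resolve_left hc'
  exact upper_decomp g b1 b2 b3

include hf in
/-- `N_K(Z)` -/
theorem upper_of_norm {k : G} (hk : k ∈ f.range) {c c' : F} (hc : c ≠ 0) (h : k * U f 0 0 c * k⁻¹ = U f 0 0 c') :
    ∃ x y a b c, k = Tm f x y * U f a b c := by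
  obtain ⟨y, rfl⟩ := hk
  obtain ⟨g, rfl⟩ := pr_surjective y
  have h1 : f (pr (g * um 0 0 c * g⁻¹)) = f (pr (um 0 0 c')) := by
    rw [map_mul, map_mul, map_mul, map_mul, map_inv, map_inv]
    exact h
  obtain ⟨x, y, a, b, c, rfl⟩ := upper_of_pr hc (hf h1)
  exact ⟨x, y, a, b, c, by unfold Tm U; rw [map_mul, map_mul]⟩

/-- unitriangular matrices -/
theorem upper_eq [Finite F] {g : SL3 F} : g ∈ Cfsg.Agent.ClassicalGeometry.AutPSL.SylowU.upper 3 F ↔
    ∃ a b c, g = um a b c := by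
  rw [Cfsg.Agent.ClassicalGeometry.AutPSL.SylowU.mem_upper]
  constructor
  · intro h
    refine ⟨g.1 0 1, g.1 1 2, g.1 0 2, ?_⟩
    apply sl3_ext
    intro i j
    have h00 := h 0 0 le_rfl
    have h11 := h 1 1 le_rfl
    have h22 := h 2 2 le_rfl
    have h10 := h 1 0 (by decide)
    have h20 := h 2 0 (by decide)
    have h21 := h 2 1 (by decide)
    simp only [if_true, if_false, Fin.isValue, one_ne_zero, show (2 : Fin 3) ≠ 1 by decide,
      show (2 : Fin 3) ≠ 0 by decide] at h00 h11 h22 h10 h20 h21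
    fin_cases i <;> fin_cases j <;> simp [um, h00, h11, h22, h10, h20, h21]
  · rintro ⟨a, b, c, rfl⟩ i j hij
    fin_cases i <;> fin_cases j <;> simp [um] at hij ⊢

/-- `K` is generated by the centralizers of the involutions of `S` -/
theorem gen_range (X : Subgroup G)
    (h1 : ∀ t, f (pr (lr t)) ∈ X) (h2 : ∀ t, f (pr (ls t)) ∈ X) (h3 : ∀ t, U f t 0 0 ∈ X) (h4 : ∀ t, U f 0 t 0 ∈ X)
    (h5 : ∀ t, U f 0 0 t ∈ X) : f.range ≤ X := by
  rintro _ ⟨y, rfl⟩
  obtain ⟨g, rfl⟩ := pr_surjective y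
  refine Cfsg.Agent.LieClassical.SLGen.transvection_induction (fun x => f (pr x) ∈ X) (fun i j hij c => ?_)
    (fun A B hA hB => ?_) g
  · fin_cases i <;> fin_cases j
    · exact absurd rfl hij
    · have := h3 c
      unfold U at this
      rw [um_eq01] at this
      exact this
    · have := h5 c
      unfold U at this
      rw [um_eq02] at this
      exact this
    · have := h2 c
      rw [ls_eq] at this
      exact this
    · exact absurd rfl hij
    · have := h4 c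
      unfold U at this
      rw [um_eq12] at this
      exact this
    · have e := l20 c
      have h6 : f (pr (lr c * ls 1 * lr (-c) * ls (-1))) ∈ X := by
        rw [map_mul, map_mul, map_mul, map_mul, map_mul, map_mul]
        exact mul_mem (mul_mem (mul_mem (h1 _) (h2 _)) (h1 _)) (h2 _)
      rw [← e] at h6
      exact h6
    · have := h1 c
      rw [lr_eq] at this
      exact this
    · exact absurd rfl hij
  · rw [map_mul, map_mul]
    exact mul_mem hA hB

theorem exists_cube_ne [Finite F] (h8 : 8 ≤ Nat.card F) : ∃ x : Fˣ, x ^ 3 ≠ 1 := by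
  by_contra hcon
  push Not at hcon
  have := Fintype.ofFinite F
  classical
  have h1 := IsCyclic.card_pow_eq_one_le (α := Fˣ) (n := 3) (by norm_num)
  rw [Finset.filter_true_of_mem (fun x _ => hcon x), Finset.card_univ, Fintype.card_units] at h1
  rw [Nat.card_eq_fintype_card] at h8
  omega

theorem char_two [Finite F] [CharP F 2] (x : F) : x + x = 0 := CharTwo.add_self_eq_zero x

section sylow

variable [Finite F] [CharP F 2]

theorem exists_syl : ∃ P : Sylow 2 (Y3 F), ∀ y, y ∈ (P : Subgroup (Y3 F)) ↔ ∃ a b c, y = pr (um a b c) := by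
  have := Fintype.ofFinite F
  have : Fact (Nat.Prime 2) := ⟨Nat.prime_two⟩
  obtain ⟨P, hP⟩ := Cfsg.Agent.ClassicalGeometry.AutPSL.SylowU.exists_sylow (F := F) 3 2
  refine ⟨P, fun y => ?_⟩
  rw [hP]
  constructor
  · rintro ⟨g, hg, rfl⟩
    obtain ⟨a, b, c, rfl⟩ := upper_eq.1 hg
    exact ⟨a, b, c, rfl⟩
  · rintro ⟨a, b, c, rfl⟩
    exact ⟨_, upper_eq.2 ⟨a, b, c, rfl⟩, rfl⟩

include hf in
theorem isSyl : IsSyl (Sf f) f.range := by
  obtain ⟨P, hP⟩ := exists_syl (F := F)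
  have e : (P : Subgroup (Y3 F)).map f = Sf f := by
    ext x
    constructor
    · rintro ⟨y, hy, rfl⟩
      obtain ⟨a, b, c, rfl⟩ := (hP y).1 hy
      exact U_mem f a b c
    · rintro ⟨a, b, c, rfl⟩
      exact ⟨_, (hP _).2 ⟨a, b, c, rfl⟩, rfl⟩
  refine ⟨?_, Sf_le f, ?_⟩
  · rw [← e]
    exact P.2.map f
  · intro Q hQ hle hQr x hx
    have h1 : IsPGroup 2 ↥(Q.comap f) := hQ.comap_of_injective f hf
    have h2 : (P : Subgroup (Y3 F)) ≤ Q.comap f := by
      intro y hy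
      rw [Subgroup.mem_comap]
      apply hle
      rw [← e]
      exact ⟨y, hy, rfl⟩
    have h3 := P.3 h1 h2
    obtain ⟨y, rfl⟩ := hQr hx
    have h4 : y ∈ Q.comap f := hx
    rw [h3] at h4
    rw [← e]
    exact ⟨y, h4, rfl⟩

/-- every involution of `K` is conjugate to an element of `Z` -/
theorem conj_Z (a b c : F) (h : a * b = 0) : ∃ (g : SL3 F) (c' : F), g * um a b c = um 0 0 c' * g := by
  rcases mul_eq_zero.1 h with rfl | rfl
  · by_cases hc : c = 0
    · subst hc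
      -- `um 0 b 0`
      refine ⟨ns, b, ns_um_b b⟩
    · refine ⟨ls (-(b / c)), c, ?_⟩
      rw [ls_um]
      congr 2
      field_simp
      ring
  · by_cases hc : c = 0
    · subst hc
      exact ⟨nr, -a, nr_um_a a⟩
    · refine ⟨lr (a / c), c, ?_⟩
      rw [lr_um]
      congr 2
      field_simp
      ring

theorem zc {z s : G} (hz : z ∈ Zf f) (hs : s ∈ Sf f) : z * s = s * z := by
  obtain ⟨c, rfl⟩ := hz
  obtain ⟨a', b', c', rfl⟩ := hs
  exact commute_U f _ _ _ _ _ _ (by ring)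

include hf in
theorem mul_zero_of_sq {a b c : F} (h : U f a b c * U f a b c = 1) : a * b = 0 := by
  rw [U_mul, char_two a, char_two b, char_two c, zero_add, ← U_one f] at h
  exact (U_inj hf h).2.2

include hf in
theorem inv_range [Finite G] : ∀ t ∈ f.range, orderOf t = 2 →
    ∃ k ∈ f.range, ∀ s ∈ Sf f, (k * s * k⁻¹) * t = t * (k * s * k⁻¹) := by
  intro t ht h2
  have hp : IsPGroup 2 ↥(zpowers t) := by
    rw [IsPGroup.iff_card]
    exact ⟨1, by rw [Nat.card_zpowers, h2, pow_one]⟩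
  obtain ⟨m, hm, hmt⟩ := (isSyl hf).conj_into hp (by rw [Subgroup.zpowers_le]; exact ht)
  obtain ⟨a, b, c, e⟩ := hmt t (Subgroup.mem_zpowers t)
  have hsq : U f a b c * U f a b c = 1 := by
    have h3 : t * t = 1 := by rw [← pow_two, ← h2, pow_orderOf_eq_one]
    calc U f a b c * U f a b c = m * t * m⁻¹ * (m * t * m⁻¹) := by rw [e]
      _ = m * (t * t) * m⁻¹ := by group
      _ = 1 := by rw [h3]; group
  obtain ⟨g, c', hg⟩ := conj_Z a b c (mul_zero_of_sq hf hsq)
  have hg' : f (pr g) * U f a b c = U f 0 0 c' * f (pr g) := by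
    unfold U
    rw [← map_mul, ← map_mul, ← map_mul, ← map_mul, hg]
  refine ⟨(f (pr g) * m)⁻¹, inv_mem (mul_mem ⟨_, rfl⟩ hm), ?_⟩
  intro s hs
  have hz := zc (Z_mem f c') hs
  have ht' : t = (f (pr g) * m)⁻¹ * U f 0 0 c' * (f (pr g) * m) := by
    calc t = m⁻¹ * (m * t * m⁻¹) * m := by group
      _ = m⁻¹ * (f (pr g))⁻¹ * (f (pr g) * U f a b c) * m := by rw [e]; group
      _ = _ := by rw [hg']; group
  set k0 := f (pr g) * m
  rw [ht', inv_inv]
  calc k0⁻¹ * s * k0 * (k0⁻¹ * U f 0 0 c' * k0) = k0⁻¹ * (s * U f 0 0 c') * k0 := by group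
    _ = k0⁻¹ * (U f 0 0 c' * s) * k0 := by rw [hz]
    _ = _ := by group

theorem gen_S : ∀ X : Subgroup G, (∀ e ∈ Sf f, orderOf e = 2 → ∀ k ∈ f.range, k * e = e * k → k ∈ X) →
    (Function.Injective f → f.range ≤ X) := by
  intro X h hf
  have ord : ∀ a b : F, (a = 1 ∧ b = 0) ∨ (a = 0 ∧ b = 1) → orderOf (U f a b 0) = 2 := by
    intro a b hab
    apply orderOf_eq_prime
    · rw [pow_two, U_mul, char_two a, char_two b, ← U_one f]
      congr 1
      rcases hab with ⟨rfl, rfl⟩ | ⟨rfl, rfl⟩ <;> ring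
    · rw [← U_one f]
      intro h0
      have h1 := U_inj hf h0
      rcases hab with ⟨rfl, rfl⟩ | ⟨rfl, rfl⟩
      · exact one_ne_zero h1.1
      · exact one_ne_zero h1.2.1
  have hr := h _ (U_mem f 1 0 0) (ord 1 0 (Or.inl ⟨rfl, rfl⟩))
  have hs := h _ (U_mem f 0 1 0) (ord 0 1 (Or.inr ⟨rfl, rfl⟩))
  apply gen_range X
  · intro t
    apply hr _ ⟨_, rfl⟩
    unfold U
    rw [← map_mul, ← map_mul, ← map_mul, ← map_mul, lr_um, zero_mul, sub_zero]
  · intro t
    apply hs _ ⟨_, rfl⟩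
    unfold U
    rw [← map_mul, ← map_mul, ← map_mul, ← map_mul, ls_um, mul_zero, add_zero]
  · intro t
    exact hr _ (Sf_le f (U_mem f _ _ _)) (commute_U f _ _ _ _ _ _ (by ring))
  · intro t
    exact hs _ (Sf_le f (U_mem f _ _ _)) (commute_U f _ _ _ _ _ _ (by ring))
  · intro t
    exact hr _ (Sf_le f (U_mem f _ _ _)) (commute_U f _ _ _ _ _ _ (by ring))

theorem S_le_comm (h8 : 8 ≤ Nat.card F) : Sf f ≤ ⁅Sf f, Hf f⁆ := by
  obtain ⟨x, hx⟩ := exists_cube_ne h8
  have hx3 : (x : F) ^ 3 ≠ 1 := by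
    intro h
    apply hx
    ext
    rw [Units.val_pow_eq_pow_val, h, Units.val_one]
  set y : Fˣ := (x ^ 2)⁻¹ with hy
  have hxy : x ^ 2 * y = 1 := by rw [hy, mul_inv_cancel]
  have hH : Tm f x y ∈ Hf f := ⟨x, y, hxy, rfl⟩
  have e1 : ((x * y⁻¹ : Fˣ) : F) = (x : F) ^ 3 := by
    rw [hy, inv_inv, Units.val_mul, Units.val_pow_eq_pow_val]; ring
  have e2 : ((x * y ^ 2 : Fˣ) : F) = ((x : F) ^ 3)⁻¹ := by
    have h1 : x * y ^ 2 = (x ^ 3)⁻¹ := by
      rw [eq_inv_iff_mul_eq_one]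
      calc x * y ^ 2 * x ^ 3 = (x ^ 2 * y) * (x ^ 2 * y) := by
            rw [show x ^ 3 = x ^ 2 * x from pow_succ x 2, pow_two y]
            calc x * (y * y) * (x ^ 2 * x) = x * x * y * (x ^ 2 * y) := by ac_rfl
              _ = x ^ 2 * y * (x ^ 2 * y) := by rw [pow_two]
        _ = 1 := by rw [hxy, one_mul]
    rw [h1, Units.val_inv_eq_inv_val, Units.val_pow_eq_pow_val]
  have ha : ∀ a, U f a 0 0 ∈ ⁅Sf f, Hf f⁆ := by
    intro a
    have hne : (1 : F) - (x : F) ^ 3 ≠ 0 := sub_ne_zero.2 hx3.symm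
    have h1 : ⁅U f (a / (1 - (x : F) ^ 3)) 0 0, Tm f x y⁆ ∈ ⁅Sf f, Hf f⁆ :=
      Subgroup.commutator_mem_commutator (U_mem f _ _ _) hH
    have h2 : ⁅U f (a / (1 - (x : F) ^ 3)) 0 0, Tm f x y⁆ = U f a 0 0 := by
      rw [commutatorElement_def]
      have : U f (a / (1 - (x : F) ^ 3)) 0 0 * Tm f x y * (U f (a / (1 - (x : F) ^ 3)) 0 0)⁻¹ * (Tm f x y)⁻¹ =
          U f (a / (1 - (x : F) ^ 3)) 0 0 * (Tm f x y * U f (a / (1 - (x : F) ^ 3)) 0 0 * (Tm f x y)⁻¹)⁻¹ := by group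
      rw [this, Tm_conj, e1, U_inv, U_mul]
      congr 1
      · field_simp
        ring
      · ring
      · ring
    rwa [h2] at h1
  have hb : ∀ a, U f 0 a 0 ∈ ⁅Sf f, Hf f⁆ := by
    intro a
    have hx3' : ((x : F) ^ 3)⁻¹ ≠ 1 := by
      intro h
      exact hx3 (inv_eq_one.1 h)
    have hne : (1 : F) - ((x : F) ^ 3)⁻¹ ≠ 0 := sub_ne_zero.2 hx3'.symm
    have h1 : ⁅U f 0 (a / (1 - ((x : F) ^ 3)⁻¹)) 0, Tm f x y⁆ ∈ ⁅Sf f, Hf f⁆ :=
      Subgroup.commutator_mem_commutator (U_mem f _ _ _) hH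
    have h2 : ⁅U f 0 (a / (1 - ((x : F) ^ 3)⁻¹)) 0, Tm f x y⁆ = U f 0 a 0 := by
      rw [commutatorElement_def]
      have : U f 0 (a / (1 - ((x : F) ^ 3)⁻¹)) 0 * Tm f x y * (U f 0 (a / (1 - ((x : F) ^ 3)⁻¹)) 0)⁻¹ * (Tm f x y)⁻¹ =
          U f 0 (a / (1 - ((x : F) ^ 3)⁻¹)) 0 * (Tm f x y * U f 0 (a / (1 - ((x : F) ^ 3)⁻¹)) 0 * (Tm f x y)⁻¹)⁻¹ := by
        group
      rw [this, Tm_conj, e2, U_inv, U_mul]
      congr 1
      · ring
      · have h5 : a / (1 - ((x : F) ^ 3)⁻¹) + -(((x : F) ^ 3)⁻¹ * (a / (1 - ((x : F) ^ 3)⁻¹))) =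
            (1 - ((x : F) ^ 3)⁻¹) * (a / (1 - ((x : F) ^ 3)⁻¹)) := by ring
        rw [h5, mul_div_cancel₀ _ hne]
      · ring
    rwa [h2] at h1
  have hc : ∀ a, U f 0 0 a ∈ ⁅Sf f, Hf f⁆ := by
    intro a
    have h1 := mul_mem (mul_mem (mul_mem (ha a) (hb 1)) (inv_mem (ha a))) (inv_mem (hb 1))
    rw [comm_U] at h1
    have h2 : a * 1 - 0 * 0 = a := by ring
    rwa [h2] at h1
  rintro _ ⟨a, b, c, rfl⟩
  have h1 := mul_mem (mul_mem (ha a) (hb b)) (hc (c - a * b))
  rw [U_mul, U_mul] at h1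
  have h2 : U f (a + 0 + 0) (0 + b + 0) (0 + 0 + a * b + (c - a * b) + (a + 0) * 0) = U f a b c := by
    congr 1 <;> ring
  rwa [h2] at h1

include hf in
theorem comm_range {A B : Subgroup G} (hA : IsPGroup 2 ↥A) (hAN : A ≤ normalizer (f.range : Set G))
    (hBN : B ≤ normalizer (f.range : Set G)) (h : A ≤ ⁅A, B⁆) {a : G} (ha : a ∈ A) :
    ∃ k ∈ f.range, k⁻¹ * a ∈ centralizer (f.range : Set G) := by
  -- the elements acting as elements of `PGL_3`
  let D : Subgroup G :=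
    { carrier := {x | ∃ C : Matrix.GeneralLinearGroup (Fin 3) F, Rel f x (lift (cj C))}
      one_mem' := ⟨1, by rw [map_one, map_one]; exact Rel.one⟩
      mul_mem' := by
        rintro x y ⟨C, hC⟩ ⟨C', hC'⟩
        exact ⟨C * C', by rw [map_mul, map_mul]; exact hC.mul hC'⟩
      inv_mem' := by
        rintro x ⟨C, hC⟩
        exact ⟨C⁻¹, by rw [map_inv, map_inv]; exact hC.inv⟩ }
  have h1 : ⁅A, B⁆ ≤ D := by
    rw [Subgroup.commutator_le]
    intro x hx y hy
    obtain ⟨α, hα⟩ := exists_rel hf (hAN hx)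
    obtain ⟨β, hβ⟩ := exists_rel hf (hBN hy)
    obtain ⟨C, hC⟩ := comm_pgl α β
    exact ⟨C, by rw [← hC]; exact hα.comm hβ⟩
  obtain ⟨C, hC⟩ := h1 (h ha)
  obtain ⟨k, hk⟩ := hA ⟨a, ha⟩
  have hk' : a ^ 2 ^ k = 1 := congrArg Subtype.val hk
  have h2 : lift (cj C) ^ 2 ^ k = (1 : MulAut (Y3 F)) := by
    have h3 := hC.pow (2 ^ k)
    rw [hk'] at h3
    exact h3.ext hf Rel.one
  obtain ⟨y, hy⟩ := mem_Inn.1 (inner_of_two h2)
  rw [hy] at hC
  exact ⟨f y, ⟨y, rfl⟩, hC.mem_centralizer⟩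

include hf in
theorem four_range {a b : G} (ha : a ∈ normalizer (f.range : Set G)) (hb : b ∈ normalizer (f.range : Set G))
    (ha2 : a * a = 1) (hb2 : b * b = 1) (hab : a * b = b * a)
    (hn : ∀ v, v = a ∨ v = b ∨ v = a * b → ∀ k ∈ f.range, k⁻¹ * v ∉ centralizer (f.range : Set G))
    (za : ∀ z ∈ Zf f, a * z * a⁻¹ ∈ Zf f) (zb : ∀ z ∈ Zf f, b * z * b⁻¹ ∈ Zf f)
    (hc : ∀ v, v = a ∨ v = b ∨ v = a * b → (∀ z ∈ Zf f, v * z = z * v) →
      (∀ z ∈ Zf f, a * z = z * a) ∧ ∀ z ∈ Zf f, b * z = z * b) : False := by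
  obtain ⟨α, hα⟩ := exists_rel hf ha
  obtain ⟨β, hβ⟩ := exists_rel hf hb
  have hαβ := hα.mul hβ
  have key : ∀ v γ, Rel f v γ → (∀ k ∈ f.range, k⁻¹ * v ∉ centralizer (f.range : Set G)) → γ ∉ Inn (Y3 F) := by
    intro v γ h h1 h2
    obtain ⟨y, rfl⟩ := mem_Inn.1 h2
    exact h1 (f y) ⟨y, rfl⟩ h.mem_centralizer
  have hz : ∀ v γ, Rel f v γ → (∀ z ∈ Zf f, v * z * v⁻¹ ∈ Zf f) → ∀ c, ∃ c', γ (pr (um 0 0 c)) = pr (um 0 0 c') := by
    intro v γ h h1 c
    obtain ⟨c', hc'⟩ := h1 _ (Z_mem f c)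
    refine ⟨c', hf ?_⟩
    rw [h]
    exact hc'
  have hfix : ∀ v γ, Rel f v γ → ((∀ z ∈ Zf f, v * z = z * v) ↔ ∀ c, γ (pr (um 0 0 c)) = pr (um 0 0 c)) := by
    intro v γ h
    constructor
    · intro h1 c
      apply hf
      rw [h]
      have := h1 _ (Z_mem f c)
      unfold U at this
      rw [this, mul_inv_cancel_right]
    · rintro h1 _ ⟨c, rfl⟩
      have h2 := h (pr (um 0 0 c))
      rw [h1 c] at h2
      unfold U
      rw [eq_mul_inv_iff_mul_eq] at h2
      exact h2.symm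
  refine no_four (a := α) (b := β) ?_ ?_ ?_ (key a α hα (hn a (Or.inl rfl))) (key b β hβ (hn b (Or.inr (Or.inl rfl))))
    (key _ _ hαβ (hn _ (Or.inr (Or.inr rfl)))) (hz a α hα za) (hz b β hβ zb) ?_
  · have := hα.mul hα
    rw [ha2] at this
    exact this.ext hf Rel.one
  · have := hβ.mul hβ
    rw [hb2] at this
    exact this.ext hf Rel.one
  · have := hβ.mul hα
    rw [← hab] at this
    exact hαβ.ext hf this
  · intro γ hγ h1
    have h2 : ∃ v, (v = a ∨ v = b ∨ v = a * b) ∧ Rel f v γ := by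
      rcases hγ with rfl | rfl | rfl
      · exact ⟨a, Or.inl rfl, hα⟩
      · exact ⟨b, Or.inr (Or.inl rfl), hβ⟩
      · exact ⟨_, Or.inr (Or.inr rfl), hαβ⟩
    obtain ⟨v, hv, hvγ⟩ := h2
    obtain ⟨h3, h4⟩ := hc v hv ((hfix v γ hvγ).2 h1)
    exact ⟨(hfix a α hα).1 h3, (hfix b β hβ).1 h4⟩

include hf in
/-- **the facts on `K`** -/
theorem fr [Finite G] (h8 : 8 ≤ Nat.card F)
    (hctr : ∀ k ∈ f.range, k ∈ centralizer (f.range : Set G) → k = 1) : Fr f.range (Sf f) (Zf f) (Hf f) where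
  SK := Sf_le f
  ZS := Zf_le f
  HK := (Hf_le f).trans (Tf_le f)
  syl := isSyl hf
  ctr := hctr
  zc := fun z hz s hs => zc hz hs
  z2 := by
    rintro _ ⟨c, rfl⟩
    rw [U_mul, char_two c, ← U_one f]
    congr 1 <;> ring
  cm := by
    rintro _ ⟨a, b, c, rfl⟩ _ ⟨a', b', c', rfl⟩
    rw [comm_U]
    exact Z_mem f _
  on := by
    rintro _ ⟨a, b, c, rfl⟩ hn _ ⟨z, rfl⟩
    rw [U_mem_Z hf] at hn
    by_cases ha : a = 0
    · subst ha
      have hb : b ≠ 0 := fun hb => hn ⟨rfl, hb⟩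
      refine ⟨U f (-(z / b)) 0 0, U_mem f _ _ _, ?_⟩
      rw [comm_U]
      congr 1
      field_simp
      ring
    · refine ⟨U f 0 (z / a) 0, U_mem f _ _ _, ?_⟩
      rw [comm_U]
      congr 1
      field_simp
      ring
  ne := ⟨U f 0 0 1, Z_mem f 1, fun h => by
    rw [← U_one f] at h
    exact one_ne_zero (U_inj hf h).2.2⟩
  zne := ⟨U f 1 0 0, U_mem f _ _ _, fun h => by
    rw [U_mem_Z hf] at h
    exact one_ne_zero h.1⟩
  hz := by
    rintro _ ⟨x, y, hxy, rfl⟩ _ ⟨c, rfl⟩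
    rw [Tm_U, hxy]
    congr 2 <;> simp
  hs := by
    rintro _ ⟨x, y, hxy, rfl⟩ _ ⟨a, b, c, rfl⟩
    rw [Tm_conj]
    exact U_mem f _ _ _
  sh := S_le_comm h8
  F1 := by
    intro y hy h
    obtain ⟨c, hc⟩ := K1 hf hy (fun a b c => h _ (U_mem f a b c))
    exact ⟨_, Z_mem f c, hc⟩
  O := fun A B hA hAN hBN h a ha => comm_range hf hA hAN hBN h ha
  inv := inv_range hf
  V := fun a b ha hb ha2 hb2 hab hn za zb hc => four_range hf ha hb ha2 hb2 hab hn za zb hc
  gen := fun X h => gen_S X h hf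

end sylow

end Cfsg.Agent.OddHalf.D4.L3

end
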