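import Cfsg.Agent.OddHalf.DblR.FamP
import Cfsg.Agent.OddHalf.D4.L3.FrameK
import Cfsg.Agent.StdRank2.L3Env

-- merged: Cfsg.Agent.OddHalf.D4.L3.DblNorm
section

/-!
# ODD, D4, row l3e (text #14806 (C)): the double over a Sylow 2-subgroup, NORM TRICK

`S` a Sylow 2-subgroup of `K` with centre `X` (a root group), `[S, S] ≤ X`; `T0` the torus of `⟨X_ρ, X_{-ρ}⟩`;
`h0 ∈ K` an element of odd order normalising `S`, centralising `X`, without fixed points on `S / X`.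

* `Exist.Env.exists_v0_norm` : `y` trivial on `X` and on `S / X` with `[y, R] ≤ X`; then `v0 = (y h0)^m` centralises `S`
  and `[v0, r] = [y, r]`;
* `NLoc` : the local situation (`Loc` with `P = Q = S`, without `B`);
* **`NLoc.exists_dw`**, **`NLoc.exists_base`** : the doubled root group;
* **`NLoc.false`** : with `KTriP`: no `g` normalising `S`, `X`, `R X` moves `R`.
-/

set_option autoImplicit false

namespace Cfsg.Agent.OddHalf.DblR

open Cfsg.Agent.Nodes.Reps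

variable {G : Type*} [Group G]

namespace Exist.Env

variable {K R X S T0 : Subgroup G}

/-- **The norm trick.** -/
theorem exists_v0_norm (E : Env K R X S S T0) (SS : ∀ s ∈ S, ∀ s' ∈ S, s * s' * s⁻¹ * s'⁻¹ ∈ X)
    {h0 : G} (h0K : h0 ∈ K) (h0S : ∀ s ∈ S, h0 * s * h0⁻¹ ∈ S) (h0X : ∀ x ∈ X, h0 * x = x * h0)
    {m : ℕ} (hm : Odd m) (h0m : h0 ^ m = 1) (h0f : ∀ s ∈ S, h0 * s * h0⁻¹ * s⁻¹ ∈ X → s ∈ X)
    {y : G} (yX : ∀ x ∈ X, y * x = x * y) (yS : ∀ s ∈ S, y * s * y⁻¹ * s⁻¹ ∈ X) (yR : ∀ r ∈ R, δ r y ∈ X)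
    {b : G} (hb : b ∈ R) (yb : δ b y ≠ 1) : ∃ v0 ∈ E.V, δ b v0 ≠ 1 := by
  have XXc : ∀ x ∈ X, ∀ s ∈ S, x * s = s * x := E.XPc
  have XS : X ≤ S := E.XP
  set a := y * h0 with ha
  have aX : ∀ x ∈ X, a * x = x * a := by
    intro x hx
    rw [ha, mul_assoc, h0X x hx, ← mul_assoc, yX x hx, mul_assoc]
  have aXn : ∀ n : ℕ, ∀ x ∈ X, a ^ n * x = x * a ^ n := fun n x hx =>
    ((show Commute a x from aX x hx).pow_left n)
  -- action of `a`
  have aS : ∀ s ∈ S, ∃ x ∈ X, a * s * a⁻¹ = x * (h0 * s * h0⁻¹) := by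
    intro s hs
    refine ⟨_, yS _ (h0S s hs), ?_⟩
    rw [ha]; group
  have h0n : ∀ n : ℕ, ∀ s ∈ S, h0 ^ n * s * (h0 ^ n)⁻¹ ∈ S := by
    intro n
    induction n with
    | zero => intro s hs; simpa using hs
    | succ n ih =>
      intro s hs
      have := h0S _ (ih s hs)
      rw [show h0 ^ (n + 1) * s * (h0 ^ (n + 1))⁻¹ = h0 * (h0 ^ n * s * (h0 ^ n)⁻¹) * h0⁻¹ by
        rw [pow_succ']; group]
      exact this
  have aSn : ∀ n : ℕ, ∀ s ∈ S, ∃ x ∈ X, a ^ n * s * (a ^ n)⁻¹ = x * (h0 ^ n * s * (h0 ^ n)⁻¹) := by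
    intro n
    induction n with
    | zero => intro s _; exact ⟨1, one_mem _, by simp⟩
    | succ n ih =>
      intro s hs
      obtain ⟨x, hx, e⟩ := ih s hs
      obtain ⟨x', hx', e'⟩ := aS _ (h0n n s hs)
      refine ⟨x * x', mul_mem hx hx', ?_⟩
      calc a ^ (n + 1) * s * (a ^ (n + 1))⁻¹ = a * (a ^ n * s * (a ^ n)⁻¹) * a⁻¹ := by rw [pow_succ']; group
        _ = (a * x) * (h0 ^ n * s * (h0 ^ n)⁻¹) * a⁻¹ := by rw [e]; group
        _ = x * (a * (h0 ^ n * s * (h0 ^ n)⁻¹) * a⁻¹) := by rw [aX x hx]; group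
        _ = x * x' * (h0 ^ (n + 1) * s * (h0 ^ (n + 1))⁻¹) := by rw [e', pow_succ']; group
  -- `v0 = a ^ m`, `θ s = v0 s v0⁻¹ s⁻¹`
  set v := a ^ m with hv
  have hθ : ∀ s ∈ S, v * s * v⁻¹ * s⁻¹ ∈ X := by
    intro s hs
    obtain ⟨x, hx, e⟩ := aSn m s hs
    rw [h0m] at e
    rw [e]
    simpa using hx
  have hvX : ∀ x ∈ X, v * x = x * v := aXn m
  have hmul : ∀ s ∈ S, ∀ s' ∈ S, v * (s * s') * v⁻¹ * (s * s')⁻¹ = (v * s * v⁻¹ * s⁻¹) * (v * s' * v⁻¹ * s'⁻¹) := by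
    intro s hs s' hs'
    have h1 := XXc _ (hθ s' hs') s hs
    calc v * (s * s') * v⁻¹ * (s * s')⁻¹ = (v * s * v⁻¹ * s⁻¹) * (s * (v * s' * v⁻¹ * s'⁻¹)) * s⁻¹ := by group
      _ = _ := by rw [← h1]; group
  -- `θ (h0 s h0⁻¹) = θ s`
  have hinv : ∀ s ∈ S, v * (h0 * s * h0⁻¹) * v⁻¹ * (h0 * s * h0⁻¹)⁻¹ = v * s * v⁻¹ * s⁻¹ := by
    intro s hs
    obtain ⟨x, hx, e⟩ := aS s hs
    have hc : a * v = v * a := by rw [hv]; exact (Commute.refl a).pow_right m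
    have hc' : a⁻¹ * v⁻¹ = v⁻¹ * a⁻¹ := by rw [← mul_inv_rev, ← mul_inv_rev, hc]
    have h1 : v * (a * s * a⁻¹) * v⁻¹ * (a * s * a⁻¹)⁻¹ = a * (v * s * v⁻¹ * s⁻¹) * a⁻¹ := by
      calc v * (a * s * a⁻¹) * v⁻¹ * (a * s * a⁻¹)⁻¹ = (v * a) * s * (a⁻¹ * v⁻¹) * (a * s * a⁻¹)⁻¹ := by group
        _ = (a * v) * s * (v⁻¹ * a⁻¹) * (a * s * a⁻¹)⁻¹ := by rw [hc', hc]
        _ = _ := by group
    rw [aX _ (hθ s hs), mul_inv_cancel_right, e, hmul x (XS hx) _ (h0S s hs)] at h1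
    rw [hvX x hx] at h1
    rw [← h1]; group
  -- the norm
  have hN : ∀ n : ℕ, ∀ s ∈ S, (s * h0) ^ n * (h0 ^ n)⁻¹ ∈ S ∧
      v * ((s * h0) ^ n * (h0 ^ n)⁻¹) * v⁻¹ * ((s * h0) ^ n * (h0 ^ n)⁻¹)⁻¹ = (v * s * v⁻¹ * s⁻¹) ^ n := by
    intro n s hs
    induction n with
    | zero => simp
    | succ n ih =>
      have e : (s * h0) ^ (n + 1) * (h0 ^ (n + 1))⁻¹ = s * (h0 * ((s * h0) ^ n * (h0 ^ n)⁻¹) * h0⁻¹) := by
        rw [pow_succ' (s * h0), pow_succ h0 n]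
        simp only [mul_inv_rev, mul_assoc]
        congr 3
        rw [← mul_inv_rev, ← mul_inv_rev, ← pow_succ, ← pow_succ']
      rw [e]
      refine ⟨mul_mem hs (h0S _ ih.1), ?_⟩
      rw [hmul s hs _ (h0S _ ih.1), hinv _ ih.1, ih.2, pow_succ']
  have hvS : ∀ s ∈ S, v * s = s * v := by
    intro s hs
    obtain ⟨h1, h2⟩ := hN m s hs
    rw [h0m, inv_one, mul_one] at h1 h2
    -- `N = (s h0) ^ m` is fixed by `h0` modulo `X`
    have h3 : (s * h0) ^ m ∈ X := by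
      apply h0f _ h1
      have e : h0 * (s * h0) ^ m * h0⁻¹ * ((s * h0) ^ m)⁻¹ = s⁻¹ * (s * h0) ^ m * s⁻¹⁻¹ * ((s * h0) ^ m)⁻¹ := by
        have key : ∀ w : G, h0 = s⁻¹ * w →
            h0 * w ^ m * h0⁻¹ * (w ^ m)⁻¹ = s⁻¹ * w ^ m * s⁻¹⁻¹ * (w ^ m)⁻¹ := by
          intro w hw
          have hc : w * w ^ m = w ^ m * w := (Commute.refl w).pow_right m
          calc h0 * w ^ m * h0⁻¹ * (w ^ m)⁻¹ = s⁻¹ * (w * w ^ m) * w⁻¹ * s * (w ^ m)⁻¹ := by rw [hw]; group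
            _ = _ := by rw [hc]; group
        exact key _ (by group)
      rw [e]
      exact SS _ (inv_mem hs) _ h1
    have h4 : v * (s * h0) ^ m * v⁻¹ * ((s * h0) ^ m)⁻¹ = 1 := by
      rw [hvX _ h3]; group
    rw [h4] at h2
    have h5 : v * s * v⁻¹ * s⁻¹ = 1 := by
      obtain ⟨k, rfl⟩ := hm
      have h6 := E.Xsq _ (hθ s hs)
      rw [pow_succ, pow_mul, pow_two, h6, one_pow, one_mul] at h2
      exact h2.symm
    calc v * s = (v * s * v⁻¹ * s⁻¹) * s * v := by group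
      _ = s * v := by rw [h5, one_mul]
  -- `[v, r] = [y, r]`
  have haδ : ∀ r ∈ R, δ r a = δ r y := by
    intro r hr
    have h1 : h0 * r = r * h0 := (E.RK r hr h0 h0K).symm
    unfold δ
    rw [ha]
    calc y * h0 * r * (y * h0)⁻¹ * r⁻¹ = y * (h0 * r) * h0⁻¹ * y⁻¹ * r⁻¹ := by group
      _ = y * r * y⁻¹ * r⁻¹ := by rw [h1]; group
  have hvδ : ∀ r ∈ R, δ r v = δ r y := by
    intro r hr
    have h1 : a * δ r a = δ r a * a := aX _ (by rw [haδ r hr]; exact yR r hr)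
    rw [hv, δ_pow h1, haδ r hr]
    obtain ⟨k, rfl⟩ := hm
    rw [pow_succ, pow_mul, pow_two, E.Xsq _ (yR r hr), one_pow, one_mul]
  exact ⟨v, ⟨hvS, fun r hr => by rw [hvδ r hr]; exact yR r hr⟩, by rw [hvδ b hb]; exact yb⟩

/-- the element `y`: trivial on `X` and on `S / X`, `[y, R] ≤ X`, `[y, R] ≠ 1` -/
theorem exists_y [Finite G] (E : Env K R X S S T0)
    (k4 : ∀ g : G, (∀ p ∈ S, g * p * g⁻¹ ∈ S) → (∀ x ∈ X, g * x * g⁻¹ ∈ X) → ∀ h1 ∈ T0, ∃ h ∈ T0,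
      (∀ p ∈ S, (g * h1 * g⁻¹) * p * (g * h1 * g⁻¹)⁻¹ * (h * p * h⁻¹)⁻¹ ∈ X) ∧
      ∀ x ∈ X, (g * h1 * g⁻¹) * x * (g * h1 * g⁻¹)⁻¹ = h * x * h⁻¹)
    {g : G} (gS : ∀ p ∈ S, g * p * g⁻¹ ∈ S) (gX : ∀ x ∈ X, g * x * g⁻¹ ∈ X)
    (gR : ∀ a ∈ R, ∃ b ∈ R, ∃ x ∈ X, g * a * g⁻¹ = b * x) (hg : ∃ a ∈ R, g * a * g⁻¹ ∉ R) :
    ∃ y : G, (∀ x ∈ X, y * x = x * y) ∧ (∀ s ∈ S, y * s * y⁻¹ * s⁻¹ ∈ X) ∧ (∀ r ∈ R, δ r y ∈ X) ∧
      ∃ b ∈ R, δ b y ≠ 1 := by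
  obtain ⟨h1, hh1, x1, hx1, hne1⟩ := E.Tne
  have hfp : ∀ y ∈ X, y ≠ 1 → h1 * y * h1⁻¹ ≠ y := fun y hy hy1 => E.fpf hh1 hx1 hne1 hy hy1
  have gX' := conj_inv_mem gX
  have gS' := conj_inv_mem gS
  obtain ⟨h, hh, hhS, hhX⟩ := k4 g gS gX h1 hh1
  set e := g * h1 * g⁻¹ with he
  obtain ⟨a, ha, haR⟩ := hg
  obtain ⟨b, hb, x, hx, hab⟩ := gR a ha
  have hxne : x ≠ 1 := by
    rintro rfl
    rw [mul_one] at hab
    exact haR (by rw [hab]; exact hb)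
  have hea : ∀ a ∈ R, e * (g * a * g⁻¹) = (g * a * g⁻¹) * e := by
    intro a ha
    have := E.TR hh1 ha
    calc e * (g * a * g⁻¹) = g * (h1 * a) * g⁻¹ := by rw [he]; group
      _ = g * (a * h1) * g⁻¹ := by rw [this]
      _ = (g * a * g⁻¹) * e := by rw [he]; group
  have heX : ∀ x ∈ X, e * x * e⁻¹ ∈ X := by
    intro x hx
    rw [hhX x hx]
    exact E.TX h hh x hx
  have hefp : ∀ x ∈ X, x ≠ 1 → e * x * e⁻¹ ≠ x := by
    intro x hx hx1 hex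
    refine hfp (g⁻¹ * x * g) (gX' x hx) ?_ ?_
    · intro h
      apply hx1
      rw [show x = g * (g⁻¹ * x * g) * g⁻¹ by group, h]; group
    · calc h1 * (g⁻¹ * x * g) * h1⁻¹ = g⁻¹ * (e * x * e⁻¹) * g := by rw [he]; group
        _ = g⁻¹ * x * g := by rw [hex]
  -- `e` does not commute with `b`
  have heb : e * b ≠ b * e := by
    intro h
    refine hefp x hx hxne ?_
    have h1 := hea a ha
    rw [hab] at h1
    have h2 : e * x = x * e := by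
      calc e * x = e * (b⁻¹ * (b * x)) := by group
        _ = (e * b⁻¹) * (b * x) := by group
        _ = (b⁻¹ * (b * e) * b⁻¹) * (b * x) := by group
        _ = (b⁻¹ * (e * b) * b⁻¹) * (b * x) := by rw [h]
        _ = b⁻¹ * (e * (b * x)) := by group
        _ = b⁻¹ * ((b * x) * e) := by rw [h1]
        _ = x * e := by group
    rw [h2, mul_inv_cancel_right]
  -- `[e, R] ≤ X`
  have heR : ∀ r ∈ R, e * r * e⁻¹ * r⁻¹ ∈ X := by
    intro r hr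
    obtain ⟨s, hs, y, hy, hrs⟩ : ∃ s ∈ R, ∃ y ∈ X, r = (g * s * g⁻¹) * y := by
      let RX : Subgroup G :=
        { carrier := {z | ∃ s ∈ R, ∃ y ∈ X, z = s * y}
          one_mem' := ⟨1, one_mem _, 1, one_mem _, by group⟩
          mul_mem' := by
            rintro _ _ ⟨s, hs, y, hy, rfl⟩ ⟨s', hs', y', hy', rfl⟩
            refine ⟨s * s', mul_mem hs hs', y * y', mul_mem hy hy', ?_⟩
            have := E.RX hs' hy
            calc s * y * (s' * y') = s * (y * s') * y' := by group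
              _ = s * (s' * y) * y' := by rw [this]
              _ = _ := by group
          inv_mem' := by
            rintro _ ⟨s, hs, y, hy, rfl⟩
            refine ⟨s⁻¹, inv_mem hs, y⁻¹, inv_mem hy, ?_⟩
            rw [mul_inv_rev, E.RX (inv_mem hs) (inv_mem hy)] }
      have hRX : ∀ z ∈ RX, g * z * g⁻¹ ∈ RX := by
        rintro _ ⟨s, hs, y, hy, rfl⟩
        obtain ⟨b, hb, x, hx, h⟩ := gR s hs
        refine ⟨b, hb, x * (g * y * g⁻¹), mul_mem hx (gX y hy), ?_⟩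
        calc g * (s * y) * g⁻¹ = (g * s * g⁻¹) * (g * y * g⁻¹) := by group
          _ = b * (x * (g * y * g⁻¹)) := by rw [h]; group
      obtain ⟨s, hs, y, hy, h⟩ := conj_inv_mem hRX r ⟨r, hr, 1, one_mem _, by group⟩
      refine ⟨s, hs, g * y * g⁻¹, gX y hy, ?_⟩
      calc r = g * (g⁻¹ * r * g) * g⁻¹ := by group
        _ = (g * s * g⁻¹) * (g * y * g⁻¹) := by rw [h]; group
    have e1 : r = y * (g * s * g⁻¹) := by
      have : g * s * g⁻¹ = r * y⁻¹ := by rw [hrs]; group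
      rw [this, ← mul_assoc, ← E.RX hr hy]; group
    have e2 := hea s hs
    have e3 : e * r * e⁻¹ * r⁻¹ = (e * y * e⁻¹) * y⁻¹ := by
      nth_rewrite 1 [e1]
      calc e * (y * (g * s * g⁻¹)) * e⁻¹ * r⁻¹ = e * y * ((g * s * g⁻¹) * e⁻¹) * r⁻¹ := by group
        _ = e * y * (e⁻¹ * (e * (g * s * g⁻¹)) * e⁻¹) * r⁻¹ := by group
        _ = e * y * e⁻¹ * (g * s * g⁻¹) * r⁻¹ := by rw [e2]; group
        _ = (e * y * e⁻¹) * y⁻¹ := by rw [e1]; group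
    rw [e3]
    exact mul_mem (heX y hy) (inv_mem hy)
  have hh' := inv_mem hh
  refine ⟨h⁻¹ * e, fun x hx => ?_, fun p hp => ?_, fun r hr => ?_, b, hb, ?_⟩
  · have := hhX x hx
    calc h⁻¹ * e * x = h⁻¹ * (e * x * e⁻¹) * e := by group
      _ = x * (h⁻¹ * e) := by rw [this]; group
  · have h2 := E.TX _ hh' _ (hhS p hp)
    rwa [show h⁻¹ * (e * p * e⁻¹ * (h * p * h⁻¹)⁻¹) * h⁻¹⁻¹ = h⁻¹ * e * p * (h⁻¹ * e)⁻¹ * p⁻¹ by group] at h2
  · have h2 := E.TX _ hh' _ (heR r hr)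
    have h3 : h⁻¹ * r * h = r := by rw [mul_assoc, E.TR hh hr, inv_mul_cancel_left]
    have h4 : δ r (h⁻¹ * e) = h⁻¹ * (e * r * e⁻¹ * r⁻¹) * h⁻¹⁻¹ := by
      unfold δ
      calc h⁻¹ * e * r * (h⁻¹ * e)⁻¹ * r⁻¹ = h⁻¹ * (e * r * e⁻¹) * h * r⁻¹ := by group
        _ = h⁻¹ * (e * r * e⁻¹) * h * (h⁻¹ * r * h)⁻¹ := by rw [h3]
        _ = _ := by group
    rw [h4]; exact h2
  · rw [Ne, δ_eq_one_iff]
    intro h2
    apply heb
    calc e * b = h * (h⁻¹ * e * b) := by group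
      _ = (h * b) * (h⁻¹ * e) := by rw [h2]; group
      _ = b * e := by rw [← E.TR hh hb]; group

end Exist.Env

/-! ### The local situation -/

/-- **The local situation** over a Sylow 2-subgroup `S` of `K` with centre `X`. -/
structure NLoc (K R S X T0 : Subgroup G) : Prop where
  amb : Amb K R
  SK : S ≤ K
  XS : X ≤ S
  XX : ∀ x ∈ X, x * x = 1
  XZ : ∀ x ∈ X, ∀ p ∈ S, x * p = p * x
  SS : ∀ s ∈ S, ∀ s' ∈ S, s * s' * s⁻¹ * s'⁻¹ ∈ X
  TK : T0 ≤ K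
  TX : ∀ h ∈ T0, ∀ x ∈ X, h * x * h⁻¹ ∈ X
  TS : ∀ h ∈ T0, ∀ p ∈ S, h * p * h⁻¹ ∈ S
  Tab : ∀ h ∈ T0, ∀ k ∈ T0, h * k = k * h
  Ttr : ∀ x ∈ X, x ≠ 1 → ∀ y ∈ X, y ≠ 1 → ∃ h ∈ T0, h * x * h⁻¹ = y
  big : ∃ x ∈ X, ∃ y ∈ X, x ≠ 1 ∧ y ≠ 1 ∧ x ≠ y
  two : ∀ c ∈ C1 K R, IsPGroup 2 (Subgroup.zpowers c) → c ∈ R
  k3 : ∀ c : G, (∀ a ∈ R, c * a = a * c) → (∀ p ∈ S, c * p = p * c) → ∃ x ∈ X, x⁻¹ * c ∈ C1 K R
  k4 : ∀ g : G, (∀ p ∈ S, g * p * g⁻¹ ∈ S) → (∀ x ∈ X, g * x * g⁻¹ ∈ X) → ∀ h1 ∈ T0, ∃ h ∈ T0,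
      (∀ p ∈ S, (g * h1 * g⁻¹) * p * (g * h1 * g⁻¹)⁻¹ * (h * p * h⁻¹)⁻¹ ∈ X) ∧
      ∀ x ∈ X, (g * h1 * g⁻¹) * x * (g * h1 * g⁻¹)⁻¹ = h * x * h⁻¹
  /-- an element of odd order centralising `X`, without fixed points on `S / X` -/
  h0 : ∃ h0 ∈ K, (∀ s ∈ S, h0 * s * h0⁻¹ ∈ S) ∧ (∀ x ∈ X, h0 * x = x * h0) ∧ (∃ m : ℕ, Odd m ∧ h0 ^ m = 1) ∧
    ∀ s ∈ S, h0 * s * h0⁻¹ * s⁻¹ ∈ X → s ∈ X

namespace NLoc

variable {K R S X T0 : Subgroup G}

open Exist Exist.Env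

theorem env (L : NLoc K R S X T0) : Env K R X S S T0 where
  RK := L.amb.comm
  Rsq := L.amb.tt
  C1R := fun c h1 h2 _ hj => L.two c (mem_C1.2 ⟨h1, h2⟩) (isPGroup_zpowers hj)
  PK := L.SK
  QP := le_rfl
  TK := L.TK
  XP := L.XS
  Xsq := L.XX
  XPc := L.XZ
  Xc := fun x hx h => L.amb.ctr x (L.SK (L.XS hx)) h
  TX := L.TX
  TPQ := fun h hh p hp => mul_mem (L.TS h hh p hp) (inv_mem hp)
  Tc := L.Tab
  Ttr := L.Ttr
  Tne := by
    obtain ⟨x, hx, y, hy, hx1, hy1, hxy⟩ := L.big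
    obtain ⟨h, hh, e⟩ := L.Ttr x hx hx1 y hy hy1
    exact ⟨h, hh, x, hx, by rw [e]; exact hxy.symm⟩
  tight := by
    intro g t ht ht1 hg h
    refine L.amb.tight ht ht1 hg fun a ha => ?_
    have hg' : g⁻¹ * t = t * g⁻¹ := by
      calc g⁻¹ * t = g⁻¹ * (t * g) * g⁻¹ := by group
        _ = g⁻¹ * (g * t) * g⁻¹ := by rw [hg]
        _ = t * g⁻¹ := by group
    have h1 := L.amb.nor t ht ht1 g⁻¹ hg' _ (L.SK (L.XS (h a ha)))
    have h2 : br a g = (g⁻¹ * (g * a * g⁻¹ * a⁻¹) * g⁻¹⁻¹)⁻¹ := by unfold br; group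
    rw [h2]
    exact inv_mem h1
  k3 := by
    intro c h1 h2
    obtain ⟨x, hx, hc⟩ := L.k3 c h2 h1
    exact ⟨x, hx, (mem_C1.1 hc).1⟩

/-- **(EX)**: existence of the doubled root group. -/
theorem exists_dw [Finite G] (L : NLoc K R S X T0) {g : G} (gS : ∀ p ∈ S, g * p * g⁻¹ ∈ S)
    (gX : ∀ x ∈ X, g * x * g⁻¹ ∈ X)
    (gR : ∀ a ∈ R, ∃ b ∈ R, ∃ x ∈ X, g * a * g⁻¹ = b * x) (hg : ∃ a ∈ R, g * a * g⁻¹ ∉ R) :
    ∃ h0 ∈ T0, (∀ x ∈ X, x ≠ 1 → h0 * x * h0⁻¹ ≠ x) ∧ ∃ W : Subgroup G, DW K R S X W ∧ (∀ w ∈ W, w * w ∈ X) ∧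
      (∀ c ∈ C1 K R, ∀ w ∈ W, w * c * w⁻¹ * c⁻¹ ∈ X) ∧ (∀ h ∈ T0, ∀ w ∈ W, h * w * h⁻¹ ∈ W) ∧
      ∀ k ∈ K, (∃ p ∈ S, k * h0 * k⁻¹ = h0 * p) → (∀ p ∈ S, k * p * k⁻¹ ∈ S) → (∀ x ∈ X, k * x * k⁻¹ ∈ X) →
        ∀ w ∈ W, k * w * k⁻¹ ∈ W := by
  have E := L.env
  obtain ⟨k0, hk0, k0S, k0X, ⟨m, hm, k0m⟩, k0f⟩ := L.h0
  obtain ⟨y, yX, yS, yR, r, hr, yr⟩ := E.exists_y L.k4 gS gX gR hg
  obtain ⟨v0, hv0, h0⟩ := E.exists_v0_norm L.SS hk0 k0S k0X hm k0m k0f yX yS yR hr yr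
  obtain ⟨h, hh, x1, hx1, hne1⟩ := E.Tne
  have hfp : ∀ y ∈ X, y ≠ 1 → h * y * h⁻¹ ≠ y := fun y hy hy1 => E.fpf hh hx1 hne1 hy hy1
  have hR : ∃ t ∈ R, t ≠ 1 := ⟨r, hr, by
    rintro rfl
    exact h0 (δ_eq_one_iff.2 (by rw [mul_one, one_mul]))⟩
  have hall : ∀ t ∈ R, t ≠ 1 → δ t v0 ≠ 1 := fun t ht ht1 he =>
    h0 (δ_eq_one_iff.2 (E.V_comm hv0 ht ht1 (δ_eq_one_iff.1 he) r hr))
  have hbr : ∀ {t w : G}, br t w = δ t w⁻¹ := by
    intro t w; unfold br δ; group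
  have hWV : ∀ w ∈ E.W hR hh, w ∈ E.V := fun w hw => E.V2_le hR (E.W_le hR hh hw)
  refine ⟨h, hh, hfp, E.W hR hh, ?_, fun w hw => (E.W_le hR hh hw).2,
    fun c hc w hw => (E.W_le hR hh hw).1.2 c (mem_C1.1 hc), fun k hk w hw => E.W_T hR hh hk hw, ?_⟩
  · refine ⟨E.XP, E.PK, E.X_le_W hR hh, E.Xsq, fun w hw p hp => E.V_P (hWV w hw) hp, ?_, ?_, ?_, ?_⟩
    · intro t ht w hw
      rw [hbr]
      exact E.V_δ (inv_mem (hWV w hw)) ht
    · intro t ht ht1 w hw h1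
      exact E.W_fix hR hh hfp hw ht ht1 h1.symm
    · intro t ht ht1 x hx
      obtain ⟨w, hw, hwx⟩ := E.W_surj hR hh hfp hv0 ht ht1 (hall t ht ht1) x hx
      refine ⟨w, hw, ?_⟩
      rw [hbr, E.δ_inv' ht (hWV w hw), hwx, E.xx_inv hx]
    · intro c hc w hw
      have h1 : c * w * c⁻¹ = w * δ c w⁻¹ := by unfold δ; group
      rw [h1]
      exact mul_mem hw (E.X_le_W hR hh ((inv_mem (E.W_le hR hh hw) : w⁻¹ ∈ E.V2 hR).1.2 c (mem_C1.1 hc)))
  · rintro k hk ⟨p, hp, hkh⟩ hkP hkX w hw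
    exact E.W_conj hR hh hk (conj_inv_mem hkP) hkX hp hkh hw

/-- **The doubled root group, invariant under `N_K(X)`.** -/
theorem exists_base [Finite G] (L : NLoc K R S X T0) (N : NorX K S X T0) {g : G} (gS : cj g S = S) (gX : cj g X = X)
    (gR : ∀ a ∈ R, ∃ b ∈ R, ∃ x ∈ X, g * a * g⁻¹ = b * x) (hg : ∃ a ∈ R, g * a * g⁻¹ ∉ R) :
    ∃ W : Subgroup G, Base K R S X W := by
  have invX : ∀ {k x : G} {A : Subgroup G}, cj k A = A → x ∈ A → k * x * k⁻¹ ∈ A := by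
    intro k x A h hx
    have := conj_mem_cj (g := k).2 hx
    rwa [h] at this
  obtain ⟨h0, hh0, -, W, D, -, -, -, hW⟩ := L.exists_dw (fun p hp => invX gS hp) (fun p hp => invX gX hp) gR hg
  refine ⟨W, D, ?_⟩
  have key : ∀ k ∈ K, cj k X = X → cj k W ≤ W := by
    intro k hk hX w hw
    rw [mem_cj] at hw
    obtain ⟨p, hp, e⟩ := N.nh k hk hX h0 hh0
    have := hW k hk ⟨p, hp, e⟩ (fun p hp => invX (N.nP k hk hX) hp) (fun x hx => invX hX hx) _ hw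
    have e2 : k * (k⁻¹ * w * k) * k⁻¹ = w := by group
    rwa [e2] at this
  intro k hk hX
  apply le_antisymm (key k hk hX)
  have hX' : cj k⁻¹ X = X := by
    conv_lhs => rw [← hX]
    exact cj_inv_cj k X
  have := cj_mono k (key k⁻¹ (inv_mem hk) hX')
  rwa [cj_cj_inv] at this

/-- **(C) + (D)**: no `g` normalising `S`, `X`, `R X` moves `R`. -/
theorem false [Finite G] {T Xr Xs Xd Pr Ps Pd Yr Ys Y : Subgroup G} {n m : G}
    (H : KTriP K R T Xr Xs Xd Pr Ps Pd Yr Ys Y n m) (L : NLoc K R S X T0) (N : NorX K S X T0)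
    {a b c : G} (ha : a ∈ K) (hb : b ∈ K) (hc : c ∈ K) (eXa : cj a X = Xr) (eXb : cj b X = Xs) (eXc : cj c X = Xd)
    (ePa : cj a S = Pr) (ePb : cj b S = Ps) (ePc : cj c S = Pd)
    {t t' : G} (ht : t ∈ R) (ht1 : t ≠ 1) (ht' : t' ∈ R) (ht1' : t' ≠ 1) (hne : t' ≠ t)
    {g : G} (gS : cj g S = S) (gX : cj g X = X)
    (gR : ∀ a ∈ R, ∃ b ∈ R, ∃ x ∈ X, g * a * g⁻¹ = b * x) (hg : ∃ a ∈ R, g * a * g⁻¹ ∉ R) : False := by
  obtain ⟨W, B⟩ := L.exists_base N gS gX gR hg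
  exact hne ((H.triP L.amb B ha hb hc eXa eXb eXc ePa ePb ePc).eq_of_ne_one ht ht1 ht' ht1')

end NLoc

end Cfsg.Agent.OddHalf.DblR

end

-- merged: Cfsg.Agent.OddHalf.D4.L3.Double
section

/-!
# ODD, D4, row `L₃(q)`: the normaliser of the Sylow 2-subgroup `S`, existence of the doubled root group

* `exists_maps` : an element normalising `S` acts on `S / Z`, `Z` by an autotopism of `F`;
* `T0 f` : the torus of `⟨X_ρ, X_{-ρ}⟩`;
* `exists_act` : if `g` normalises `S` and `y ∈ T0` then some `h ∈ T0` acts as `g y g⁻¹` on `S / Z` and on `Z`;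
* `nloc`, `norX` : the structures `NLoc`, `NorX` of the doubling;
* **`exists_base`** : existence of the doubled root group.
-/

set_option autoImplicit false
set_option linter.unusedSectionVars false

namespace Cfsg.Agent.OddHalf.D4.L3.Double

open Cfsg.Agent.ClassicalGeometry.AutPSL.Root Cfsg.Agent.ClassicalGeometry.AutPSL.Auto
  Cfsg.Agent.ClassicalGeometry.AutPSL.Main Cfsg.Agent.OddHalf.D4.Basic Cfsg.Agent.OddHalf.D4.L3
open Subgroup (normalizer centralizer mem_centralizer_iff mem_normalizer_iff zpowers)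
open Cfsg.Agent.OddHalf.DblR Cfsg.Agent.Nodes.Reps

variable {F : Type*} [Field F] {G : Type*} [Group G] {f : Y3 F →* G}

theorem el_mul_z (a b c c' : F) : U f a b c * U f 0 0 c' = U f a b (c + c') := by
  rw [U_mul]; congr 1 <;> ring

theorem z_mul_el (a b c c' : F) : U f 0 0 c' * U f a b c = U f a b (c + c') := by
  rw [U_mul]; congr 1 <;> ring

theorem z_comm (a b c c' : F) : U f 0 0 c' * U f a b c = U f a b c * U f 0 0 c' := by
  rw [el_mul_z, z_mul_el]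

theorem z_mul (c c' : F) : U f 0 0 c * U f 0 0 c' = U f 0 0 (c + c') := by
  rw [el_mul_z]

theorem el_eq (a b c : F) : U f a b c = U f 0 b 0 * U f a 0 0 * U f 0 0 c := by
  rw [U_mul, U_mul]; congr 1 <;> ring

theorem mul_U_inv (a b c c' : F) : U f a b c * (U f a b c')⁻¹ = U f 0 0 (c - c') := by
  rw [U_inv, U_mul]; congr 1 <;> ring

theorem z_central {z u : G} (hz : z ∈ Zf f) (hu : u ∈ Sf f) : z * u = u * z := by
  obtain ⟨c, rfl⟩ := hz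
  obtain ⟨a, b, d, rfl⟩ := hu
  exact z_comm a b d c

section inj

variable (hf : Function.Injective f)
include hf

/-- an element of `S` centralising `S` -/
theorem mem_of_central {g : G} (hg : g ∈ Sf f) (h : ∀ v ∈ Sf f, g * v = v * g) : g ∈ Zf f := by
  obtain ⟨a, b, c, rfl⟩ := hg
  have h1 := h _ (U_mem f 1 0 0)
  have h2 := h _ (U_mem f 0 1 0)
  rw [U_mul, U_mul] at h1 h2
  have h3 := (U_inj hf h1).2.2
  have h4 := (U_inj hf h2).2.2
  rw [U_mem_Z hf]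
  constructor
  · linear_combination h4
  · linear_combination -h3

/-- an element normalising `S` normalises `Z` -/
theorem conj_Zf {g : G} (hg : ∀ u ∈ Sf f, g * u * g⁻¹ ∈ Sf f) (hg' : ∀ u ∈ Sf f, g⁻¹ * u * g ∈ Sf f) :
    ∀ z ∈ Zf f, g * z * g⁻¹ ∈ Zf f := by
  intro z hz
  refine mem_of_central hf (hg z (Zf_le f hz)) fun v hv => ?_
  have h1 := z_central hz (hg' v hv)
  calc g * z * g⁻¹ * v = g * (z * (g⁻¹ * v * g)) * g⁻¹ := by group
    _ = g * ((g⁻¹ * v * g) * z) * g⁻¹ := by rw [h1]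
    _ = v * (g * z * g⁻¹) := by group

variable [CharP F 2]

/-- **The action on `S / Z` and `Z`.** -/
theorem exists_maps {n : G} (hg : ∀ u ∈ Sf f, n * u * n⁻¹ ∈ Sf f) (hg' : ∀ u ∈ Sf f, n⁻¹ * u * n ∈ Sf f) :
    ∃ φ g k : F → F,
    (∀ a b, k (a * b) = φ a * g b) ∧ k 1 ≠ 0 ∧ (∀ a b, k (a + b) = k a + k b) ∧
    (∀ a b, k a = k b → a = b) ∧
    (∀ c, n * U f 0 0 c * n⁻¹ = U f 0 0 (k c)) ∧
    ((∀ a b c, ∃ c', n * U f a b c * n⁻¹ = U f (φ a) (g b) c') ∨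
      (∀ a b c, ∃ c', n * U f a b c * n⁻¹ = U f (g b) (φ a) c')) := by
  have two : (2 : F) = 0 := CharTwo.two_eq_zero
  have H1 : ∀ a b c, ∃ p q r, n * U f a b c * n⁻¹ = U f p q r := fun a b c => hg _ (U_mem f a b c)
  have H2 : ∀ c, ∃ k, n * U f 0 0 c * n⁻¹ = U f 0 0 k := fun c => conj_Zf hf hg hg' _ (Z_mem f c)
  choose p q r hpqr using H1
  choose k hk using H2
  have zinj : ∀ {a b : F}, U f 0 0 a = U f 0 0 b → a = b := fun h => (U_inj hf h).2.2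
  have hkinj : ∀ a b, k a = k b → a = b := by
    intro a b hab
    have h1 := hk a
    rw [hab, ← hk b] at h1
    exact zinj (mul_left_cancel (mul_right_cancel h1))
  have hk0 : k 0 = 0 := by
    have h1 := hk 0
    rw [U_one, mul_one, mul_inv_cancel, ← U_one f] at h1
    exact (zinj h1).symm
  have hk1 : k 1 ≠ 0 := fun h1 => one_ne_zero (hkinj 1 0 (by rw [h1, hk0]))
  have hkadd : ∀ a b, k (a + b) = k a + k b := by
    intro a b
    apply zinj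
    rw [← hk, ← z_mul, ← z_mul, ← hk a, ← hk b]
    group
  have hadd : ∀ a b a' b', p (a + a') (b + b') 0 = p a b 0 + p a' b' 0 ∧
      q (a + a') (b + b') 0 = q a b 0 + q a' b' 0 := by
    intro a b a' b'
    have h1 : (n * U f a b 0 * n⁻¹) * (n * U f a' b' 0 * n⁻¹) =
        (n * U f (a + a') (b + b') 0 * n⁻¹) * (n * U f 0 0 (a * b') * n⁻¹) := by
      calc (n * U f a b 0 * n⁻¹) * (n * U f a' b' 0 * n⁻¹)
          = n * (U f a b 0 * U f a' b' 0) * n⁻¹ := by group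
        _ = n * (U f (a + a') (b + b') 0 * U f 0 0 (a * b')) * n⁻¹ := by
            rw [U_mul, el_mul_z, add_zero]
        _ = _ := by group
    rw [hpqr, hpqr, hpqr, hk, U_mul, el_mul_z] at h1
    have h2 := U_inj hf h1
    exact ⟨h2.1.symm, h2.2.1.symm⟩
  have hsqr : ∀ a b, a * b = 0 → p a b 0 * q a b 0 = 0 := by
    intro a b hab
    have h1 : (n * U f a b 0 * n⁻¹) * (n * U f a b 0 * n⁻¹) = 1 := by
      calc (n * U f a b 0 * n⁻¹) * (n * U f a b 0 * n⁻¹)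
          = n * (U f a b 0 * U f a b 0) * n⁻¹ := by group
        _ = 1 := by
          rw [U_mul, hab, CharTwo.add_self_eq_zero, CharTwo.add_self_eq_zero, CharTwo.add_self_eq_zero, add_zero, U_one]
          group
    rw [hpqr, U_mul, ← U_one f] at h1
    have h2 := (U_inj hf h1).2.2
    rw [CharTwo.add_self_eq_zero, zero_add] at h2
    exact h2
  have hcomm : ∀ a b, k (a * b) = p a 0 0 * q 0 b 0 + p 0 b 0 * q a 0 0 := by
    intro a b
    have h1 : (n * U f a 0 0 * n⁻¹) * (n * U f 0 b 0 * n⁻¹) =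
        (n * U f 0 0 (a * b) * n⁻¹) * ((n * U f 0 b 0 * n⁻¹) * (n * U f a 0 0 * n⁻¹)) := by
      have h2 : U f a 0 0 * U f 0 b 0 = U f 0 0 (a * b) * (U f 0 b 0 * U f a 0 0) := by
        rw [U_mul, U_mul, z_mul_el]
        congr 1 <;> ring
      calc (n * U f a 0 0 * n⁻¹) * (n * U f 0 b 0 * n⁻¹)
          = n * (U f a 0 0 * U f 0 b 0) * n⁻¹ := by group
        _ = _ := by rw [h2]; group
    rw [hpqr, hpqr, hk, U_mul, U_mul, z_mul_el] at h1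
    have h3 := (U_inj hf h1).2.2
    linear_combination -h3 + (- p 0 b 0 * q a 0 0) * two
  have hf1 := Cfsg.Agent.StdRank2.L3Env.zero_or_zero (f := fun a => p a 0 0) (g := fun a => q a 0 0)
    (fun a b => by have := (hadd a 0 b 0).1; rwa [add_zero] at this)
    (fun a b => by have := (hadd a 0 b 0).2; rwa [add_zero] at this)
    (fun a => hsqr a 0 (mul_zero a))
  have hf2 := Cfsg.Agent.StdRank2.L3Env.zero_or_zero (f := fun a => p 0 a 0) (g := fun a => q 0 a 0)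
    (fun a b => by have := (hadd 0 a 0 b).1; rwa [add_zero] at this)
    (fun a b => by have := (hadd 0 a 0 b).2; rwa [add_zero] at this)
    (fun a => hsqr 0 a (zero_mul a))
  have hdec : ∀ a b c, ∃ c', n * U f a b c * n⁻¹ = U f (p a 0 0 + p 0 b 0) (q a 0 0 + q 0 b 0) c' := by
    intro a b c
    have h4 : n * U f a b c * n⁻¹ = (n * U f 0 b 0 * n⁻¹) * (n * U f a 0 0 * n⁻¹) *
        (n * U f 0 0 c * n⁻¹) := by rw [el_eq]; group
    rw [h4, hpqr, hpqr, hk, U_mul, el_mul_z, add_comm (p 0 b 0), add_comm (q 0 b 0)]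
    exact ⟨_, rfl⟩
  have hkk : k (1 * 1) ≠ 0 := by rwa [one_mul]
  rcases hf1 with hf1 | hf1 <;> rcases hf2 with hf2 | hf2
  · exfalso
    apply hkk
    rw [hcomm]
    rw [hf1, hf2, zero_mul, zero_mul, add_zero]
  · refine ⟨fun a => q a 0 0, fun b => p 0 b 0, k, ?_, hk1, hkadd, hkinj, hk, Or.inr ?_⟩
    · intro a b
      rw [hcomm, hf1, zero_mul, zero_add, mul_comm]
    · intro a b c
      obtain ⟨c', hc'⟩ := hdec a b c
      rw [hf1, hf2, add_zero, zero_add] at hc'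
      exact ⟨c', hc'⟩
  · refine ⟨fun a => p a 0 0, fun b => q 0 b 0, k, ?_, hk1, hkadd, hkinj, hk, Or.inl ?_⟩
    · intro a b
      rw [hcomm, hf2, zero_mul, add_zero]
    · intro a b c
      obtain ⟨c', hc'⟩ := hdec a b c
      rw [hf1, hf2, add_zero, zero_add] at hc'
      exact ⟨c', hc'⟩
  · exfalso
    apply hkk
    rw [hcomm]
    rw [hf1, hf2, mul_zero, mul_zero, add_zero]

end inj

/-! ### The torus `T0` -/

variable (f) in
/-- The torus of `⟨X_ρ, X_{-ρ}⟩`. -/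
def T0 : Subgroup G where
  carrier := {t | ∃ x : Fˣ, t = Tm f x 1}
  one_mem' := ⟨1, (Tm_one f).symm⟩
  mul_mem' := by
    rintro _ _ ⟨x, rfl⟩ ⟨x', rfl⟩
    exact ⟨x * x', by rw [Tm_mul, one_mul]⟩
  inv_mem' := by
    rintro _ ⟨x, rfl⟩
    exact ⟨x⁻¹, by rw [Tm_inv, inv_one]⟩

theorem mem_T0 {t : G} : t ∈ T0 f ↔ ∃ x : Fˣ, t = Tm f x 1 := Iff.rfl

theorem T0_le : T0 f ≤ f.range := by
  rintro _ ⟨x, rfl⟩
  exact Tf_le f (Tm_mem f x 1)

theorem T0_act (x : Fˣ) (a b c : F) : Tm f x 1 * U f a b c * (Tm f x 1)⁻¹ = U f (x * a) (x * b) (x * x * c) := by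
  rw [Tm_conj]
  congr 1
  · rw [inv_one, mul_one]
  · rw [one_pow, mul_one]
  · rw [mul_one, pow_two, Units.val_mul]

theorem T0_conj {t u : G} (ht : t ∈ T0 f) (hu : u ∈ Sf f) : t * u * t⁻¹ ∈ Sf f := by
  obtain ⟨x, rfl⟩ := ht
  obtain ⟨a, b, c, rfl⟩ := hu
  rw [T0_act]
  exact U_mem f _ _ _

theorem Tm_comm (x y x' y' : Fˣ) : Tm f x y * Tm f x' y' = Tm f x' y' * Tm f x y := by
  rw [Tm_mul, Tm_mul, mul_comm x, mul_comm y]

theorem Tm_pow (x y : Fˣ) (n : ℕ) : (Tm f x y) ^ n = Tm f (x ^ n) (y ^ n) := by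
  induction n with
  | zero => rw [pow_zero, pow_zero, pow_zero, Tm_one]
  | succ n ih => rw [pow_succ, ih, Tm_mul, ← pow_succ, ← pow_succ]

/-- the elements of `H` -/
theorem H_act (x : Fˣ) (a b c : F) :
    Tm f x (x⁻¹ ^ 2) * U f a b c * (Tm f x (x⁻¹ ^ 2))⁻¹ = U f ((x : F) ^ 3 * a) (((x : F) ^ 3)⁻¹ * b) c := by
  rw [Tm_conj]
  have h1 : x * (x⁻¹ ^ 2)⁻¹ = x ^ 3 := by group
  have h2 : x * (x⁻¹ ^ 2) ^ 2 = (x ^ 3)⁻¹ := by group
  have h3 : x ^ 2 * x⁻¹ ^ 2 = 1 := by group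
  rw [h1, h2, h3, Units.val_one, one_mul, Units.val_inv_eq_inv_val, Units.val_pow_eq_pow_val]

variable [CharP F 2] (hf : Function.Injective f)
include hf

/-- **The action of `n y n⁻¹`.** -/
theorem exists_act {n y : G} (hg : ∀ u ∈ Sf f, n * u * n⁻¹ ∈ Sf f) (hg' : ∀ u ∈ Sf f, n⁻¹ * u * n ∈ Sf f)
    (hy : y ∈ T0 f) : ∃ h ∈ T0 f, (∀ p ∈ Sf f, (n * y * n⁻¹) * p * (n * y * n⁻¹)⁻¹ * (h * p * h⁻¹)⁻¹ ∈ Zf f) ∧
      ∀ z ∈ Zf f, (n * y * n⁻¹) * z * (n * y * n⁻¹)⁻¹ = h * z * h⁻¹ := by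
  obtain ⟨φ, g, k, H, hk1, hkadd, hkinj, hkz, hact⟩ := exists_maps hf hg hg'
  obtain ⟨μ, rfl⟩ := hy
  have hk0 : k 0 = 0 := by
    have h1 := hkz 0
    rw [U_one, mul_one, mul_inv_cancel, ← U_one f] at h1
    exact ((U_inj hf h1).2.2).symm
  set l0 := k μ / k 1 with hl
  have hl0 : l0 ≠ 0 := by
    rw [hl]
    refine div_ne_zero (fun h0 => μ.ne_zero ?_) hk1
    exact hkinj _ 0 (by rw [h0, hk0])
  obtain ⟨l, hll⟩ : ∃ l : Fˣ, (l : F) = l0 := ⟨Units.mk0 l0 hl0, rfl⟩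
  have sem := fun x a => Cfsg.Agent.StdRank2.L3Env.semilinear H hk1 x a
  have hz : ∀ c, (n * Tm f μ 1 * n⁻¹) * U f 0 0 c * (n * Tm f μ 1 * n⁻¹)⁻¹ = U f 0 0 (l * l * c) := by
    intro c
    obtain ⟨c', hc'⟩ : ∃ c', n⁻¹ * U f 0 0 c * n = U f 0 0 c' := by
      have := conj_Zf hf (g := n⁻¹) (fun u hu => by rw [inv_inv]; exact hg' u hu)
        (fun u hu => by rw [inv_inv]; exact hg u hu) _ (Z_mem f c)
      rw [inv_inv] at this
      exact this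
    have h1 : k c' = c := by
      have e : U f 0 0 (k c') = U f 0 0 c := by
        rw [← hkz, ← hc']; group
      exact (U_inj hf e).2.2
    calc (n * Tm f μ 1 * n⁻¹) * U f 0 0 c * (n * Tm f μ 1 * n⁻¹)⁻¹ =
          n * (Tm f μ 1 * (n⁻¹ * U f 0 0 c * n) * (Tm f μ 1)⁻¹) * n⁻¹ := by group
      _ = U f 0 0 (k (μ * μ * c')) := by rw [hc', T0_act, mul_zero, hkz]
      _ = _ := by rw [mul_assoc (μ : F), (sem μ _).2.2, (sem μ _).2.2, h1, ← hl, ← hll]; congr 1; ring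
  refine ⟨Tm f l 1, ⟨l, rfl⟩, ?_, ?_⟩
  · rintro _ ⟨a, b, c, rfl⟩
    obtain ⟨a', b', c', h1⟩ := hg' _ (U_mem f a b c)
    have e1 : (n * Tm f μ 1 * n⁻¹) * U f a b c * (n * Tm f μ 1 * n⁻¹)⁻¹ =
        n * U f (μ * a') (μ * b') (μ * μ * c') * n⁻¹ := by
      rw [← T0_act, ← h1]; group
    have e2 : U f a b c = n * U f a' b' c' * n⁻¹ := by rw [← h1]; group
    have e3 : ∃ c2, (n * Tm f μ 1 * n⁻¹) * U f a b c * (n * Tm f μ 1 * n⁻¹)⁻¹ = U f (l * a) (l * b) c2 := by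
      rcases hact with hact | hact
      · obtain ⟨c1, h2⟩ := hact a' b' c'
        obtain ⟨c2, h3⟩ := hact (μ * a') (μ * b') (μ * μ * c')
        rw [← e2] at h2
        obtain ⟨ha, hb, -⟩ := U_inj hf h2
        refine ⟨c2, ?_⟩
        rw [e1, h3, (sem μ _).1, (sem μ _).2.1, ← hl, ha, hb, hll]
      · obtain ⟨c1, h2⟩ := hact a' b' c'
        obtain ⟨c2, h3⟩ := hact (μ * a') (μ * b') (μ * μ * c')
        rw [← e2] at h2
        obtain ⟨ha, hb, -⟩ := U_inj hf h2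
        refine ⟨c2, ?_⟩
        rw [e1, h3, (sem μ _).1, (sem μ _).2.1, ← hl, ha, hb, hll]
    obtain ⟨c2, e3⟩ := e3
    rw [e3, T0_act, mul_U_inv]
    exact Z_mem f _
  · rintro z ⟨c, rfl⟩
    rw [hz, T0_act, mul_zero]

/-! ### The structures -/

omit [CharP F 2] hf in
theorem cj_Tm_Sf (x y : Fˣ) : cj (Tm f x y) (Sf f) = Sf f := by
  have key : ∀ x y : Fˣ, cj (Tm f x y) (Sf f) ≤ Sf f := by
    intro x y u hu
    rw [mem_cj] at hu
    obtain ⟨a, b, c, h⟩ := hu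
    have e : u = Tm f x y * U f a b c * (Tm f x y)⁻¹ := by rw [← h]; group
    rw [e, Tm_conj]
    exact U_mem f _ _ _
  apply le_antisymm (key x y)
  have h1 := cj_mono (Tm f x y) (key x⁻¹ y⁻¹)
  rwa [← Tm_inv, cj_cj_inv] at h1

theorem cj_Sf_of_norm {k : G} (hk : k ∈ f.range) (hX : cj k (Zf f) = Zf f) :
    ∃ (x y : Fˣ) (u : G), u ∈ Sf f ∧ k = Tm f x y * u := by
  have h1 : k * U f 0 0 1 * k⁻¹ ∈ Zf f := by
    rw [← hX]
    exact conj_mem_cj.2 (Z_mem f 1)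
  obtain ⟨c', h2⟩ := h1
  obtain ⟨x, y, a, b, c, h⟩ := upper_of_norm hf hk one_ne_zero h2
  exact ⟨x, y, _, U_mem f a b c, h⟩

theorem norX : NorX f.range (Sf f) (Zf f) (T0 f) where
  nP := by
    intro k hk hX
    obtain ⟨x, y, u, hu, rfl⟩ := cj_Sf_of_norm hf hk hX
    rw [cj_mul, cj_eq_of_mem hu, cj_Tm_Sf]
  nh := by
    intro k hk hX h hh
    obtain ⟨x, y, u, hu, rfl⟩ := cj_Sf_of_norm hf hk hX
    have h1 : h⁻¹ * u * h * u⁻¹ ∈ Sf f := by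
      refine mul_mem ?_ (inv_mem hu)
      have := T0_conj (inv_mem hh) hu
      rwa [inv_inv] at this
    have h2 : Tm f x y * (h⁻¹ * u * h * u⁻¹) * (Tm f x y)⁻¹ ∈ Sf f := by
      rw [← cj_Tm_Sf (f := f) x y]
      exact conj_mem_cj.2 h1
    refine ⟨_, h2, ?_⟩
    obtain ⟨l, rfl⟩ := hh
    have h3 : Tm f x y * Tm f l 1 = Tm f l 1 * Tm f x y := Tm_comm x y l 1
    calc Tm f x y * u * Tm f l 1 * (Tm f x y * u)⁻¹
        = (Tm f x y * Tm f l 1) * ((Tm f l 1)⁻¹ * u * Tm f l 1 * u⁻¹) * (Tm f x y)⁻¹ := by group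
      _ = _ := by rw [h3]; group

variable [Finite F] {R : Subgroup G}

theorem nloc (h8 : 8 ≤ Nat.card F) (A : Amb f.range R)
    (two : ∀ c ∈ C1 f.range R, IsPGroup 2 (zpowers c) → c ∈ R) (hR : ∃ t ∈ R, t ≠ 1) [Finite G] :
    NLoc f.range R (Sf f) (Zf f) (T0 f) := by
  obtain ⟨x0, hx0⟩ := exists_cube_ne (F := F) h8
  have hx1 : (x0 : F) ^ 3 ≠ 1 := fun e => hx0 (Units.ext (by rw [Units.val_pow_eq_pow_val, e, Units.val_one]))
  have hne : ∀ {c : F}, U f 0 0 c ≠ 1 → c ≠ 0 := fun h e => h (by rw [e, U_one])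
  exact
    { amb := A
      SK := Sf_le f
      XS := Zf_le f
      XX := by
        rintro _ ⟨c, rfl⟩
        rw [z_mul, CharTwo.add_self_eq_zero, U_one]
      XZ := fun z hz u hu => z_central hz hu
      SS := by
        rintro _ ⟨a, b, c, rfl⟩ _ ⟨a', b', c', rfl⟩
        rw [comm_U]
        exact Z_mem f _
      TK := T0_le
      TX := by
        rintro _ ⟨x, rfl⟩ _ ⟨c, rfl⟩
        rw [T0_act, mul_zero]
        exact Z_mem f _
      TS := fun t ht u hu => T0_conj ht hu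
      Tab := by
        rintro _ ⟨x, rfl⟩ _ ⟨x', rfl⟩
        exact Tm_comm _ _ _ _
      Ttr := by
        rintro _ ⟨c, rfl⟩ hc _ ⟨d, rfl⟩ hd
        obtain ⟨l, hl⟩ := Cfsg.Agent.StdRank2.L3Env.exists_sq (d / c)
        have hl0 : l ≠ 0 := by
          rintro rfl
          rw [zero_mul] at hl
          exact div_ne_zero (hne hd) (hne hc) hl.symm
        refine ⟨_, ⟨Units.mk0 l hl0, rfl⟩, ?_⟩
        rw [T0_act, mul_zero, Units.val_mk0, hl, div_mul_cancel₀ _ (hne hc)]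
      big := by
        have hinj : ∀ {a b : F}, U f 0 0 a = U f 0 0 b → a = b := fun h => (U_inj hf h).2.2
        refine ⟨U f 0 0 1, Z_mem f 1, U f 0 0 x0, Z_mem f _, ?_, ?_, ?_⟩
        · intro h
          rw [← U_one f] at h
          exact one_ne_zero (hinj h)
        · intro h
          rw [← U_one f] at h
          exact x0.ne_zero (hinj h)
        · intro h
          apply hx1
          rw [← hinj h, one_pow]
      two := two
      k3 := by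
        intro c hc hcS
        obtain ⟨t, ht, ht1⟩ := hR
        have hcn : c ∈ normalizer (f.range : Set G) := by
          rw [mem_normalizer_iff]
          have h1 := A.nor t ht ht1 c (hc t ht)
          have hc' : c⁻¹ * t = t * c⁻¹ := by
            have := hc t ht
            calc c⁻¹ * t = c⁻¹ * (t * c) * c⁻¹ := by group
              _ = c⁻¹ * (c * t) * c⁻¹ := by rw [this]
              _ = t * c⁻¹ := by group
          have h2 := A.nor t ht ht1 c⁻¹ hc'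
          intro k
          refine ⟨fun hk => h1 k hk, fun hk => ?_⟩
          have := h2 _ hk
          rwa [show c⁻¹ * (c * k * c⁻¹) * c⁻¹⁻¹ = k by group] at this
        obtain ⟨d, hd⟩ := K1 hf hcn fun a b c' => hcS _ (U_mem f a b c')
        refine ⟨_, Z_mem f d, mem_C1.2 ⟨fun k hk => (mem_centralizer_iff.1 hd k hk).symm, fun a ha => ?_⟩⟩
        have h3 := A.comm a ha _ (Sf_le f (Zf_le f (inv_mem (Z_mem f d))))
        rw [mul_assoc, hc a ha, ← mul_assoc, ← h3, mul_assoc]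
      k4 := by
        intro g gS gX h1 hh1
        exact exists_act hf gS (Exist.conj_inv_mem gS) hh1
      h0 := by
        refine ⟨Tm f x0 (x0⁻¹ ^ 2), Tf_le f (Tm_mem f _ _), ?_, ?_, ⟨Nat.card F - 1, ?_, ?_⟩, ?_⟩
        · rintro _ ⟨a, b, c, rfl⟩
          rw [H_act]
          exact U_mem f _ _ _
        · rintro _ ⟨c, rfl⟩
          have := H_act (f := f) x0 0 0 c
          rw [mul_zero, mul_zero] at this
          exact mul_inv_eq_iff_eq_mul.1 this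
        · have := Fintype.ofFinite F
          obtain ⟨n, hp, hn⟩ := FiniteField.card F 2
          rw [Nat.card_eq_fintype_card, hn]
          have : 2 ∣ 2 ^ (n : ℕ) := dvd_pow_self 2 n.ne_zero
          obtain ⟨k, hk⟩ := this
          have hpos : 0 < 2 ^ (n : ℕ) := by positivity
          exact ⟨k - 1, by omega⟩
        · have := Fintype.ofFinite F
          classical
          have h1 : ∀ y : Fˣ, y ^ (Nat.card F - 1) = 1 := by
            intro y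
            apply Units.ext
            rw [Units.val_pow_eq_pow_val, Nat.card_eq_fintype_card, Units.val_one]
            exact FiniteField.pow_card_sub_one_eq_one _ y.ne_zero
          rw [Tm_pow, h1, h1, Tm_one]
        · rintro _ ⟨a, b, c, rfl⟩ h
          rw [H_act, U_inv, U_mul, U_mem_Z hf] at h
          obtain ⟨h1, h2⟩ := h
          rw [U_mem_Z hf]
          have h3 : (x0 : F) ^ 3 ≠ 0 := pow_ne_zero _ x0.ne_zero
          constructor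
          · have h4 : ((x0 : F) ^ 3 - 1) * a = 0 := by linear_combination h1
            exact (mul_eq_zero.1 h4).resolve_left (sub_ne_zero.2 hx1)
          · have h4 : (((x0 : F) ^ 3)⁻¹ - 1) * b = 0 := by linear_combination h2
            refine (mul_eq_zero.1 h4).resolve_left (sub_ne_zero.2 fun e => hx1 ?_)
            rw [← inv_inv ((x0 : F) ^ 3), e, inv_one] }

/-- **Existence of the doubled root group.** -/
theorem exists_base [Finite G] (h8 : 8 ≤ Nat.card F) (A : Amb f.range R)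
    (two : ∀ c ∈ C1 f.range R, IsPGroup 2 (zpowers c) → c ∈ R) {g : G} (gS : ∀ s ∈ Sf f, g * s * g⁻¹ ∈ Sf f)
    (gR : ∀ a ∈ R, ∃ b ∈ R, ∃ z ∈ Zf f, g * a * g⁻¹ = b * z) (hg : ∃ a ∈ R, g * a * g⁻¹ ∉ R) :
    ∃ W : Subgroup G, Base f.range R (Sf f) (Zf f) W := by
  have hR : ∃ t ∈ R, t ≠ 1 := by
    obtain ⟨a, ha, h⟩ := hg
    refine ⟨a, ha, ?_⟩
    rintro rfl
    exact h (by rw [mul_one, mul_inv_cancel]; exact one_mem _)
  have gS' := Exist.conj_inv_mem gS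
  have gZ := conj_Zf hf gS gS'
  have key : ∀ {X : Subgroup G}, (∀ s ∈ X, g * s * g⁻¹ ∈ X) → cj g X = X := by
    intro X h
    have h' := Exist.conj_inv_mem h
    ext x
    rw [mem_cj]
    constructor
    · intro hx
      have := h _ hx
      rwa [show g * (g⁻¹ * x * g) * g⁻¹ = x by group] at this
    · exact fun hx => h' x hx
  exact (nloc hf h8 A two hR).exists_base (norX hf) (key gS) (key gZ) gR hg

end Cfsg.Agent.OddHalf.D4.L3.Double

end
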