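import Mathlib
import Cfsg.Agent.OddHalf.D4.L3.FrameK
import Cfsg.Agent.OddHalf.D4.FullPair
import Cfsg.Agent.OddHalf.D4.Exists
import Cfsg.Agent.OddHalf.D4.L3.Double
import Cfsg.Agent.OddHalf.D4.Start
import Cfsg.Agent.OddHalf.DblR.FamP
import Cfsg.Agent.StdRank2.OutL3Facts
import Cfsg.Agent.S0249

-- merged: Cfsg.Agent.OddHalf.D4.L3.PartB
section

/-!
# ODD, D4, row `L_3(2^a)`: the element `x`

`Sit K S Z H Q E x` : `E` is a 2-group with `Q S ≤ E ≤ N(K)`, `x` normalises `E` and not `K`.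
* `Sit.one` : if `S ∩ Q^x = 1` then `S^x = S` and `Q^x ≤ Q Z`;
* `Sit.two` : `S ∩ Q^x ≠ 1 ≠ S^x ∩ Q` is impossible;
* **`Sit.main`** : some `y` normalises `S` with `Q^y ≤ Q Z`, `y ∉ N(K)`.
-/

set_option autoImplicit false
set_option linter.unusedSectionVars false

namespace Cfsg.Agent.OddHalf.D4.L3

open Cfsg.Agent.OddHalf.D4.Basic Cfsg.Agent.OddHalf.D4
open Cfsg.Agent.OddHalf.D4.CommConj (Tight cj mem_cj cj_mul card_cj cj_eq_of_mem_normalizer mem_normalizer_of_cj_eq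
  mem_cj_mul)
open Subgroup (normalizer centralizer mem_centralizer_iff mem_normalizer_iff zpowers)
open scoped commutatorElement

variable {G : Type*} [Group G]

/-- a 2-element of `C` normalizing the Sylow subgroup `Q` of `C` lies in `Q` -/
theorem mem_of_syl [Finite G] {C Q : Subgroup G} (hQ : IsSyl Q C) {c : G} (hc : c ∈ C) (hc2 : ∃ k : ℕ, c ^ 2 ^ k = 1)
    (hn : ∀ q ∈ Q, c * q * c⁻¹ ∈ Q) : c ∈ Q := by
  have h1 : IsPGroup 2 ↥(zpowers c) := by
    obtain ⟨k, hk⟩ := hc2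
    rw [IsPGroup.iff_card]
    obtain ⟨m, -, hm⟩ := (Nat.dvd_prime_pow Nat.prime_two).mp (orderOf_dvd_of_pow_eq_one hk)
    exact ⟨m, by rw [Nat.card_zpowers, hm]⟩
  have h2 : zpowers c ≤ normalizer (Q : Set G) := by
    rw [Subgroup.zpowers_le]
    exact Subgroup.mem_normalizer_fintype hn
  exact hQ.max _ (hQ.two.to_sup_of_normal_left' h1 h2) le_sup_left (sup_le hQ.le (by rwa [Subgroup.zpowers_le]))
    (Subgroup.mem_sup_right (Subgroup.mem_zpowers c))

/-- The situation. -/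
structure Sit (K S Z H Q E : Subgroup G) (x : G) : Prop where
  fr : ∀ g : G, Fr (cj g K) (cj g S) (cj g Z) (cj g H)
  simple : IsSimpleGroup ↥K
  tight : TightAt K
  ncm : ∀ g : G, g ∉ normalizer (K : Set G) → ¬ ∀ a ∈ K, ∀ b ∈ cj g K, a * b = b * a
  two : IsPGroup 2 ↥E
  leN : E ≤ normalizer (K : Set G)
  SE : S ≤ E
  QE : Q ≤ E
  sylQ : IsSyl Q (centralizer (K : Set G))
  Qne : Q ≠ ⊥
  xN : cj x E = E
  xM : x ∉ normalizer (K : Set G)

theorem cj_one (K : Subgroup G) : cj 1 K = K := by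
  ext y; rw [mem_cj]; simp

theorem cj_mono' {g : G} {A B : Subgroup G} (h : A ≤ B) : cj g A ≤ cj g B := Subgroup.map_mono h

theorem cj_inf (g : G) (A B : Subgroup G) : cj g (A ⊓ B) = cj g A ⊓ cj g B := by
  ext y; rw [mem_cj, Subgroup.mem_inf, Subgroup.mem_inf, mem_cj, mem_cj]

namespace Sit

variable {K S Z H Q E : Subgroup G} {x : G}

theorem fr1 (T : Sit K S Z H Q E x) : Fr K S Z H := by
  have := T.fr 1
  simpa only [cj_one] using this

theorem conj (T : Sit K S Z H Q E x) : Sit (cj x K) (cj x S) (cj x Z) (cj x H) (cj x Q) E x⁻¹ where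
  fr := by
    intro g
    rw [← cj_mul, ← cj_mul, ← cj_mul, ← cj_mul]
    exact T.fr _
  simple := by
    have := T.simple
    exact (K.equivMapOfInjective _ (MulAut.conj x).injective).isSimpleGroup_congr.1 this
  tight := T.tight.cj x
  ncm := by
    intro g hg h
    rw [normalizer_cj, mem_cj] at hg
    apply T.ncm (x⁻¹ * g * x) hg
    intro a ha b hb
    rw [mem_cj] at hb
    have h1 := h (x * a * x⁻¹) (mem_cj_mul ha) (x * b * x⁻¹) (by
      rw [mem_cj, mem_cj]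
      have e : x⁻¹ * (g⁻¹ * (x * b * x⁻¹) * g) * x = (x⁻¹ * g * x)⁻¹ * b * (x⁻¹ * g * x) := by group
      rw [e]; exact hb)
    calc a * b = x⁻¹ * ((x * a * x⁻¹) * (x * b * x⁻¹)) * x := by group
      _ = x⁻¹ * ((x * b * x⁻¹) * (x * a * x⁻¹)) * x := by rw [h1]
      _ = b * a := by group
  two := T.two
  leN := by
    rw [normalizer_cj, ← T.xN]
    exact cj_mono' T.leN
  SE := by
    conv_rhs => rw [← T.xN]
    exact cj_mono' T.SE
  QE := by
    conv_rhs => rw [← T.xN]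
    exact cj_mono' T.QE
  sylQ := by
    rw [centralizer_cj]
    exact T.sylQ.cj x
  Qne := by
    intro h
    apply T.Qne
    have h1 := card_cj x Q
    rw [h, Subgroup.card_bot] at h1
    exact Subgroup.card_eq_one.1 h1.symm
  xN := by
    conv_lhs => rw [← T.xN]
    exact cj_inv_cj x E
  xM := by
    intro h
    rw [normalizer_cj, mem_cj] at h
    apply T.xM
    have h2 := inv_mem h
    have e : (x⁻¹ * x⁻¹ * x)⁻¹ = x := by group
    rwa [e] at h2

theorem inv (T : Sit K S Z H Q E x) : Sit K S Z H Q E x⁻¹ :=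
  { T with
    xN := by
      conv_lhs => rw [← T.xN]
      exact cj_inv_cj x E
    xM := by
      intro h
      apply T.xM
      have h2 := inv_mem h
      rwa [inv_inv] at h2 }

variable [Finite G]

/-- `E ∩ K = S` -/
theorem mem_S (T : Sit K S Z H Q E x) {k : G} (hk : k ∈ K) (hE : k ∈ E) : k ∈ S :=
  T.fr1.syl.max (E ⊓ K) (T.two.to_le inf_le_left) (le_inf T.SE T.fr1.SK) inf_le_right ⟨hE, hk⟩

/-- `E ∩ C(K) = Q` -/
theorem mem_Q (T : Sit K S Z H Q E x) {k : G} (hk : k ∈ centralizer (K : Set G)) (hE : k ∈ E) : k ∈ Q :=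
  T.sylQ.max (E ⊓ centralizer (K : Set G)) (T.two.to_le inf_le_left) (le_inf T.QE T.sylQ.le) inf_le_right ⟨hE, hk⟩

/-- the components of an element of `E` -/
theorem dec (T : Sit K S Z H Q E x) {s k : G} (hs : s ∈ E) (hk : k ∈ K) (hc : k⁻¹ * s ∈ centralizer (K : Set G)) :
    k ∈ S ∧ k⁻¹ * s ∈ Q := by
  have hcomm : ∀ c ∈ centralizer (K : Set G), ∀ y ∈ K, y * c = c * y := fun c hc y hy => mem_centralizer_iff.1 hc y hy
  have h1 : k ∈ S := by
    apply mem_of_syl T.fr1.syl hk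
    · obtain ⟨n, hn⟩ := T.two ⟨s, hs⟩
      have hn' : s ^ 2 ^ n = 1 := congrArg Subtype.val hn
      refine ⟨n, ?_⟩
      have h2 : Commute k (k⁻¹ * s) := hcomm _ hc k hk
      have h3 : k ^ 2 ^ n * (k⁻¹ * s) ^ 2 ^ n = 1 := by
        rw [← h2.mul_pow, mul_inv_cancel_left, hn']
      have h4 : k ^ 2 ^ n ∈ centralizer (K : Set G) := by
        have h5 : k ^ 2 ^ n = ((k⁻¹ * s) ^ 2 ^ n)⁻¹ := eq_inv_of_mul_eq_one_left h3
        rw [h5]
        exact inv_mem (pow_mem hc _)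
      exact T.fr1.ctr _ (pow_mem hk _) h4
    · intro q hq
      -- `k q k⁻¹ = s q s⁻¹`
      have h2 := hcomm _ hc q (T.fr1.SK hq)
      have h3 : k * q * k⁻¹ = s * q * s⁻¹ := by
        calc k * q * k⁻¹ = k * (q * (k⁻¹ * s)) * s⁻¹ := by group
          _ = k * ((k⁻¹ * s) * q) * s⁻¹ := by rw [h2]
          _ = _ := by group
      rw [h3]
      apply T.mem_S
      · exact (mem_normalizer_iff.1 (T.leN hs) q).1 (T.fr1.SK hq)
      · exact mul_mem (mul_mem hs (T.SE hq)) (inv_mem hs)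
  exact ⟨h1, T.mem_Q hc (mul_mem (inv_mem (T.SE h1)) hs)⟩

/-- an involution of `C(K)` does not centralise `K^x` -/
theorem noInv (T : Sit K S Z H Q E x) {k : G} (hk : k ∈ centralizer (K : Set G))
    (hk' : k ∈ centralizer ((cj x K : Subgroup G) : Set G)) : orderOf k ≠ 2 := fun h2 => T.xM (T.tight.eq hk h2 hk')

theorem eq_one (T : Sit K S Z H Q E x) {k : G} (hk : k ∈ centralizer (K : Set G))
    (hk' : k ∈ centralizer ((cj x K : Subgroup G) : Set G)) (hE : k ∈ E) : k = 1 := by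
  by_contra hne
  obtain ⟨n, hn⟩ := CommConj.exists_pow_involution T.two hE hne
  exact T.noInv (pow_mem hk n) (pow_mem hk' n) hn

/-- elements of `E` -/
theorem comm_mem (T : Sit K S Z H Q E x) {s u : G} (hs : s ∈ S) (hu : u ∈ cj x Q) :
    s * u * s⁻¹ * u⁻¹ ∈ S ∧ s * u * s⁻¹ * u⁻¹ ∈ cj x Q := by
  have T' := T.conj
  have hsE := T.SE hs
  have huE := T'.QE hu
  have h := commutator_mem (K := K) (L := cj x K) (T.fr1.SK hs) (T'.leN hsE) (T'.sylQ.le hu) (T.leN huE)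
  have hE : s * u * s⁻¹ * u⁻¹ ∈ E := mul_mem (mul_mem (mul_mem hsE huE) (inv_mem hsE)) (inv_mem huE)
  exact ⟨T.mem_S h.1 hE, T'.mem_Q h.2 hE⟩

/-- **the first case** -/
theorem one (T : Sit K S Z H Q E x) (h0 : S ⊓ cj x Q = ⊥) :
    cj x S = S ∧ ∀ u ∈ cj x Q, ∃ z ∈ Z, z⁻¹ * u ∈ Q := by
  have T' := T.conj
  have h1 : ∀ u ∈ cj x Q, ∃ z ∈ Z, z⁻¹ * u ∈ Q := by
    intro u hu
    have huE := T'.QE hu
    obtain ⟨z, hz, hc⟩ := T.fr1.F1 u (T.leN huE) (by
      intro s hs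
      have h2 := T.comm_mem hs hu
      have h3 : s * u * s⁻¹ * u⁻¹ ∈ S ⊓ cj x Q := h2
      rw [h0, Subgroup.mem_bot] at h3
      calc u * s = (s * u * s⁻¹ * u⁻¹)⁻¹ * (s * u) := by group
        _ = s * u := by rw [h3]; group)
    exact ⟨z, hz, T.mem_Q hc (mul_mem (inv_mem (T.SE (T.fr1.ZS hz))) huE)⟩
  refine ⟨?_, h1⟩
  -- `H` centralises `Q^x`
  have h2 : ∀ h ∈ H, ∀ u ∈ cj x Q, h * u = u * h := by
    intro h hh u hu
    obtain ⟨z, hz, hq⟩ := h1 u hu
    have e1 := T.fr1.hz h hh z hz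
    have e2 := mem_centralizer_iff.1 (T.sylQ.le hq) h (T.fr1.HK hh)
    calc h * u = (h * z) * (z⁻¹ * u) := by group
      _ = z * (h * (z⁻¹ * u)) := by rw [e1]; group
      _ = u * h := by rw [e2]; group
  obtain ⟨u0, hu0, hu02⟩ := exists_invol_of_two T'.sylQ.two T'.Qne
  have h3 : H ≤ normalizer ((cj x K : Subgroup G) : Set G) := fun h hh =>
    T'.tight.mem (T'.sylQ.le hu0) hu02 (h2 h hh u0 hu0)
  have h4 : S ≤ cj x S := by
    refine T.fr1.sh.trans ?_
    rw [Subgroup.commutator_le]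
    intro s hs h hh
    obtain ⟨l, hl, hd⟩ := T'.fr1.O S H (T.two.to_le T.SE) (T.SE.trans T'.leN) h3 T.fr1.sh s hs
    obtain ⟨hl', hd'⟩ := T'.dec (T.SE hs) hl hd
    have e1 := h2 h hh _ hd'
    have e2 : ⁅s, h⁆ = l * (h * l * h⁻¹)⁻¹ := by
      rw [commutatorElement_def]
      calc s * h * s⁻¹ * h⁻¹ = l * ((l⁻¹ * s) * h) * (l⁻¹ * s)⁻¹ * l⁻¹ * h⁻¹ := by group
        _ = l * (h * (l⁻¹ * s)) * (l⁻¹ * s)⁻¹ * l⁻¹ * h⁻¹ := by rw [e1]
        _ = _ := by group
    have hE : ⁅s, h⁆ ∈ E := by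
      rw [commutatorElement_def]
      have : s * h * s⁻¹ * h⁻¹ = s * (h * s * h⁻¹)⁻¹ := by group
      rw [this]
      exact mul_mem (T.SE hs) (inv_mem (T.SE (T.fr1.hs h hh s hs)))
    apply T'.mem_S _ hE
    rw [e2]
    have h5 : h * l * h⁻¹ ∈ cj x K := (mem_normalizer_iff.1 (h3 hh) l).1 hl
    exact (cj x K).mul_mem hl ((cj x K).inv_mem h5)
  exact (Subgroup.eq_of_le_of_card_ge h4 (card_cj x S).le).symm

/-- one half of the second case -/
theorem half (T : Sit K S Z H Q E x) (h0 : S ⊓ cj x Q ≠ ⊥) :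
    ∃ z0 ∈ Z, z0 ∈ cj x Q ∧ z0 ≠ 1 ∧ H ≤ normalizer ((cj x K : Subgroup G) : Set G) ∧
      ∀ s ∈ S, ∃ l ∈ cj x S, l⁻¹ * s ∈ cj x Q := by
  have T' := T.conj
  obtain ⟨z0, hz0, hz2, hzc⟩ := exists_central_invol (T := S) (N := S ⊓ cj x Q) (T.two.to_le T.SE) inf_le_left h0 (by
    intro s hs n hn
    have h1 := (T.comm_mem hs hn.2).2
    refine ⟨S.mul_mem (S.mul_mem hs hn.1) (S.inv_mem hs), ?_⟩
    have e : s * n * s⁻¹ = (s * n * s⁻¹ * n⁻¹) * n := by group
    rw [e]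
    exact mul_mem h1 hn.2)
  have hz1 : z0 ≠ 1 := by
    rintro rfl
    rw [orderOf_one] at hz2
    omega
  have hzZ : z0 ∈ Z := by
    by_contra hn
    obtain ⟨z, hz, hzne⟩ := T.fr1.ne
    obtain ⟨t, ht, e⟩ := T.fr1.on z0 hz0.1 hn z hz
    apply hzne
    rw [← e, ← hzc t ht]
    group
  have h3 : H ≤ normalizer ((cj x K : Subgroup G) : Set G) := fun h hh =>
    T'.tight.mem (T'.sylQ.le hz0.2) hz2 (T.fr1.hz h hh z0 hzZ)
  refine ⟨z0, hzZ, hz0.2, hz1, h3, ?_⟩
  intro s hs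
  obtain ⟨l, hl, hd⟩ := T'.fr1.O S H (T.two.to_le T.SE) (T.SE.trans T'.leN) h3 T.fr1.sh s hs
  obtain ⟨hl', hd'⟩ := T'.dec (T.SE hs) hl hd
  exact ⟨l, hl', hd'⟩

/-- commutators -/
theorem comm_left {a c s : G} (h1 : c * s = s * c) : (a * c) * s * (a * c)⁻¹ * s⁻¹ = a * s * a⁻¹ * s⁻¹ := by
  calc (a * c) * s * (a * c)⁻¹ * s⁻¹ = a * (c * s) * c⁻¹ * a⁻¹ * s⁻¹ := by group
    _ = _ := by rw [h1]; group

/-- if both intersections are nontrivial then `S^x ≤ Z Q` -/
theorem S_le (T : Sit K S Z H Q E x) (h0 : S ⊓ cj x Q ≠ ⊥)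
    (hl : ∀ l ∈ cj x S, ∃ k ∈ S, k⁻¹ * l ∈ Q) : ∀ l ∈ cj x S, ∃ k ∈ Z, k⁻¹ * l ∈ Q := by
  have T' := T.conj
  obtain ⟨z0, hz0, hz0', hz1, -, hdec⟩ := T.half h0
  intro l hl0
  obtain ⟨k, hk, hc⟩ := hl l hl0
  refine ⟨k, ?_, hc⟩
  by_contra hn
  obtain ⟨s, hs, e⟩ := T.fr1.on k hk hn z0 hz0
  -- `[l, s] = z0`
  have hcs : (k⁻¹ * l) * s = s * (k⁻¹ * l) := (mem_centralizer_iff.1 (T.sylQ.le hc) s (T.fr1.SK hs)).symm
  have e1 : l * s * l⁻¹ * s⁻¹ = z0 := by
    have h1 := comm_left (a := k) (c := k⁻¹ * l) (s := s) hcs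
    rw [mul_inv_cancel_left] at h1
    rw [h1, e]
  -- `[l, s] ∈ L`
  obtain ⟨l', hl', hd⟩ := hdec s hs
  have hdl : (l'⁻¹ * s) * l = l * (l'⁻¹ * s) := (mem_centralizer_iff.1 (T'.sylQ.le hd) l (T'.fr1.SK hl0)).symm
  have e2 : s * l * s⁻¹ * l⁻¹ = l' * l * l'⁻¹ * l⁻¹ := by
    have h1 := comm_left (a := l') (c := l'⁻¹ * s) (s := l) hdl
    rw [mul_inv_cancel_left] at h1
    exact h1
  have e3 : z0 = (l' * l * l'⁻¹ * l⁻¹)⁻¹ := by
    rw [← e2, ← e1]; group
  have h4 : z0 ∈ cj x K := by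
    rw [e3]
    have hlK := T'.fr1.SK hl0
    have hlK' := T'.fr1.SK hl'
    exact inv_mem (mul_mem (mul_mem (mul_mem hlK' hlK) (inv_mem hlK')) (inv_mem hlK))
  exact hz1 (T'.fr1.ctr z0 h4 (T'.sylQ.le hz0'))

/-- **the second case** -/
theorem two_case (T : Sit K S Z H Q E x) (h0 : S ⊓ cj x Q ≠ ⊥) (h1 : cj x S ⊓ Q ≠ ⊥) : False := by
  have T' := T.conj
  have h1' : cj x S ⊓ cj x⁻¹ (cj x Q) ≠ ⊥ := by rw [cj_inv_cj]; exact h1
  obtain ⟨z0, hz0, hz0', hz01, hHN, hdec⟩ := T.half h0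
  obtain ⟨z1, hz1, hz1', hz11, hHN', hdec'⟩ := T'.half h1'
  rw [cj_inv_cj] at hz1'
  simp only [cj_inv_cj] at hdec'
  -- both Sylow subgroups
  have hSL := T.S_le h0 hdec'
  have hLS : ∀ s ∈ S, ∃ l ∈ cj x Z, l⁻¹ * s ∈ cj x Q := by
    have h2 := T'.S_le h1' (by simp only [cj_inv_cj]; exact hdec)
    simp only [cj_inv_cj] at h2
    exact h2
  -- `Z^x ≤ Q`
  have hZQ : cj x Z ≤ Q := by
    intro z hz
    obtain ⟨s, hs, hsn⟩ := T'.fr1.zne
    obtain ⟨t, ht, e⟩ := T'.fr1.on s hs hsn z hz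
    obtain ⟨a, ha, hac⟩ := hSL s hs
    obtain ⟨b, hb, hbc⟩ := hSL t ht
    have haS := T.fr1.ZS ha
    have hbS := T.fr1.ZS hb
    set c := a⁻¹ * s with hcdef
    set d := b⁻¹ * t with hddef
    have es : s = a * c := by rw [hcdef]; group
    have et : t = b * d := by rw [hddef]; group
    have hab : a * b = b * a := T.fr1.zc a ha b hbS
    have hcK : ∀ y ∈ K, y * c = c * y := fun y hy => mem_centralizer_iff.1 (T.sylQ.le hac) y hy
    have hdK : ∀ y ∈ K, y * d = d * y := fun y hy => mem_centralizer_iff.1 (T.sylQ.le hbc) y hy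
    have ha1 := hdK a (T.fr1.SK haS)
    have hb1 := hcK b (T.fr1.SK hbS)
    have e2 : s * t * s⁻¹ * t⁻¹ = c * d * c⁻¹ * d⁻¹ := by
      have hst : s * t = (a * b) * (c * d) := by
        rw [es, et]
        calc a * c * (b * d) = a * (c * b) * d := by group
          _ = a * (b * c) * d := by rw [hb1]
          _ = _ := by group
      have hts : t * s = (a * b) * (d * c) := by
        rw [es, et, hab]
        calc b * d * (a * c) = b * (d * a) * c := by group
          _ = b * (a * d) * c := by rw [ha1]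
          _ = _ := by group
      calc s * t * s⁻¹ * t⁻¹ = (s * t) * (t * s)⁻¹ := by group
        _ = (a * b) * (c * d) * ((a * b) * (d * c))⁻¹ := by rw [hst, hts]
        _ = (a * b) * (c * d * c⁻¹ * d⁻¹) * (a * b)⁻¹ := by group
        _ = c * d * c⁻¹ * d⁻¹ := by
          have h3 : c * d * c⁻¹ * d⁻¹ ∈ centralizer (K : Set G) := by
            have x1 := T.sylQ.le hac
            have x2 := T.sylQ.le hbc
            exact mul_mem (mul_mem (mul_mem x1 x2) (inv_mem x1)) (inv_mem x2)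
          rw [mem_centralizer_iff.1 h3 (a * b) (mul_mem (T.fr1.SK haS) (T.fr1.SK hbS))]
          group
    rw [← e, e2]
    exact mul_mem (mul_mem (mul_mem hac hbc) (inv_mem hac)) (inv_mem hbc)
  -- `S ≤ C(L)`
  have hSC : S ≤ centralizer ((cj x K : Subgroup G) : Set G) := by
    refine T.fr1.sh.trans ?_
    rw [Subgroup.commutator_le]
    intro s hs h hh
    obtain ⟨l, hl, hd⟩ := hLS s hs
    have hlh : h * l = l * h := mem_centralizer_iff.1 (T.sylQ.le (hZQ hl)) h (T.fr1.HK hh)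
    have hd' := T'.sylQ.le hd
    set d := l⁻¹ * s with hddef
    have es : s = l * d := by rw [hddef]; group
    have h5 : d * (h * d * h⁻¹)⁻¹ ∈ centralizer ((cj x K : Subgroup G) : Set G) := by
      apply mul_mem hd'
      apply inv_mem
      rw [mem_centralizer_iff]
      intro y hy
      have h6 : h⁻¹ * y * h ∈ cj x K := by
        have := (mem_normalizer_iff.1 (inv_mem (hHN hh)) y).1 hy
        rwa [inv_inv] at this
      have h7 := mem_centralizer_iff.1 hd' _ h6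
      calc y * (h * d * h⁻¹) = h * ((h⁻¹ * y * h) * d) * h⁻¹ := by group
        _ = h * (d * (h⁻¹ * y * h)) * h⁻¹ := by rw [h7]
        _ = h * d * h⁻¹ * y := by group
    have e3 : ⁅s, h⁆ = d * (h * d * h⁻¹)⁻¹ := by
      rw [commutatorElement_def, es]
      have h8 := mem_centralizer_iff.1 h5 l (T'.fr1.SK (T'.fr1.ZS hl))
      calc l * d * h * (l * d)⁻¹ * h⁻¹ = l * (d * (h * d * h⁻¹)⁻¹) * (h * l⁻¹ * h⁻¹) := by group
        _ = (d * (h * d * h⁻¹)⁻¹) * l * (h * l⁻¹ * h⁻¹) := by rw [h8]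
        _ = (d * (h * d * h⁻¹)⁻¹) * l * (h * l * h⁻¹)⁻¹ := by group
        _ = (d * (h * d * h⁻¹)⁻¹) := by rw [hlh]; group
    rw [e3]
    exact h5
  -- `K ≤ N(L)`
  have hKN : K ≤ normalizer ((cj x K : Subgroup G) : Set G) := by
    apply T.fr1.gen
    intro e he he2 k _ hke
    exact T'.tight.mem (hSC he) he2 hke
  -- `K ≤ C(L)`
  have hKC : K ≤ centralizer ((cj x K : Subgroup G) : Set G) := by
    have hn : ((centralizer ((cj x K : Subgroup G) : Set G)).subgroupOf K).Normal := by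
      refine ⟨?_⟩
      intro n hn g
      rw [Subgroup.mem_subgroupOf] at hn ⊢
      rw [mem_centralizer_iff] at hn ⊢
      intro y hy
      have h6 : (g : G)⁻¹ * y * g ∈ cj x K := by
        have := (mem_normalizer_iff.1 (inv_mem (hKN g.2)) y).1 hy
        rwa [inv_inv] at this
      have h7 := hn _ h6
      show y * ((g : G) * n * (g : G)⁻¹) = (g : G) * n * (g : G)⁻¹ * y
      calc y * ((g : G) * n * (g : G)⁻¹) = g * (((g : G)⁻¹ * y * g) * n) * (g : G)⁻¹ := by group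
        _ = g * (n * ((g : G)⁻¹ * y * g)) * (g : G)⁻¹ := by rw [h7]
        _ = (g : G) * n * (g : G)⁻¹ * y := by group
    have := T.simple
    rcases hn.eq_bot_or_eq_top with h | h
    · exfalso
      have h2 : (⟨z0, T.fr1.SK (T.fr1.ZS hz0)⟩ : ↥K) ∈
          (centralizer ((cj x K : Subgroup G) : Set G)).subgroupOf K := by
        rw [Subgroup.mem_subgroupOf]
        exact hSC (T.fr1.ZS hz0)
      rw [h, Subgroup.mem_bot] at h2
      exact hz01 (congrArg Subtype.val h2)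
    · exact Subgroup.subgroupOf_eq_top.1 h
  exact T.ncm x T.xM fun a ha b hb => (mem_centralizer_iff.1 (hKC ha) b hb).symm

/-- **the conclusion of (B)** -/
theorem main (T : Sit K S Z H Q E x) : ∃ y : G, y ∉ normalizer (K : Set G) ∧ cj y S = S ∧
    ∀ u ∈ cj y Q, ∃ z ∈ Z, z⁻¹ * u ∈ Q := by
  by_cases h0 : S ⊓ cj x Q = ⊥
  · obtain ⟨h1, h2⟩ := T.one h0
    exact ⟨x, T.xM, h1, h2⟩
  · by_cases h1 : cj x S ⊓ Q = ⊥
    · have h2 : S ⊓ cj x⁻¹ Q = ⊥ := by
        have h3 := congrArg (cj x⁻¹) h1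
        rw [cj_inf, cj_inv_cj] at h3
        rw [h3]
        ext y
        rw [mem_cj, Subgroup.mem_bot, Subgroup.mem_bot]
        constructor
        · intro h
          have : y = x⁻¹ * (x⁻¹⁻¹ * y * x⁻¹) * x := by group
          rw [this, h]; group
        · rintro rfl
          group
      obtain ⟨h3, h4⟩ := T.inv.one h2
      exact ⟨x⁻¹, T.inv.xM, h3, h4⟩
    · exact (T.two_case h0 h1).elim

end Sit

end Cfsg.Agent.OddHalf.D4.L3

end

-- merged: Cfsg.Agent.OddHalf.D4.L3.PartA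
section

/-!
# ODD, D4, row `L_3(2^a)`: from a full pair to the situation of (B)

**`exists_sit`** : a full pair gives `Sit K (S^k) (Z^k) (H^k) Q E x` for some `k ∈ K`.
-/

set_option autoImplicit false
set_option linter.unusedSectionVars false

namespace Cfsg.Agent.OddHalf.D4.L3

open Cfsg.Agent.OddHalf.D4.Basic Cfsg.Agent.OddHalf.D4
open Cfsg.Agent.OddHalf.D4.CommConj (Tight cj mem_cj cj_mul card_cj cj_eq_of_mem_normalizer mem_normalizer_of_cj_eq
  mem_cj_mul exists_norm_elt)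
open Subgroup (normalizer centralizer mem_centralizer_iff mem_normalizer_iff zpowers)
open scoped commutatorElement

variable {G : Type*} [Group G]

theorem Fr.mem_Z_of_comm {K S Z H : Subgroup G} (T : Fr K S Z H) {s : G} (hs : s ∈ S) (h : ∀ t ∈ S, s * t = t * s) : s ∈ Z := by
  by_contra hn
  obtain ⟨z, hz, hzne⟩ := T.ne
  obtain ⟨t, ht, e⟩ := T.on s hs hn z hz
  apply hzne
  rw [← e, h t ht]
  group

/-- what normalises `S` normalises `Z` -/
theorem Fr.norm_Z {K S Z H : Subgroup G} (T : Fr K S Z H) {v : G} (h : ∀ s ∈ S, v * s * v⁻¹ ∈ S)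
    (h' : ∀ s ∈ S, v⁻¹ * s * v ∈ S) : ∀ z ∈ Z, v * z * v⁻¹ ∈ Z := by
  intro z hz
  apply T.mem_Z_of_comm (h z (T.ZS hz))
  intro t ht
  have h1 := T.zc z hz _ (h' t ht)
  calc v * z * v⁻¹ * t = v * (z * (v⁻¹ * t * v)) * v⁻¹ := by group
    _ = v * ((v⁻¹ * t * v) * z) * v⁻¹ := by rw [h1]
    _ = t * (v * z * v⁻¹) := by group

/-- two commuting involutions generate a 2-group -/
theorem isPGroup_two [Finite G] {a b : G} (ha : orderOf a = 2) (hb : orderOf b = 2) (hab : a * b = b * a) :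
    IsPGroup 2 ↥(zpowers a ⊔ zpowers b) := by
  have h1 : IsPGroup 2 ↥(zpowers a) := by
    rw [IsPGroup.iff_card]; exact ⟨1, by rw [Nat.card_zpowers, ha, pow_one]⟩
  have h2 : IsPGroup 2 ↥(zpowers b) := by
    rw [IsPGroup.iff_card]; exact ⟨1, by rw [Nat.card_zpowers, hb, pow_one]⟩
  apply h1.to_sup_of_normal_left' h2
  rw [Subgroup.zpowers_le, mem_normalizer_iff]
  intro x
  have h3 : ∀ y ∈ zpowers a, b * y * b⁻¹ = y := by
    intro y hy
    obtain ⟨n, rfl⟩ := Subgroup.mem_zpowers_iff.1 hy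
    have : Commute b (a ^ n) := (show Commute b a from hab.symm).zpow_right n
    rw [this.eq]; group
  constructor
  · intro hx
    rw [h3 x hx]; exact hx
  · intro hx
    have h4 := h3 _ hx
    have h5 : b * (b * x * b⁻¹) * b⁻¹ = b * x * b⁻¹ := h4
    have h6 : b * x * b⁻¹ = x := by
      calc b * x * b⁻¹ = b⁻¹ * (b * (b * x * b⁻¹) * b⁻¹) * b := by group
        _ = b⁻¹ * (b * x * b⁻¹) * b := by rw [h5]
        _ = x := by group
    rw [← h6]; exact hx

variable [Finite G]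

theorem syl_eq {M P R : Subgroup G} (hP : IsSyl P M) (hR : IsSyl R M) : ∃ m ∈ M, R = cj m P := by
  obtain ⟨m, hm, h⟩ := hP.conj_into hR.two hR.le
  refine ⟨m⁻¹, inv_mem hm, ?_⟩
  have h1 : R ≤ cj m⁻¹ P := by
    intro r hr
    rw [mem_cj, inv_inv]
    exact h r hr
  apply le_antisymm h1
  apply hR.max _ _ h1
  · intro y hy
    rw [mem_cj, inv_inv] at hy
    have h2 := M.mul_mem (M.mul_mem (M.inv_mem hm) (hP.le hy)) hm
    have e : m⁻¹ * (m * y * m⁻¹) * m = y := by group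
    rwa [e] at h2
  · exact hP.two.map _

theorem card_syl {M P R : Subgroup G} (hP : IsSyl P M) (hR : IsSyl R M) : Nat.card ↥P = Nat.card ↥R := by
  obtain ⟨m, -, rfl⟩ := syl_eq hP hR
  exact (card_cj m P).symm

/-- the growing step -/
theorem exists_x {K L F : Subgroup G} {g : G} (hL : L = cj g K) (hLne : L ≠ K)
    (hF : IsSyl F (normalizer (K : Set G) ⊓ normalizer (L : Set G))) :
    ∃ x : G, cj x F = F ∧ x ∉ normalizer (K : Set G) := by
  have hFK : F ≤ normalizer (K : Set G) := hF.le.trans inf_le_left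
  have hFL : F ≤ normalizer (L : Set G) := hF.le.trans inf_le_right
  obtain ⟨R, hR, hFR⟩ := exists_isSyl hF.two hFL
  by_cases h : R ≤ F
  · -- `F` is Sylow in `N(L)`
    have hRF : R = F := le_antisymm h hFR
    subst hRF
    obtain ⟨R', hR', hFR'⟩ := exists_isSyl hF.two hFK
    have h1 : IsSyl (cj g R') (normalizer (L : Set G)) := by
      rw [hL, normalizer_cj]
      exact hR'.cj g
    have h2 := card_syl h1 hR
    rw [card_cj] at h2
    have h3 : R' = R := (Subgroup.eq_of_le_of_card_ge hFR' h2.le).symm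
    subst h3
    obtain ⟨m, hm, e⟩ := syl_eq h1 hR
    refine ⟨m * g, ?_, ?_⟩
    · rw [cj_mul, ← e]
    · intro hx
      apply hLne
      have h4 := cj_eq_of_mem_normalizer hx
      have h5 := cj_eq_of_mem_normalizer hm
      rw [cj_mul, ← hL, h5] at h4
      exact h4
  · obtain ⟨b, hb, hbF, -, hbn⟩ := exists_norm_elt hR.two hFR le_rfl
      (fun s hs b hb => mul_mem (mul_mem hs hb) (inv_mem hs)) h
    refine ⟨b, cj_eq_of_mem_normalizer hbn, ?_⟩
    intro hbK
    apply hbF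
    exact hF.max (R ⊓ normalizer (K : Set G)) (hR.two.to_le inf_le_left) (le_inf hFR hFK)
      (le_inf inf_le_right (inf_le_left.trans hR.le)) ⟨hb, hbK⟩

/-- **(A)** -/
theorem exists_sit {K S Z H L Q V : Subgroup G} (fr : ∀ g : G, Fr (cj g K) (cj g S) (cj g Z) (cj g H))
    (simple : IsSimpleGroup ↥K) (tight : TightAt K)
    (ncm : ∀ g : G, g ∉ normalizer (K : Set G) → ¬ ∀ a ∈ K, ∀ b ∈ cj g K, a * b = b * a)
    (hp : FullPair K L Q V)
    (h2 : ∃ a ∈ centralizer (K : Set G), ∃ b ∈ centralizer (K : Set G), orderOf a = 2 ∧ orderOf b = 2 ∧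
      a * b = b * a ∧ a ≠ b) :
    ∃ (k : G) (E : Subgroup G) (x : G), k ∈ K ∧ Sit K (cj k S) (cj k Z) (cj k H) Q E x := by
  have frk : ∀ k ∈ K, Fr K (cj k S) (cj k Z) (cj k H) := by
    intro k hk
    have h1 := fr k
    rwa [cj_eq_of_mem_normalizer (Subgroup.le_normalizer hk)] at h1
  have fr1 : Fr K S Z H := by
    have := frk 1 (one_mem _)
    simpa only [cj_one] using this
  obtain ⟨a, ha, b, hb, ha2, hb2, hab, hne⟩ := h2
  have heven : Even (Nat.card ↥(centralizer (K : Set G))) := even_of_mem ha2 ha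
  have hQN := hp.leQ tight heven
  have hVN := hp.leU tight heven
  have tightL := hp.tightL tight
  obtain ⟨g, hg, hL⟩ := hp.conj
  -- a four-group in `V`
  obtain ⟨v, w, hv, hw, hv2, hw2, hvw, hvwne⟩ : ∃ v w : G, v ∈ V ∧ w ∈ V ∧ orderOf v = 2 ∧ orderOf w = 2 ∧
      v * w = w * v ∧ v ≠ w := by
    have ha' : g * a * g⁻¹ ∈ centralizer (L : Set G) := by
      rw [hL, centralizer_cj]; exact mem_cj_mul ha
    have hb' : g * b * g⁻¹ ∈ centralizer (L : Set G) := by
      rw [hL, centralizer_cj]; exact mem_cj_mul hb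
    have hab' : g * a * g⁻¹ * (g * b * g⁻¹) = g * b * g⁻¹ * (g * a * g⁻¹) := by
      calc g * a * g⁻¹ * (g * b * g⁻¹) = g * (a * b) * g⁻¹ := by group
        _ = _ := by rw [hab]; group
    have h3 := isPGroup_two (a := g * a * g⁻¹) (b := g * b * g⁻¹) (by rw [Basic.orderOf_conj, ha2])
      (by rw [Basic.orderOf_conj, hb2]) hab'
    obtain ⟨m, -, hmq⟩ := hp.sylU.conj_into h3 (sup_le (by rwa [Subgroup.zpowers_le]) (by rwa [Subgroup.zpowers_le]))
    refine ⟨_, _, hmq _ (Subgroup.mem_sup_left (Subgroup.mem_zpowers _)),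
      hmq _ (Subgroup.mem_sup_right (Subgroup.mem_zpowers _)), by rw [Basic.orderOf_conj, Basic.orderOf_conj, ha2],
      by rw [Basic.orderOf_conj, Basic.orderOf_conj, hb2], ?_, ?_⟩
    · calc m * (g * a * g⁻¹) * m⁻¹ * (m * (g * b * g⁻¹) * m⁻¹) = m * (g * a * g⁻¹ * (g * b * g⁻¹)) * m⁻¹ := by group
        _ = _ := by rw [hab']; group
    · intro h
      apply hne
      calc a = g⁻¹ * (m⁻¹ * (m * (g * a * g⁻¹) * m⁻¹) * m) * g := by group
        _ = g⁻¹ * (m⁻¹ * (m * (g * b * g⁻¹) * m⁻¹) * m) * g := by rw [h]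
        _ = b := by group
  have sq : ∀ {y : G}, orderOf y = 2 → y * y = 1 := fun {y} h => by rw [← pow_two, ← h, pow_orderOf_eq_one]
  have hvwV := V.mul_mem hv hw
  have hvw2 : orderOf (v * w) = 2 := by
    apply orderOf_eq_prime
    · rw [pow_two]
      calc v * w * (v * w) = v * (w * v) * w := by group
        _ = v * (v * w) * w := by rw [hvw]
        _ = (v * v) * (w * w) := by group
        _ = 1 := by rw [sq hv2, sq hw2, one_mul]
    · intro h
      apply hvwne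
      calc v = (v * w) * w⁻¹ := by group
        _ = w⁻¹ := by rw [h, one_mul]
        _ = w := inv_eq_of_mul_eq_one_left (sq hw2)
  have hall : ∀ u, u = v ∨ u = w ∨ u = v * w → u ∈ V ∧ orderOf u = 2 := by
    rintro u (rfl | rfl | rfl)
    · exact ⟨hv, hv2⟩
    · exact ⟨hw, hw2⟩
    · exact ⟨hvwV, hvw2⟩
  -- a Sylow subgroup of `K` in `N(L)`
  obtain ⟨k1, hk1, hk1L⟩ : ∃ k1 ∈ K, cj k1 S ≤ normalizer (L : Set G) := by
    by_cases hc1 : ∃ u, (u = v ∨ u = w ∨ u = v * w) ∧ ∃ k ∈ K, k⁻¹ * u ∈ centralizer (K : Set G)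
    · obtain ⟨u, hu, k, hk, hc⟩ := hc1
      obtain ⟨huV, hu2⟩ := hall u hu
      have huL := hp.sylU.le huV
      have hkc : k * (k⁻¹ * u) = (k⁻¹ * u) * k := mem_centralizer_iff.1 hc k hk
      have hkk : k * k ∈ centralizer (K : Set G) := by
        have h3 : (k * (k⁻¹ * u)) * (k * (k⁻¹ * u)) = 1 := by rw [mul_inv_cancel_left, sq hu2]
        have h4 : k * k * ((k⁻¹ * u) * (k⁻¹ * u)) = 1 := by
          calc k * k * ((k⁻¹ * u) * (k⁻¹ * u)) = k * (k * (k⁻¹ * u)) * (k⁻¹ * u) := by group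
            _ = k * ((k⁻¹ * u) * k) * (k⁻¹ * u) := by rw [hkc]
            _ = (k * (k⁻¹ * u)) * (k * (k⁻¹ * u)) := by group
            _ = 1 := h3
        rw [eq_inv_of_mul_eq_one_left h4]
        exact inv_mem (mul_mem hc hc)
      have hkk1 : k * k = 1 := fr1.ctr _ (mul_mem hk hk) hkk
      have hk1 : k ≠ 1 := by
        rintro rfl
        rw [inv_one, one_mul] at hc
        exact hp.noInv tight hc huL hu2
      have hk2 : orderOf k = 2 := orderOf_eq_prime (by rw [pow_two, hkk1]) hk1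
      obtain ⟨k1, hk1, hs⟩ := fr1.inv k hk hk2
      refine ⟨k1, hk1, ?_⟩
      rintro y hy
      rw [mem_cj] at hy
      have h5 := hs _ hy
      have e : k1 * (k1⁻¹ * y * k1) * k1⁻¹ = y := by group
      rw [e] at h5
      have hyK : y ∈ K := by
        rw [← e]
        exact mul_mem (mul_mem hk1 (fr1.SK hy)) (inv_mem hk1)
      have h6 : y * (k⁻¹ * u) = (k⁻¹ * u) * y := mem_centralizer_iff.1 hc y hyK
      apply tightL.mem huL hu2
      calc y * u = (y * k) * (k⁻¹ * u) := by group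
        _ = k * (y * (k⁻¹ * u)) := by rw [h5]; group
        _ = u * y := by rw [h6]; group
    · push Not at hc1
      obtain ⟨T, hT, hVT⟩ := exists_isSyl hp.sylU.two hVN
      have hTK : IsSyl (T ⊓ K) K := hT.inf Subgroup.le_normalizer hT.le
      obtain ⟨k, hk, hkS⟩ := syl_eq fr1.syl hTK
      have frk' := frk k hk
      by_cases hc2 : cj k S ⊓ centralizer (L : Set G) = ⊥
      · exfalso
        have hnS : ∀ u ∈ V, ∀ s ∈ cj k S, u * s * u⁻¹ ∈ cj k S := by
          intro u hu s hs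
          rw [← hkS] at hs ⊢
          refine ⟨T.mul_mem (T.mul_mem (hVT hu) hs.1) (T.inv_mem (hVT hu)), ?_⟩
          exact (mem_normalizer_iff.1 (hVN hu) s).1 hs.2
        have hnZ : ∀ u ∈ V, ∀ z ∈ cj k Z, u * z * u⁻¹ ∈ cj k Z := by
          intro u hu
          apply frk'.norm_Z (hnS u hu)
          intro s hs
          have := hnS u⁻¹ (inv_mem hu) s hs
          rwa [inv_inv] at this
        apply frk'.V v w (hVN hv) (hVN hw) (sq hv2) (sq hw2) hvw
          (fun u hu k hk => hc1 u hu k hk) (hnZ v hv) (hnZ w hw)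
        intro u hu hz
        have huV := (hall u hu).1
        have key : ∀ y ∈ V, ∀ z ∈ cj k Z, y * z = z * y := by
          intro y hy z hz'
          have h7 : z ∈ normalizer (L : Set G) :=
            tightL.mem (hp.sylU.le huV) (hall u hu).2 (hz z hz').symm
          have hyL := hp.sylU.le hy
          have h8 := (commutator_mem (K := K) (L := L) (frk'.SK (frk'.ZS hz')) h7 hyL (hVN hy)).2
          have h9 : z * y * z⁻¹ * y⁻¹ ∈ cj k S := by
            have h10 := hnS y hy _ (inv_mem (frk'.ZS hz'))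
            have e : z * y * z⁻¹ * y⁻¹ = z * (y * z⁻¹ * y⁻¹) := by group
            rw [e]
            exact mul_mem (frk'.ZS hz') h10
          have h11 : z * y * z⁻¹ * y⁻¹ ∈ cj k S ⊓ centralizer (L : Set G) := ⟨h9, h8⟩
          rw [hc2, Subgroup.mem_bot] at h11
          calc y * z = (z * y * z⁻¹ * y⁻¹)⁻¹ * (z * y) := by group
            _ = z * y := by rw [h11]; group
        exact ⟨key v hv, key w hw⟩
      · obtain ⟨t, ht, ht2⟩ := exists_invol_of_two ((hT.two.to_le inf_le_left : IsPGroup 2 ↥(T ⊓ K)).to_le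
          (by rw [← hkS]; exact inf_le_left)) hc2
        obtain ⟨k1, hk1, hs⟩ := fr1.inv t (frk'.SK ht.1) ht2
        refine ⟨k1, hk1, ?_⟩
        rintro y hy
        rw [mem_cj] at hy
        have h5 := hs _ hy
        have e : k1 * (k1⁻¹ * y * k1) * k1⁻¹ = y := by group
        rw [e] at h5
        exact tightL.mem ht.2 ht2 h5
  -- the 2-group `E`
  have frk' := frk k1 hk1
  have hSn : cj k1 S ≤ normalizer (Q : Set G) := by
    intro s hs
    apply Subgroup.mem_normalizer_fintype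
    intro q hq
    have h3 := mem_centralizer_iff.1 (hp.sylQ.le hq) s (frk'.SK hs)
    rw [h3, mul_inv_cancel_right]
    exact hq
  have h3 : IsPGroup 2 ↥(Q ⊔ cj k1 S) := hp.sylQ.two.to_sup_of_normal_left' frk'.syl.two hSn
  have hQK : Q ≤ normalizer (K : Set G) := hp.sylQ.le.trans tight.le
  obtain ⟨E, hE, hQE⟩ := exists_isSyl h3 (M := normalizer (K : Set G) ⊓ normalizer (L : Set G))
    (sup_le (le_inf hQK hQN) (le_inf (frk'.SK.trans Subgroup.le_normalizer) hk1L))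
  obtain ⟨x, hx, hxK⟩ := exists_x hL hp.ne hE
  refine ⟨k1, E, x, hk1, ?_⟩
  exact
    { fr := by
        intro g
        have h4 := fr (g * k1)
        rw [cj_mul, cj_mul, cj_mul, cj_mul, cj_eq_of_mem_normalizer (Subgroup.le_normalizer hk1)] at h4
        exact h4
      simple := simple
      tight := tight
      ncm := ncm
      two := hE.two
      leN := hE.le.trans inf_le_left
      SE := le_sup_right.trans hQE
      QE := le_sup_left.trans hQE
      sylQ := hp.sylQ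
      Qne := by
        rintro rfl
        obtain ⟨q, hq, hq2⟩ := exists_inv_syl hp.sylQ heven
        rw [Subgroup.mem_bot] at hq
        rw [hq, orderOf_one] at hq2
        omega
      xN := hx
      xM := hxK }

end Cfsg.Agent.OddHalf.D4.L3

end

-- merged: Cfsg.Agent.OddHalf.D4.L3.Core
section

/-!
# ODD, D4, row `L_3(2^a)`: the core

`core` : a standard component `K ≅ L_3(q)`, `q ≥ 8` even, with `m_2(C(K)) ≥ 2` gives a doubled root group; with a
contradiction for doubled root groups (`hD`) there is no such `K`.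
-/

set_option autoImplicit false
set_option linter.unusedSectionVars false

namespace Cfsg.Agent.OddHalf.D4.L3

open Cfsg.Agent.OddHalf.D4.Basic Cfsg.Agent.OddHalf.D4 Cfsg.Agent.ClassicalGeometry.AutPSL.Root
open Cfsg.Agent.OddHalf.D4.CommConj (Tight cj mem_cj cj_mul card_cj cj_eq_of_mem_normalizer mem_normalizer_of_cj_eq
  mem_cj_mul)
open Subgroup (normalizer centralizer mem_centralizer_iff mem_normalizer_iff zpowers)
open scoped commutatorElement

universe u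

section transport

variable {F : Type*} [Field F] {G : Type*} [Group G]

/-- the conjugate embedding -/
def cf (g : G) (f : Y3 F →* G) : Y3 F →* G := (MulAut.conj g).toMonoidHom.comp f

theorem cf_apply (g : G) (f : Y3 F →* G) (y : Y3 F) : cf g f y = g * f y * g⁻¹ := rfl

theorem cf_inj {f : Y3 F →* G} (hf : Function.Injective f) (g : G) : Function.Injective (cf g f) :=
  (MulAut.conj g).injective.comp hf

theorem cf_range (g : G) (f : Y3 F →* G) : (cf g f).range = cj g f.range := by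
  ext x
  rw [mem_cj]
  constructor
  · rintro ⟨y, rfl⟩
    exact ⟨y, by rw [cf_apply]; group⟩
  · rintro ⟨y, hy⟩
    exact ⟨y, by rw [cf_apply, hy]; group⟩

theorem cf_Sf (g : G) (f : Y3 F →* G) : Sf (cf g f) = cj g (Sf f) := by
  ext x
  rw [mem_cj]
  constructor
  · rintro ⟨a, b, c, rfl⟩
    refine ⟨a, b, c, ?_⟩
    show g⁻¹ * (cf g f (pr (um a b c))) * g = _
    rw [cf_apply]
    unfold U
    group
  · rintro ⟨a, b, c, h⟩
    refine ⟨a, b, c, ?_⟩
    show _ = cf g f (pr (um a b c))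
    rw [cf_apply]
    have h' : g⁻¹ * x * g = f (pr (um a b c)) := h
    rw [← h']
    group

theorem cf_Zf (g : G) (f : Y3 F →* G) : Zf (cf g f) = cj g (Zf f) := by
  ext x
  rw [mem_cj]
  constructor
  · rintro ⟨c, rfl⟩
    refine ⟨c, ?_⟩
    show g⁻¹ * (cf g f (pr (um 0 0 c))) * g = _
    rw [cf_apply]
    unfold U
    group
  · rintro ⟨c, h⟩
    refine ⟨c, ?_⟩
    show _ = cf g f (pr (um 0 0 c))
    rw [cf_apply]
    have h' : g⁻¹ * x * g = f (pr (um 0 0 c)) := h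
    rw [← h']
    group

theorem cf_Hf (g : G) (f : Y3 F →* G) : Hf (cf g f) = cj g (Hf f) := by
  ext x
  rw [mem_cj]
  constructor
  · rintro ⟨a, b, hab, rfl⟩
    refine ⟨a, b, hab, ?_⟩
    show g⁻¹ * (cf g f (pr (hm a b))) * g = _
    rw [cf_apply]
    unfold Tm
    group
  · rintro ⟨a, b, hab, h⟩
    refine ⟨a, b, hab, ?_⟩
    show _ = cf g f (pr (hm a b))
    rw [cf_apply]
    have h' : g⁻¹ * x * g = f (pr (hm a b)) := h
    rw [← h']
    group

theorem fr_cj [Finite G] [Finite F] [CharP F 2] {f : Y3 F →* G} (hf : Function.Injective f) (h8 : 8 ≤ Nat.card F)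
    (hctr : ∀ k ∈ f.range, k ∈ centralizer (f.range : Set G) → k = 1) (g : G) :
    Fr (cj g f.range) (cj g (Sf f)) (cj g (Zf f)) (cj g (Hf f)) := by
  rw [← cf_range, ← cf_Sf, ← cf_Zf, ← cf_Hf]
  apply fr (cf_inj hf g) h8
  rw [cf_range, centralizer_cj]
  intro k hk hc
  rw [mem_cj] at hk hc
  have h1 := hctr _ hk hc
  calc k = g * (g⁻¹ * k * g) * g⁻¹ := by group
    _ = 1 := by rw [h1]; group

end transport

/-- **the abstract end of (B)** -/
structure Mover {G : Type*} [Group G] (K S Z Q : Subgroup G) (y : G) : Prop where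
  fr : ∃ H, Fr K S Z H
  tight : TightAt K
  sylQ : IsSyl Q (centralizer (K : Set G))
  yK : y ∉ normalizer (K : Set G)
  yS : cj y S = S
  yQ : ∀ u ∈ cj y Q, ∃ z ∈ Z, z⁻¹ * u ∈ Q

namespace Mover

variable {G : Type*} [Group G] [Finite G] {K S Z Q : Subgroup G} {y : G}

theorem ZK (T : Mover K S Z Q y) : Z ≤ K := by
  obtain ⟨H, h⟩ := T.fr
  exact h.ZS.trans h.SK

theorem comm (T : Mover K S Z Q y) {q k : G} (hq : q ∈ Q) (hk : k ∈ K) : q * k = k * q :=
  (mem_centralizer_iff.1 (T.sylQ.le hq) k hk).symm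

theorem cjZ (T : Mover K S Z Q y) : cj y Z = Z := by
  obtain ⟨H, h⟩ := T.fr
  have h1 : ∀ z ∈ Z, y * z * y⁻¹ ∈ Z := by
    apply h.norm_Z
    · intro s hs
      have := mem_cj_mul (g := y) hs
      rwa [T.yS] at this
    · intro s hs
      rw [← T.yS, mem_cj] at hs
      exact hs
  have h2 : cj y Z ≤ Z := by
    intro z hz
    rw [mem_cj] at hz
    have := h1 _ hz
    have e : y * (y⁻¹ * z * y) * y⁻¹ = z := by group
    rwa [e] at this
  exact Subgroup.eq_of_le_of_card_ge h2 (card_cj y Z).ge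

theorem disj (T : Mover K S Z Q y) {q : G} (hq : q ∈ Q) (hq' : q ∈ cj y Q) : q = 1 := by
  by_contra hne
  obtain ⟨n, hn⟩ := CommConj.exists_pow_involution T.sylQ.two hq hne
  apply T.yK
  apply T.tight.eq (k := q ^ n) (T.sylQ.le (pow_mem hq n)) hn
  rw [centralizer_cj]
  exact cj_mono' T.sylQ.le (pow_mem hq' n)

/-- `Q ≤ Q^y Z` -/
theorem dec (T : Mover K S Z Q y) {q : G} (hq : q ∈ Q) : ∃ u ∈ cj y Q, ∃ z ∈ Z, q = u * z := by
  have hZQ : Z ≤ normalizer (Q : Set G) := by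
    intro z hz
    apply Subgroup.mem_normalizer_fintype
    intro q hq
    rw [← T.comm hq (T.ZK hz), mul_inv_cancel_right]
    exact hq
  have h1 : cj y (Z ⊔ Q) ≤ Z ⊔ Q := by
    show (Z ⊔ Q).map (MulAut.conj y).toMonoidHom ≤ Z ⊔ Q
    rw [Subgroup.map_sup]
    refine sup_le ?_ ?_
    · have := T.cjZ
      exact (le_of_eq this).trans le_sup_left
    · intro u hu
      obtain ⟨z, hz, h⟩ := T.yQ u hu
      have e : u = z * (z⁻¹ * u) := by group
      rw [e]
      exact mul_mem (Subgroup.mem_sup_left hz) (Subgroup.mem_sup_right h)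
  have h2 : cj y (Z ⊔ Q) = Z ⊔ Q := Subgroup.eq_of_le_of_card_ge h1 (card_cj y _).ge
  have h3 : q ∈ cj y (Z ⊔ Q) := by rw [h2]; exact Subgroup.mem_sup_right hq
  rw [mem_cj] at h3
  have h4 : y⁻¹ * q * y ∈ ((Z ⊔ Q : Subgroup G) : Set G) := h3
  rw [Subgroup.coe_mul_of_left_le_normalizer_right Z Q hZQ] at h4
  obtain ⟨z, hz, r, hr, e⟩ := h4
  have e' : z * r = y⁻¹ * q * y := e
  refine ⟨y * r * y⁻¹, mem_cj_mul hr, y * z * y⁻¹, ?_, ?_⟩
  · have := mem_cj_mul (g := y) hz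
    rwa [T.cjZ] at this
  · have h5 := T.comm hr (T.ZK hz)
    calc q = y * (y⁻¹ * q * y) * y⁻¹ := by group
      _ = y * (r * z) * y⁻¹ := by rw [← e', h5]
      _ = y * r * y⁻¹ * (y * z * y⁻¹) := by group

/-- `Q` is elementary -/
theorem sq (T : Mover K S Z Q y) {q : G} (hq : q ∈ Q) : q * q = 1 := by
  obtain ⟨u, hu, z, hz, rfl⟩ := T.dec hq
  obtain ⟨H, h⟩ := T.fr
  have huz : u * z = z * u := by
    have hz' : y⁻¹ * z * y ∈ Z := by
      rw [← T.cjZ, mem_cj] at hz; exact hz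
    rw [mem_cj] at hu
    have h1 := T.comm hu (T.ZK hz')
    calc u * z = y * ((y⁻¹ * u * y) * (y⁻¹ * z * y)) * y⁻¹ := by group
      _ = y * ((y⁻¹ * z * y) * (y⁻¹ * u * y)) * y⁻¹ := by rw [h1]
      _ = z * u := by group
  have e : u * z * (u * z) = u * u := by
    calc u * z * (u * z) = u * (z * u) * z := by group
      _ = u * (u * z) * z := by rw [huz]
      _ = u * u * (z * z) := by group
      _ = u * u := by rw [h.z2 z hz, mul_one]
  apply T.disj (mul_mem hq hq)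
  rw [e]
  exact mul_mem hu hu

theorem amb (T : Mover K S Z Q y) : DblR.Amb K Q where
  tt := fun t ht => T.sq ht
  comm := fun t ht k hk => T.comm ht hk
  nor := by
    intro t ht ht1 g hg k hk
    have h2 : orderOf t = 2 := orderOf_eq_prime (by rw [pow_two, T.sq ht]) ht1
    have h3 := T.tight.mem (T.sylQ.le ht) h2 hg
    exact (mem_normalizer_iff.1 h3 k).1 hk
  ctr := by
    intro k hk h
    obtain ⟨H, hfr⟩ := T.fr
    exact hfr.ctr k hk (mem_centralizer_iff.2 fun x hx => (h x hx).symm)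

theorem two (T : Mover K S Z Q y) : ∀ c ∈ DblR.C1 K Q, IsPGroup 2 ↥(zpowers c) → c ∈ Q := by
  intro c hc h2
  obtain ⟨h3, h4⟩ := DblR.mem_C1.1 hc
  apply mem_of_syl T.sylQ (mem_centralizer_iff.2 fun k hk => (h3 k hk).symm)
  · obtain ⟨n, hn⟩ := h2 ⟨c, Subgroup.mem_zpowers c⟩
    exact ⟨n, congrArg Subtype.val hn⟩
  · intro q hq
    rw [h4 q hq, mul_inv_cancel_right]
    exact hq

theorem gR (T : Mover K S Z Q y) : ∀ a ∈ Q, ∃ b ∈ Q, ∃ z ∈ Z, y * a * y⁻¹ = b * z := by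
  intro a ha
  obtain ⟨z, hz, h⟩ := T.yQ _ (mem_cj_mul ha)
  refine ⟨_, h, z, hz, ?_⟩
  rw [T.comm h (T.ZK hz)]
  group

end Mover

variable {F : Type} [Field F] [Finite F] [CharP F 2]

/-- **no standard component `L_3(q)`, `q ≥ 8` even, with `m_2(C(K)) ≥ 2`** (modulo `hD`) -/
theorem core {G : Type u} [Group G] (hG : Iface.Ctx G) (h1173 : Start.P1173.{u}) (h8 : 8 ≤ Nat.card F)
    {f : Y3 F →* G} (hf : Function.Injective f) (S : Iface.Std G f.range)
    (hrk : ¬ PRankLE 2 1 ↥(centralizer (f.range : Set G))) (hz : Subgroup.center ↥f.range = ⊥)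
    (hD : ∀ f' : Y3 F →* G, Function.Injective f' → ∀ R W : Subgroup G, DblR.Amb f'.range R →
      DblR.Base f'.range R (Sf f') (Zf f') W → ∀ t ∈ R, ∀ t' ∈ R, t ≠ 1 → t' ≠ 1 → t' ≠ t → False) : False := by
  have := hG.fin
  have := hG.simple
  have hs : IsSimpleGroup ↥f.range := Start.isSimple_of_center S.simple hz
  have hstd := S.std
  have tight : TightAt f.range := EvenPair.tight_of_standard hstd
  obtain ⟨a, b, ha, hb, ha2, hb2, hab, hne⟩ := EvenPair.exists_two_of_not_pRankLE hrk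
  have heven : Even (Nat.card ↥(centralizer (f.range : Set G))) := even_of_mem ha2 ha
  have hctr : ∀ k ∈ f.range, k ∈ centralizer (f.range : Set G) → k = 1 := by
    intro k hk hc
    have h1 : (⟨k, hk⟩ : ↥f.range) ∈ Subgroup.center ↥f.range := by
      rw [Subgroup.mem_center_iff]
      rintro ⟨g, hg⟩
      exact Subtype.ext (mem_centralizer_iff.1 hc g hg)
    rw [hz, Subgroup.mem_bot] at h1
    exact congrArg Subtype.val h1
  have hfr := fr_cj hf h8 hctr
  have hfr1 : Fr f.range (Sf f) (Zf f) (Hf f) := fr hf h8 hctr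
  have hperf : ⁅f.range, f.range⁆ = f.range := by
    have h1 : ⁅(⊤ : Subgroup ↥f.range), (⊤ : Subgroup ↥f.range)⁆ = ⊤ := hstd.1.1.commutator_eq_top
    have h2 := congrArg (Subgroup.map f.range.subtype) h1
    rw [Subgroup.map_commutator, ← MonoidHom.range_eq_map, Subgroup.range_subtype] at h2
    exact h2
  have hKne : f.range ≠ ⊥ := by
    intro h
    obtain ⟨z, hz, hzne⟩ := hfr1.ne
    apply hzne
    have h1 := hfr1.SK (hfr1.ZS hz)
    rwa [h, Subgroup.mem_bot] at h1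
  -- a full pair
  obtain ⟨g, hg, r, hr, hr2, hrg⟩ := EvenPair.exists_even (h1173 G (Start.oddCore_eq_bot ha2)) tight heven hKne hperf
    (fun k hk c hc => mem_centralizer_iff.1 hc k hk)
  obtain ⟨E, hE⟩ := tight.exists_maxE hg hr hr2 hrg
  have inner : ∀ T : Subgroup G, IsSyl T (normalizer (f.range : Set G)) → ∀ y ∈ T,
      (∀ s ∈ T, s ∈ f.range → s * y = y * s) →
      ∃ k ∈ centralizer (f.range : Set G), ∃ s ∈ T, s ∈ f.range ∧ (∀ u ∈ T, u ∈ f.range → u * s = s * u) ∧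
        y = k * s := by
    intro T hT y hy hyc
    have hTK : IsSyl (T ⊓ f.range) f.range := hT.inf Subgroup.le_normalizer hT.le
    obtain ⟨k, hk, hkS⟩ := syl_eq hfr1.syl hTK
    have hfrk : Fr f.range (cj k (Sf f)) (cj k (Zf f)) (cj k (Hf f)) := by
      have h1 := hfr k
      rwa [cj_eq_of_mem_normalizer (Subgroup.le_normalizer hk)] at h1
    obtain ⟨z, hz, hc⟩ := hfrk.F1 y (hT.le hy) (by
      intro s hs
      rw [← hkS] at hs
      exact (hyc s hs.1 hs.2).symm)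
    have hzS := hfrk.ZS hz
    rw [← hkS] at hzS
    refine ⟨z⁻¹ * y, hc, z, hzS.1, hzS.2, ?_, ?_⟩
    · intro u hu huK
      exact (hfrk.zc z hz u (by rw [← hkS]; exact ⟨hu, huK⟩)).symm
    · have h1 := mem_centralizer_iff.1 hc z hzS.2
      rw [← h1]; group
  obtain ⟨L, Q, V, hp, -, -⟩ := Exists.fullPair_of_maxE tight (fun x hx hc => hctr x hx hc) inner hE
  have ncm : ∀ g : G, g ∉ normalizer (f.range : Set G) → ¬ ∀ a ∈ f.range, ∀ b ∈ cj g f.range, a * b = b * a := by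
    intro g hg hcm
    refine hstd.2.2.1 g ?_ ?_
    · intro h
      exact hg (mem_normalizer_of_cj_eq h)
    · rw [Subgroup.commutator_eq_bot_iff_le_centralizer]
      intro a ha
      rw [mem_centralizer_iff]
      intro b hb
      exact (hcm a ha b hb).symm
  obtain ⟨k, E', x, hk, hsit⟩ := exists_sit hfr hs tight ncm hp ⟨a, ha, b, hb, ha2, hb2, hab, hne⟩
  obtain ⟨y, hyK, hyS, hyQ⟩ := hsit.main
  -- change of coordinates
  have hf' := cf_inj hf k
  have hr' : (cf k f).range = f.range := by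
    rw [cf_range]
    exact cj_eq_of_mem_normalizer (Subgroup.le_normalizer hk)
  have hS' := cf_Sf k f
  have hZ' := cf_Zf k f
  have hM : Mover (cf k f).range (Sf (cf k f)) (Zf (cf k f)) Q y := by
    rw [hr', hS', hZ']
    exact ⟨⟨_, hsit.fr1⟩, tight, hp.sylQ, hyK, hyS, hyQ⟩
  -- two involutions of `Q`
  obtain ⟨t, t', ht, ht', ht1, ht1', htt⟩ : ∃ t t' : G, t ∈ Q ∧ t' ∈ Q ∧ t ≠ 1 ∧ t' ≠ 1 ∧ t' ≠ t := by
    obtain ⟨m, -, hm⟩ := hp.sylQ.conj_into (isPGroup_two ha2 hb2 hab)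
      (sup_le (by rwa [Subgroup.zpowers_le]) (by rwa [Subgroup.zpowers_le]))
    have h1 : ∀ x : G, orderOf x = 2 → m * x * m⁻¹ ≠ 1 := by
      intro x hx h
      have h2 := Basic.orderOf_conj m x
      rw [h, orderOf_one, hx] at h2
      omega
    refine ⟨_, _, hm _ (Subgroup.mem_sup_left (Subgroup.mem_zpowers _)),
      hm _ (Subgroup.mem_sup_right (Subgroup.mem_zpowers _)), h1 a ha2, h1 b hb2, ?_⟩
    intro h
    apply hne
    calc a = m⁻¹ * (m * a * m⁻¹) * m := by group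
      _ = m⁻¹ * (m * b * m⁻¹) * m := by rw [h]
      _ = b := by group
  obtain ⟨W, hW⟩ := Double.exists_base hf' h8 hM.amb hM.two (g := y)
    (by
      intro s hs
      have := mem_cj_mul (g := y) hs
      rwa [hM.yS] at this)
    hM.gR ⟨t, ht, fun h => by
      have h1 := hM.disj h (mem_cj_mul ht)
      apply ht1
      calc t = y⁻¹ * (y * t * y⁻¹) * y := by group
        _ = 1 := by rw [h1]; group⟩
  exact hD (cf k f) hf' Q W hM.amb hW t ht t' ht' ht1 ht1' htt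

end Cfsg.Agent.OddHalf.D4.L3

end

-- merged: Cfsg.Agent.OddHalf.D4.L3.Cubes
section

/-!
# ODD, D4, row l3e: sums of cubes in a finite field of characteristic 2 with at least 8 elements

* `exists_cubes` : every element is a sum of nonzero cubes;
* `exists_cube_ne_one` : some `a ≠ 0` has `a ^ 3 ≠ 1`.
-/

set_option autoImplicit false

namespace Cfsg.Agent.OddHalf.D4.L3

variable {F : Type*} [Field F]

/-- sums of nonzero cubes -/
def Cb (F : Type*) [Field F] [CharP F 2] : Subring F where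
  carrier := {s | ∃ l : List F, (∀ a ∈ l, a ≠ 0) ∧ (l.map fun a => a ^ 3).sum = s}
  zero_mem' := ⟨[], by simp, rfl⟩
  one_mem' := ⟨[1], by simp, by simp⟩
  add_mem' := by
    rintro _ _ ⟨l, h1, rfl⟩ ⟨l', h1', rfl⟩
    refine ⟨l ++ l', ?_, by rw [List.map_append, List.sum_append]⟩
    intro b hb
    rcases List.mem_append.1 hb with hb | hb
    · exact h1 b hb
    · exact h1' b hb
  neg_mem' := by
    rintro _ ⟨l, h1, rfl⟩
    exact ⟨l, h1, by rw [CharTwo.neg_eq]⟩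
  mul_mem' := by
    rintro _ s' ⟨l, h1, rfl⟩ ⟨l', h1', e'⟩
    induction l with
    | nil => exact ⟨[], by simp, by simp⟩
    | cons a l ih =>
      obtain ⟨l₂, h2, e2⟩ := ih fun b hb => h1 b (List.mem_cons_of_mem _ hb)
      have ha : a ≠ 0 := h1 a List.mem_cons_self
      refine ⟨l'.map (a * ·) ++ l₂, ?_, ?_⟩
      · intro b hb
        rcases List.mem_append.1 hb with hb | hb
        · obtain ⟨c, hc, rfl⟩ := List.mem_map.1 hb
          exact mul_ne_zero ha (h1' c hc)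
        · exact h2 b hb
      · rw [List.map_cons, List.sum_cons, add_mul, List.map_append, List.sum_append, e2, List.map_map]
        congr 1
        have : ((fun a : F => a ^ 3) ∘ fun x => a * x) = fun b => a ^ 3 * b ^ 3 := by
          funext b
          exact mul_pow a b 3
        rw [this, List.sum_map_mul_left, e']

theorem cube_mem [CharP F 2] (a : F) : a ^ 3 ∈ Cb F := by
  by_cases h : a = 0
  · rw [h, zero_pow (by norm_num)]; exact zero_mem _
  · exact ⟨[a], by simpa using h, by simp⟩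

theorem wp_mem [CharP F 2] (t : F) : t ^ 2 + t ∈ Cb F := by
  have h2 : (2 : F) = 0 := CharTwo.two_eq_zero
  have e : t ^ 2 + t = (t + 1) ^ 3 - t ^ 3 - 1 := by linear_combination (-t ^ 2 - t) * h2
  rw [e]
  exact sub_mem (sub_mem (cube_mem _) (cube_mem _)) (one_mem _)

theorem exists_cube_ne_one [Finite F] (h8 : 5 ≤ Nat.card F) : ∃ a : F, a ≠ 0 ∧ a ^ 3 ≠ 1 := by
  by_contra hcon
  push Not at hcon
  obtain ⟨g, hg⟩ := IsCyclic.exists_generator (α := Fˣ)
  have h1 : Nat.card Fˣ = orderOf g := by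
    rw [← Nat.card_zpowers, Subgroup.eq_top_iff' _ |>.2 hg, Subgroup.card_top]
  have h2 : g ^ 3 = 1 := by
    apply Units.ext
    rw [Units.val_pow_eq_pow_val, Units.val_one]
    exact hcon _ g.ne_zero
  have h3 := orderOf_le_of_pow_eq_one (by norm_num) h2
  rw [Nat.card_units] at h1
  omega

theorem Cb_eq_top [CharP F 2] [Finite F] (h8 : 5 ≤ Nat.card F) : Cb F = ⊤ := by
  have h2 : (2 : F) = 0 := CharTwo.two_eq_zero
  by_contra hne
  obtain ⟨x, hx⟩ : ∃ x, x ∉ Cb F := by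
    by_contra h
    push Not at h
    exact hne (Subring.eq_top_iff' _ |>.2 h)
  have hinv : ∀ r ∈ Cb F, r⁻¹ ∈ Cb F := by
    intro r hr
    by_cases h0 : r = 0
    · rw [h0, inv_zero]
      exact zero_mem _
    have := Fintype.ofFinite F
    have h1 : r ^ (Fintype.card F - 1) = 1 := FiniteField.pow_card_sub_one_eq_one r h0
    have h2 : 1 < Fintype.card F := Fintype.one_lt_card
    have h3 : r⁻¹ = r ^ (Fintype.card F - 2) := by
      apply inv_eq_of_mul_eq_one_right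
      rw [← pow_succ', show Fintype.card F - 2 + 1 = Fintype.card F - 1 by omega, h1]
    rw [h3]
    exact pow_mem hr _
  have h1 : ∀ c ∈ Cb F, c ^ 2 + c = 0 := by
    intro c hc
    by_contra h
    apply hx
    have e1 := wp_mem (c * x)
    have e2 := mul_mem (pow_mem hc 2) (wp_mem x)
    have e3 := sub_mem e1 e2
    have e4 : (c * x) ^ 2 + c * x - c ^ 2 * (x ^ 2 + x) = (c ^ 2 + c) * x := by
      linear_combination (-c ^ 2 * x) * h2
    rw [e4] at e3
    have e5 := mul_mem (hinv _ (add_mem (pow_mem hc 2) hc)) e3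
    rwa [inv_mul_cancel_left₀ h] at e5
  obtain ⟨a, ha, ha3⟩ := exists_cube_ne_one h8
  apply ha3
  have e := h1 _ (wp_mem a)
  have e2 : a * (a ^ 3 - 1) = 0 := by linear_combination e - (a ^ 3 + a ^ 2 + a) * h2
  rcases mul_eq_zero.1 e2 with h | h
  · exact absurd h ha
  · exact sub_eq_zero.1 h

/-- **Every element is a sum of nonzero cubes.** -/
theorem exists_cubes [CharP F 2] [Finite F] (h8 : 5 ≤ Nat.card F) (s : F) :
    ∃ l : List F, (∀ a ∈ l, a ≠ 0) ∧ (l.map fun a => a ^ 3).sum = s := by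
  have h : s ∈ Cb F := by rw [Cb_eq_top h8]; exact Subring.mem_top s
  exact h

end Cfsg.Agent.OddHalf.D4.L3

end

-- merged: Cfsg.Agent.OddHalf.D4.L3.Tri
section

/-!
# ODD, D4, row l3e (text #14806 (D)): `K = L₃(q)`, `q ≥ 8` even: the three root groups `X01`, `X12`, `X02`

* `Xg fr i j` : the root group `{x i j s}`; `Tg fr` : the torus;
* **`ktriP`** : `KTriP` with `Xr = X01`, `Xs = X12`, `Xd = X02`, `P = U` (Sylow 2-subgroup);
* **`false_of_base`** : no doubled root group `W` over `U`, invariant under `N_K(X02)`, if `R` has two involutions.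
-/

set_option autoImplicit false
set_option linter.unusedSectionVars false

namespace Cfsg.Agent.OddHalf.D4.L3

open Subgroup Cfsg.Agent.StdRank2 Cfsg.Agent.OddHalf.DblR
open Cfsg.Agent.StdRank2.OutL3Rel (u u_r u_s u_t u_mem)

local notation "cJ" => Cfsg.Agent.Nodes.Reps.cj

variable {G : Type*} [Group G] {K : Subgroup G} {F : Type*} [Field F]

/-- the root group `{x i j s}` -/
def Xg (fr : FrameL3 K F) (i j : Fin 3) : Subgroup G := closure (Set.range (fr.x i j))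

/-- the torus -/
def Tg (fr : FrameL3 K F) : Subgroup G where
  carrier := {y | ∃ c, fr.Tor y c}
  one_mem' := ⟨_, FrameL3.Tor.one fr⟩
  mul_mem' := by
    rintro a b ⟨c, h⟩ ⟨c', h'⟩
    exact ⟨_, h.mul h'⟩
  inv_mem' := by
    rintro a ⟨c, h⟩
    exact ⟨_, h.inv⟩

theorem mem_Tg {fr : FrameL3 K F} {y : G} : y ∈ Tg fr ↔ ∃ c, fr.Tor y c := Iff.rfl

theorem Tor_pow {fr : FrameL3 K F} {y : G} {c : Fin 3 → F} (h : fr.Tor y c) (n : ℕ) :
    fr.Tor (y ^ n) (fun i => c i ^ n) := by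
  induction n with
  | zero => simpa using FrameL3.Tor.one fr
  | succ n ih =>
    have := ih.mul h
    simpa only [pow_succ] using this

theorem cJ_eq {g : G} {S S' : Subgroup G} (h1 : ∀ y ∈ S, g * y * g⁻¹ ∈ S') (h2 : ∀ y ∈ S', g⁻¹ * y * g ∈ S) :
    cJ g S = S' := by
  ext y
  rw [Cfsg.Agent.Nodes.Reps.mem_cj]
  refine ⟨fun hy => ?_, h2 y⟩
  have := h1 _ hy
  have e : g * (g⁻¹ * y * g) * g⁻¹ = y := by group
  rwa [e] at this

theorem C1_of_cent {R : Subgroup G} {z c : G} (hzK : z ∈ K) (hKR : ∀ t ∈ R, ∀ k ∈ K, t * k = k * t)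
    (hc : ∀ a ∈ R, c * a = a * c) (h : z⁻¹ * c ∈ centralizer (K : Set G)) : z⁻¹ * c ∈ C1 K R := by
  rw [mem_C1]
  refine ⟨fun k hk => (mem_centralizer_iff.1 h k hk).symm, fun t ht => ?_⟩
  have h1 := hKR t ht z⁻¹ (inv_mem hzK)
  calc z⁻¹ * c * t = z⁻¹ * (c * t) := by group
    _ = (z⁻¹ * t) * c := by rw [hc t ht]; group
    _ = t * (z⁻¹ * c) := by rw [← h1]; group

theorem cases_ij : ∀ {i j : Fin 3}, i < j → (i, j) ≠ (0, 2) → (i = 0 ∧ j = 1) ∨ (i = 1 ∧ j = 2) := by decide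

theorem mem_normalizer_of_comm {R : Subgroup G} (A : Amb K R) (hR : ∃ t ∈ R, t ≠ 1) {c : G}
    (hc : ∀ a ∈ R, c * a = a * c) : c ∈ normalizer (K : Set G) := by
  obtain ⟨t, ht, ht1⟩ := hR
  rw [mem_normalizer_iff]
  intro k
  refine ⟨A.nor t ht ht1 c (hc t ht) k, fun hk => ?_⟩
  have h1 : c⁻¹ * t = t * c⁻¹ := by
    calc c⁻¹ * t = c⁻¹ * (t * c) * c⁻¹ := by group
      _ = c⁻¹ * (c * t) * c⁻¹ := by rw [hc t ht]
      _ = t * c⁻¹ := by group
  have h2 := A.nor t ht ht1 c⁻¹ h1 _ hk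
  have e : c⁻¹ * (c * k * c⁻¹) * c⁻¹⁻¹ = k := by group
  rwa [e] at h2

section Odd

variable [CharP F 2] (fr : FrameL3 K F) (hZ : Odd (Nat.card (center ↥K)))
include hZ

theorem mem_Xg {i j : Fin 3} (h : i ≠ j) {g : G} : g ∈ Xg fr i j ↔ ∃ s, g = fr.x i j s := by
  constructor
  · intro hg
    induction hg using closure_induction with
    | mem y hy => obtain ⟨s, rfl⟩ := hy; exact ⟨s, rfl⟩
    | one => exact ⟨0, (fr.x_zero hZ h).symm⟩
    | mul y z _ _ hy hz =>
      obtain ⟨s, rfl⟩ := hy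
      obtain ⟨t, rfl⟩ := hz
      exact ⟨s + t, fr.add hZ h s t⟩
    | inv y _ hy =>
      obtain ⟨s, rfl⟩ := hy
      exact ⟨s, fr.x_inv h s⟩
  · rintro ⟨s, rfl⟩
    exact subset_closure ⟨s, rfl⟩

omit [CharP F 2] hZ in
theorem x_mem_Xg (i j : Fin 3) (s : F) : fr.x i j s ∈ Xg fr i j := subset_closure ⟨s, rfl⟩

omit hZ [CharP F 2] in
theorem Xg_le_U {i j : Fin 3} (h : i < j) : Xg fr i j ≤ fr.U := by
  unfold Xg
  rw [closure_le]
  rintro _ ⟨s, rfl⟩
  exact fr.x_mem_U h s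

theorem Tor.conj_mem {y : G} {c : Fin 3 → F} (hy : fr.Tor y c) {i j : Fin 3} (h : i ≠ j) {g : G}
    (hg : g ∈ Xg fr i j) : y * g * y⁻¹ ∈ Xg fr i j := by
  obtain ⟨s, rfl⟩ := (mem_Xg fr hZ h).1 hg
  rw [hy.conj hZ h]
  exact x_mem_Xg fr _ _ _

theorem cJ_T {y : G} (hy : y ∈ Tg fr) {i j : Fin 3} (h : i ≠ j) : cJ y (Xg fr i j) = Xg fr i j := by
  obtain ⟨c, hc⟩ := hy
  refine cJ_eq (fun g hg => Tor.conj_mem fr hZ hc h hg) fun g hg => ?_
  have := Tor.conj_mem fr hZ hc.inv h hg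
  rwa [inv_inv] at this

theorem w_conj_mem {i j k l : Fin 3} (h : i ≠ j) (hkl : k ≠ l) {g : G} (hg : g ∈ Xg fr k l) :
    fr.w i j 1 * g * (fr.w i j 1)⁻¹ ∈ Xg fr (Equiv.swap i j k) (Equiv.swap i j l) := by
  obtain ⟨s, rfl⟩ := (mem_Xg fr hZ hkl).1 hg
  rw [fr.w_conj_one hZ h hkl]
  exact x_mem_Xg fr _ _ _

theorem cJ_w {i j k l k' l' : Fin 3} (h : i ≠ j) (hkl : k ≠ l) (hk : Equiv.swap i j k = k')
    (hl : Equiv.swap i j l = l') : cJ (fr.w i j 1) (Xg fr k l) = Xg fr k' l' := by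
  subst hk hl
  refine cJ_eq (fun g hg => w_conj_mem fr hZ h hkl hg) fun g hg => ?_
  have hkl' : Equiv.swap i j k ≠ Equiv.swap i j l := fun e => hkl ((Equiv.swap i j).injective e)
  have := w_conj_mem fr hZ h hkl' hg
  rw [Equiv.swap_apply_self, Equiv.swap_apply_self] at this
  rwa [fr.w_inv h] at this ⊢

/-- `X_{k l} ≤ w U w⁻¹` if `w⁻¹` carries it into `U` -/
theorem le_cJ_U {i j k l : Fin 3} (h : i ≠ j) (hkl : k ≠ l) (hlt : Equiv.swap i j k < Equiv.swap i j l) :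
    Xg fr k l ≤ cJ (fr.w i j 1) fr.U := by
  intro g hg
  rw [Cfsg.Agent.Nodes.Reps.mem_cj]
  have := Xg_le_U fr hlt (w_conj_mem fr hZ h hkl hg)
  rwa [fr.w_inv h] at this ⊢

/-! ### Fixed points of the torus -/

theorem cen_of_eq {y : G} {c : Fin 3 → F} (hy : fr.Tor y c) {i j : Fin 3} (h : i ≠ j) (hc : c i = c j) :
    ∀ x ∈ Xg fr i j, y * x = x * y := by
  intro x hx
  obtain ⟨s, rfl⟩ := (mem_Xg fr hZ h).1 hx
  have h1 := hy.conj hZ h s
  have h2 : c i * s * (c j)⁻¹ = s := by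
    rw [hc, mul_right_comm, mul_inv_cancel₀ (hy.ne_zero j), one_mul]
  rw [h2] at h1
  exact mul_inv_eq_iff_eq_mul.1 h1

theorem fpf_of_ne {y : G} {c : Fin 3 → F} (hy : fr.Tor y c) {i j : Fin 3} (h : i ≠ j) (hc : c i ≠ c j) :
    ∀ x ∈ Xg fr i j, y * x = x * y → x = 1 := by
  intro x hx e
  obtain ⟨s, rfl⟩ := (mem_Xg fr hZ h).1 hx
  have h1 := hy.conj hZ h s
  rw [e, mul_inv_cancel_right, fr.x_inj h] at h1
  rw [fr.x_eq_one hZ h]
  by_contra hs
  apply hc
  have h2 : c i * (c j)⁻¹ * s = 1 * s := by rw [one_mul]; nth_rewrite 2 [h1]; ring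
  have h3 := mul_right_cancel₀ hs h2
  exact (mul_inv_eq_one₀ (hy.ne_zero j)).1 h3

theorem comm_w {y : G} {c : Fin 3 → F} (hy : fr.Tor y c) {i j : Fin 3} (h : i ≠ j) (hc : c i = c j) :
    y * fr.w i j 1 = fr.w i j 1 * y := by
  have h1 := cen_of_eq fr hZ hy h hc _ (x_mem_Xg fr i j 1)
  have h2 := cen_of_eq fr hZ hy h.symm hc.symm _ (x_mem_Xg fr j i 1⁻¹)
  have c1 : Commute y (fr.x i j 1) := h1
  have c2 : Commute y (fr.x j i 1⁻¹) := h2
  exact (c1.mul_right c2).mul_right c1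

theorem trans_T {i j k : Fin 3} (hij : i ≠ j) (hik : i ≠ k) (hkj : k ≠ j) :
    ∀ x ∈ Xg fr i j, x ≠ 1 → ∀ x' ∈ Xg fr i j, x' ≠ 1 → ∃ h ∈ Tg fr, h * x * h⁻¹ = x' := by
  intro x hx hx1 x' hx' hx1'
  obtain ⟨s, rfl⟩ := (mem_Xg fr hZ hij).1 hx
  obtain ⟨t, rfl⟩ := (mem_Xg fr hZ hij).1 hx'
  rw [Ne, fr.x_eq_one hZ hij] at hx1 hx1'
  have hst : t / s ≠ 0 := div_ne_zero hx1' hx1
  have h := fr.tor_w hZ hik hst
  refine ⟨_, ⟨_, h⟩, ?_⟩
  rw [h.conj hZ hij]
  congr 1
  simp only [if_true, if_neg hij.symm, if_neg hkj.symm, inv_one, mul_one]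
  rw [div_mul_cancel₀ _ hx1]

/-- products of conjugates under the elements `ta a` acting by `a ^ 3` -/
theorem lact_x {ta : F → G} {i j : Fin 3} (h : i ≠ j)
    (hta : ∀ a, a ≠ 0 → ∀ s, ta a * fr.x i j s * (ta a)⁻¹ = fr.x i j (a ^ 3 * s)) (s : F) :
    ∀ l : List F, (∀ a ∈ l, a ≠ 0) →
      lact (l.map ta) (fr.x i j s) = fr.x i j ((l.map fun a => a ^ 3).sum * s) := by
  intro l
  induction l with
  | nil => intro _; rw [List.map_nil, lact_nil, List.map_nil, List.sum_nil, zero_mul, fr.x_zero hZ h]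
  | cons a l ih =>
    intro hl
    rw [List.map_cons, lact_cons, ih fun c hc => hl c (List.mem_cons_of_mem _ hc), hta a (hl a List.mem_cons_self),
      fr.add hZ h, List.map_cons, List.sum_cons, add_mul]

end Odd

section Main

variable [Finite G] [Finite F] [CharP F 2] (fr : FrameL3 K F) (hZ : Odd (Nat.card (center ↥K)))

theorem prod_r {a : F} (ha : a ≠ 0) : (![a ^ 2, a⁻¹, a⁻¹] : Fin 3 → F) 0 * (![a ^ 2, a⁻¹, a⁻¹] : Fin 3 → F) 1 *
    (![a ^ 2, a⁻¹, a⁻¹] : Fin 3 → F) 2 = 1 := by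
  show a ^ 2 * a⁻¹ * a⁻¹ = 1
  field_simp

theorem prod_s {a : F} (ha : a ≠ 0) : (![a, a, (a ^ 2)⁻¹] : Fin 3 → F) 0 * (![a, a, (a ^ 2)⁻¹] : Fin 3 → F) 1 *
    (![a, a, (a ^ 2)⁻¹] : Fin 3 → F) 2 = 1 := by
  show a * a * (a ^ 2)⁻¹ = 1
  field_simp

theorem prod_d {a : F} (ha : a ≠ 0) : (![a, (a ^ 2)⁻¹, a] : Fin 3 → F) 0 * (![a, (a ^ 2)⁻¹, a] : Fin 3 → F) 1 *
    (![a, (a ^ 2)⁻¹, a] : Fin 3 → F) 2 = 1 := by
  show a * (a ^ 2)⁻¹ * a = 1
  field_simp

include hZ

omit [Finite G] in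
/-- the torus has exponent `q - 1` -/
theorem T_pow {R : Subgroup G} (A : Amb K R) {y : G} (hy : y ∈ Tg fr) :
    ∃ l : ℕ, Odd l ∧ y ^ l = 1 := by
  obtain ⟨c, hc⟩ := hy
  have := Fintype.ofFinite F
  have h1 : ∀ i, c i ^ (Fintype.card F - 1) = 1 := fun i => FiniteField.pow_card_sub_one_eq_one _ (hc.ne_zero i)
  refine ⟨Fintype.card F - 1, ?_, ?_⟩
  · obtain ⟨n, -, hn⟩ := FiniteField.card F 2
    have h2 : 0 < (n : ℕ) := n.pos
    have h3 : Even (Fintype.card F) := by rw [hn]; exact (Nat.even_pow.2 ⟨even_two, h2.ne'⟩)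
    have h4 : 0 < Fintype.card F := Fintype.card_pos
    exact Nat.Even.sub_odd (by omega) h3 odd_one
  · have h2 := Tor_pow hc (Fintype.card F - 1)
    exact A.ctr _ h2.mem (h2.central (by simp only [h1]) (by simp only [h1]))

omit [Finite G] [Finite F] hZ [CharP F 2] in
theorem T_comm {R : Subgroup G} (A : Amb K R) {y z : G} (hy : y ∈ Tg fr) (hz : z ∈ Tg fr) : y * z = z * y := by
  obtain ⟨c, hc⟩ := hy
  obtain ⟨d, hd⟩ := hz
  have h1 := ((hc.mul hd).mul hc.inv).mul hd.inv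
  have h2 : ∀ i, c i * d i * (c i)⁻¹ * (d i)⁻¹ = 1 := by
    intro i
    have := hc.ne_zero i
    have := hd.ne_zero i
    field_simp
  have h3 := A.ctr _ h1.mem (h1.central (by simp only [h2]) (by simp only [h2]))
  calc y * z = (y * z * y⁻¹ * z⁻¹) * (z * y) := by group
    _ = z * y := by rw [h3, one_mul]

/-- **The three root groups of `L₃(q)`.** -/
theorem ktriP (hA : _root_.commutator ↥K = ⊤) {R : Subgroup G} (A : Amb K R) (hR : ∃ t ∈ R, t ≠ 1)
    (h8 : 8 ≤ Nat.card F) :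
    KTriP K R (Tg fr) (Xg fr 0 1) (Xg fr 1 2) (Xg fr 0 2) (cJ (fr.w 1 2 1) fr.U) (cJ (fr.w 0 1 1) fr.U) fr.U
      (Xg fr 0 1 ⊔ Xg fr 0 2) (Xg fr 1 2 ⊔ Xg fr 0 2) (Xg fr 0 2) (fr.w 1 2 1) (fr.w 0 1 1) := by
  have h01 : (0 : Fin 3) ≠ 1 := by decide
  have h12 : (1 : Fin 3) ≠ 2 := by decide
  have h02 : (0 : Fin 3) ≠ 2 := by decide
  have hX01 : Xg fr 0 1 ≤ K := (Xg_le_U fr (by decide)).trans fr.U_le
  have hX12 : Xg fr 1 2 ≤ K := (Xg_le_U fr (by decide)).trans fr.U_le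
  have hX02 : Xg fr 0 2 ≤ K := (Xg_le_U fr (by decide)).trans fr.U_le
  obtain ⟨a0, ha0, ha03⟩ := exists_cube_ne_one (F := F) (by omega)
  have hex : ∀ c : Fin 3 → F, c 0 * c 1 * c 2 = 1 → ∃ y, fr.Tor y c := fun c hc => fr.exists_tor hc
  -- the elements acting on `X01`
  have hr : ∀ a : F, ∃ y, a ≠ 0 → fr.Tor y ![a ^ 2, a⁻¹, a⁻¹] := by
    intro a
    by_cases ha : a = 0
    · exact ⟨1, fun h => absurd ha h⟩
    · obtain ⟨y, hy⟩ := hex _ (prod_r ha)
      exact ⟨y, fun _ => hy⟩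
  have hs : ∀ a : F, ∃ y, a ≠ 0 → fr.Tor y ![a, a, (a ^ 2)⁻¹] := by
    intro a
    by_cases ha : a = 0
    · exact ⟨1, fun h => absurd ha h⟩
    · obtain ⟨y, hy⟩ := hex _ (prod_s ha)
      exact ⟨y, fun _ => hy⟩
  choose tr htr using hr
  choose ts hts using hs
  have hx01 : ∀ s t : F, fr.x 0 1 s * fr.x 0 2 t = u fr s 0 t := by
    intro s t
    unfold u
    rw [mul_zero, sub_zero, fr.x_zero hZ h12, mul_one]
  have hx12 : ∀ s t : F, fr.x 1 2 s * fr.x 0 2 t = u fr 0 s t := by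
    intro s t
    unfold u
    rw [zero_mul, sub_zero, fr.x_zero hZ h01, one_mul]
  have hcm : ∀ s t : F, fr.x 0 1 s * fr.x 1 2 t * (fr.x 0 1 s)⁻¹ * (fr.x 1 2 t)⁻¹ = fr.x 0 2 (s * t) := by
    intro s t
    rw [fr.conj hZ h01 h12 h02, mul_inv_cancel_right]
  have hdis : ∀ {i j : Fin 3}, i < j → (i, j) ≠ (0, 2) → ∀ x ∈ Xg fr i j, x ∈ Xg fr 0 2 → x = 1 := by
    intro i j hij hne x hx hx'
    obtain ⟨s, rfl⟩ := (mem_Xg fr hZ hij.ne).1 hx
    obtain ⟨t, ht⟩ := (mem_Xg fr hZ h02).1 hx'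
    have e02 : fr.x 0 2 t = fr.el 0 0 t := by
      rw [FrameL3.el, fr.x_zero hZ h01, fr.x_zero hZ h12, one_mul, one_mul]
    rcases cases_ij hij hne with ⟨rfl, rfl⟩ | ⟨rfl, rfl⟩
    · have e01 : fr.x 0 1 s = fr.el s 0 0 := by
        rw [FrameL3.el, fr.x_zero hZ h12, fr.x_zero hZ h02, mul_one, mul_one]
      rw [e01, e02, fr.el_inj] at ht
      rw [ht.1, fr.x_zero hZ h01]
    · have e12 : fr.x 1 2 s = fr.el 0 s 0 := by
        rw [FrameL3.el, fr.x_zero hZ h01, fr.x_zero hZ h02, one_mul, mul_one]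
      rw [e12, e02, fr.el_inj] at ht
      rw [ht.2.1, fr.x_zero hZ h12]
  have hbig : ∃ ω : F, ω ≠ 0 ∧ ω ≠ 1 := ⟨a0, ha0, fun h => ha03 (by rw [h, one_pow])⟩
  have ha0' : a0 ^ 2 ≠ a0⁻¹ := by
    intro h
    apply ha03
    rw [pow_succ, h, inv_mul_cancel₀ ha0]
  exact {
    XrPd := Xg_le_U fr (by decide)
    XsPd := Xg_le_U fr (by decide)
    XdPr := le_cJ_U fr hZ h12 h02 (by decide)
    XdPs := le_cJ_U fr hZ h01 h02 (by decide)
    TK := by
      rintro y ⟨c, hc⟩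
      exact hc.mem
    Tab := fun h hh k hk => T_comm fr A hh hk
    Todd := fun h hh => T_pow fr hZ A hh
    TXr := fun h hh => cJ_T fr hZ hh h01
    TXs := fun h hh => cJ_T fr hZ hh h12
    TXd := fun h hh => cJ_T fr hZ hh h02
    nK := fr.w_mem h12 1
    nX := cJ_w fr hZ h12 h01 (by decide) (by decide)
    mK := fr.w_mem h01 1
    mX := cJ_w fr hZ h01 h12 (by decide) (by decide)
    Ttr := trans_T fr hZ h01 h02 h12.symm
    Tts := trans_T fr hZ h12 h01.symm h02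
    trr := by
      intro x hx hx1 x' hx'
      obtain ⟨s, rfl⟩ := (mem_Xg fr hZ h01).1 hx
      obtain ⟨s', rfl⟩ := (mem_Xg fr hZ h01).1 hx'
      rw [Ne, fr.x_eq_one hZ h01] at hx1
      obtain ⟨l, hl, e⟩ := exists_cubes (F := F) (by omega) (s' * s⁻¹)
      refine ⟨l.map tr, ?_, ?_⟩
      · intro g hg
        obtain ⟨a, ha, rfl⟩ := List.mem_map.1 hg
        have h1 := htr a (hl a ha)
        exact ⟨⟨_, h1⟩, cen_of_eq fr hZ h1 h12 rfl, comm_w fr hZ h1 h12 rfl⟩
      · rw [lact_x fr hZ h01 (fun a ha s => ?_) s l hl, e, inv_mul_cancel_right₀ hx1]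
        rw [(htr a ha).conj hZ h01]
        congr 1
        show a ^ 2 * s * a⁻¹⁻¹ = a ^ 3 * s
        rw [inv_inv]; ring
    trs := by
      intro x hx hx1 x' hx'
      obtain ⟨s, rfl⟩ := (mem_Xg fr hZ h12).1 hx
      obtain ⟨s', rfl⟩ := (mem_Xg fr hZ h12).1 hx'
      rw [Ne, fr.x_eq_one hZ h12] at hx1
      obtain ⟨l, hl, e⟩ := exists_cubes (F := F) (by omega) (s' * s⁻¹)
      refine ⟨l.map ts, ?_, ?_⟩
      · intro g hg
        obtain ⟨a, ha, rfl⟩ := List.mem_map.1 hg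
        have h1 := hts a (hl a ha)
        exact ⟨⟨_, h1⟩, cen_of_eq fr hZ h1 h01 rfl, comm_w fr hZ h1 h01 rfl⟩
      · rw [lact_x fr hZ h12 (fun a ha s => ?_) s l hl, e, inv_mul_cancel_right₀ hx1]
        rw [(hts a ha).conj hZ h12]
        congr 1
        show a * s * (a ^ 2)⁻¹⁻¹ = a ^ 3 * s
        rw [inv_inv]; ring
    k1r := ⟨tr a0, ⟨_, htr a0 ha0⟩, cen_of_eq fr hZ (htr a0 ha0) h12 rfl, fpf_of_ne fr hZ (htr a0 ha0) h01 ha0',
      fpf_of_ne fr hZ (htr a0 ha0) h02 ha0'⟩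
    k1s := by
      have h1 : a0 ≠ (a0 ^ 2)⁻¹ := by
        intro h
        apply ha03
        have h2 : a0 ^ 2 * a0 = 1 := by nth_rewrite 2 [h]; exact mul_inv_cancel₀ (pow_ne_zero 2 ha0)
        rw [← h2]; ring
      exact ⟨ts a0, ⟨_, hts a0 ha0⟩, cen_of_eq fr hZ (hts a0 ha0) h01 rfl, fpf_of_ne fr hZ (hts a0 ha0) h12 h1,
        fpf_of_ne fr hZ (hts a0 ha0) h02 h1⟩
    k3r := by
      have h1 : a0 ≠ (a0 ^ 2)⁻¹ := by
        intro h
        apply ha03
        have h2 : a0 ^ 2 * a0 = 1 := by nth_rewrite 2 [h]; exact mul_inv_cancel₀ (pow_ne_zero 2 ha0)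
        rw [← h2]; ring
      obtain ⟨y, hy⟩ := hex _ (prod_d ha0)
      exact ⟨y, ⟨_, hy⟩, cen_of_eq fr hZ hy h02 rfl, fpf_of_ne fr hZ hy h01 h1⟩
    k3s := by
      have h1 : (a0 ^ 2)⁻¹ ≠ a0 := by
        intro h
        apply ha03
        have h2 : a0 ^ 2 * a0 = 1 := by nth_rewrite 2 [← h]; exact mul_inv_cancel₀ (pow_ne_zero 2 ha0)
        rw [← h2]; ring
      obtain ⟨y, hy⟩ := hex _ (prod_d ha0)
      exact ⟨y, ⟨_, hy⟩, cen_of_eq fr hZ hy h02 rfl, fpf_of_ne fr hZ hy h12 h1⟩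
    cmX := by
      intro x hx y hy
      obtain ⟨s, rfl⟩ := (mem_Xg fr hZ h01).1 hx
      obtain ⟨t, rfl⟩ := (mem_Xg fr hZ h12).1 hy
      rw [hcm]
      exact x_mem_Xg fr _ _ _
    nd := by
      intro x hx y hy hxy
      obtain ⟨s, rfl⟩ := (mem_Xg fr hZ h01).1 hx
      obtain ⟨t, rfl⟩ := (mem_Xg fr hZ h12).1 hy
      have h1 := hcm s t
      rw [hxy, mul_inv_cancel_right, mul_inv_cancel] at h1
      rcases mul_eq_zero.1 ((fr.x_eq_one hZ h02).1 h1.symm) with h0 | h0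
      · left; rw [h0, fr.x_zero hZ h01]
      · right; rw [h0, fr.x_zero hZ h12]
    big := by
      obtain ⟨ω, hω0, hω1⟩ := hbig
      refine ⟨fr.x 0 1 1, x_mem_Xg fr _ _ _, fr.x 0 1 ω, x_mem_Xg fr _ _ _, ?_, ?_, ?_⟩
      · rw [Ne, fr.x_eq_one hZ h01]; exact one_ne_zero
      · rw [Ne, fr.x_eq_one hZ h01]; exact hω0
      · rw [Ne, fr.x_inj h01]; exact hω1.symm
    disr := hdis (by decide) (by decide)
    diss := hdis (by decide) (by decide)
    YrPr := sup_le (le_cJ_U fr hZ h12 h01 (by decide)) (le_cJ_U fr hZ h12 h02 (by decide))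
    YrPd := sup_le (Xg_le_U fr (by decide)) (Xg_le_U fr (by decide))
    YrN := by
      intro x hx y hy
      obtain ⟨t, rfl⟩ := (mem_Xg fr hZ h12).1 hx
      rw [← Cfsg.Agent.Nodes.Reps.conj_mem_cj (g := (fr.x 1 2 t)⁻¹)]
      have e : (fr.x 1 2 t)⁻¹ * (fr.x 1 2 t * y * (fr.x 1 2 t)⁻¹) * (fr.x 1 2 t)⁻¹⁻¹ = y := by group
      rw [e]
      refine (sup_le ?_ ?_ : Xg fr 0 1 ⊔ Xg fr 0 2 ≤ _) hy
      · intro z hz
        obtain ⟨s, rfl⟩ := (mem_Xg fr hZ h01).1 hz
        rw [Cfsg.Agent.Nodes.Reps.mem_cj, inv_inv, fr.conj' hZ h01 h12 h02]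
        exact mul_mem (mem_sup_right (x_mem_Xg fr _ _ _)) (mem_sup_left (x_mem_Xg fr _ _ _))
      · intro z hz
        obtain ⟨s, rfl⟩ := (mem_Xg fr hZ h02).1 hz
        rw [Cfsg.Agent.Nodes.Reps.mem_cj, inv_inv, ← fr.comm hZ h02 h12 (by decide) (by decide) s t,
          mul_inv_cancel_right]
        exact mem_sup_right (x_mem_Xg fr _ _ _)
    K2r := by
      intro c hc hcY
      obtain ⟨r, t, h⟩ := OutL3Facts.exists_of_cent_one fr hA (mem_normalizer_of_comm A hR hc) (fun r t => by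
        rw [← hx01, hcY _ (mul_mem (mem_sup_left (x_mem_Xg fr _ _ _)) (mem_sup_right (x_mem_Xg fr _ _ _))),
          mul_inv_cancel_right])
      rw [← hx01] at h
      exact ⟨_, x_mem_Xg fr 0 1 r, _, x_mem_Xg fr 0 2 t,
        C1_of_cent (mul_mem (hX01 (x_mem_Xg fr _ _ _)) (hX02 (x_mem_Xg fr _ _ _))) A.comm hc h⟩
    YsPs := sup_le (le_cJ_U fr hZ h01 h12 (by decide)) (le_cJ_U fr hZ h01 h02 (by decide))
    YsPd := sup_le (Xg_le_U fr (by decide)) (Xg_le_U fr (by decide))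
    YsN := by
      intro x hx y hy
      obtain ⟨t, rfl⟩ := (mem_Xg fr hZ h01).1 hx
      rw [← Cfsg.Agent.Nodes.Reps.conj_mem_cj (g := (fr.x 0 1 t)⁻¹)]
      have e : (fr.x 0 1 t)⁻¹ * (fr.x 0 1 t * y * (fr.x 0 1 t)⁻¹) * (fr.x 0 1 t)⁻¹⁻¹ = y := by group
      rw [e]
      refine (sup_le ?_ ?_ : Xg fr 1 2 ⊔ Xg fr 0 2 ≤ _) hy
      · intro z hz
        obtain ⟨s, rfl⟩ := (mem_Xg fr hZ h12).1 hz
        rw [Cfsg.Agent.Nodes.Reps.mem_cj, inv_inv, fr.conj hZ h01 h12 h02]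
        exact mul_mem (mem_sup_right (x_mem_Xg fr _ _ _)) (mem_sup_left (x_mem_Xg fr _ _ _))
      · intro z hz
        obtain ⟨s, rfl⟩ := (mem_Xg fr hZ h02).1 hz
        rw [Cfsg.Agent.Nodes.Reps.mem_cj, inv_inv, ← fr.comm hZ h02 h01 (by decide) (by decide) s t,
          mul_inv_cancel_right]
        exact mem_sup_right (x_mem_Xg fr _ _ _)
    K2s := by
      intro c hc hcY
      obtain ⟨r, t, h⟩ := OutL3Facts.exists_of_cent_two fr hA (mem_normalizer_of_comm A hR hc) (fun r t => by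
        rw [← hx12, hcY _ (mul_mem (mem_sup_left (x_mem_Xg fr _ _ _)) (mem_sup_right (x_mem_Xg fr _ _ _))),
          mul_inv_cancel_right])
      rw [← hx12] at h
      exact ⟨_, x_mem_Xg fr 1 2 r, _, x_mem_Xg fr 0 2 t,
        C1_of_cent (mul_mem (hX12 (x_mem_Xg fr _ _ _)) (hX02 (x_mem_Xg fr _ _ _))) A.comm hc h⟩
    YPr := le_cJ_U fr hZ h12 h02 (by decide)
    YPs := le_cJ_U fr hZ h01 h02 (by decide)
    YPd := Xg_le_U fr (by decide)
    K1 := by
      intro c hc h1 h2 h3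
      -- `c` centralises `U`
      have hU : ∀ v ∈ fr.U, c * v = v * c := by
        have : fr.U ≤ centralizer {c} := by
          unfold FrameL3.U
          rw [closure_le]
          rintro _ ⟨i, j, hij, s, rfl⟩
          rw [SetLike.mem_coe, mem_centralizer_singleton_iff]
          rcases (show (i = 0 ∧ j = 1) ∨ (i = 1 ∧ j = 2) ∨ (i = 0 ∧ j = 2) from by revert i j; decide) with
            ⟨rfl, rfl⟩ | ⟨rfl, rfl⟩ | ⟨rfl, rfl⟩
          · exact (h1 _ (x_mem_Xg fr _ _ _)).symm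
          · exact (h2 _ (x_mem_Xg fr _ _ _)).symm
          · exact (h3 _ (x_mem_Xg fr _ _ _)).symm
        intro v hv
        exact (mem_centralizer_singleton_iff.1 (this hv)).symm
      obtain ⟨v, hv, hvc⟩ := OutL3Facts.exists_of_trivial fr hZ hA (mem_normalizer_of_comm A hR hc)
        (fun r s t => ⟨t, by rw [hU _ (u_mem fr r s t), mul_inv_cancel_right]⟩)
      obtain ⟨z, hz⟩ := fr.mem_center_U hZ hv (by
        intro v' hv'
        have e1 := mem_centralizer_iff.1 hvc v' (fr.U_le hv')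
        have e2 := hU v' hv'
        -- `v = c (v⁻¹ c)⁻¹`
        have e3 : v = c * (v⁻¹ * c)⁻¹ := by group
        have e4 : (v⁻¹ * c)⁻¹ * v' = v' * (v⁻¹ * c)⁻¹ := by
          calc (v⁻¹ * c)⁻¹ * v' = (v⁻¹ * c)⁻¹ * (v' * (v⁻¹ * c)) * (v⁻¹ * c)⁻¹ := by group
            _ = v' * (v⁻¹ * c)⁻¹ := by rw [e1]; group
        rw [e3, mul_assoc, e4, ← mul_assoc, e2, mul_assoc])
      rw [hz] at hvc
      exact ⟨_, x_mem_Xg fr 0 2 z, C1_of_cent (hX02 (x_mem_Xg fr _ _ _)) A.comm hc hvc⟩ }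

/-- **(D)**: no doubled root group over the Sylow 2-subgroup `U`, if `R` has two involutions. -/
theorem false_of_base (hA : _root_.commutator ↥K = ⊤) {R W : Subgroup G} (A : Amb K R) (h8 : 8 ≤ Nat.card F)
    (B : Base K R fr.U (Xg fr 0 2) W) {t t' : G} (ht : t ∈ R) (ht1 : t ≠ 1) (ht' : t' ∈ R) (ht1' : t' ≠ 1)
    (hne : t' ≠ t) : False := by
  have h01 : (0 : Fin 3) ≠ 1 := by decide
  have h12 : (1 : Fin 3) ≠ 2 := by decide
  have h02 : (0 : Fin 3) ≠ 2 := by decide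
  have H := ktriP fr hZ hA A ⟨t, ht, ht1⟩ h8
  exact hne ((H.triP A B (a := fr.w 1 2 1) (b := fr.w 0 1 1) (c := 1) (fr.w_mem h12 1) (fr.w_mem h01 1) (one_mem _)
    (cJ_w fr hZ h12 h02 (by decide) (by decide)) (cJ_w fr hZ h01 h02 (by decide) (by decide))
    (Cfsg.Agent.Nodes.Reps.cj_one _) rfl rfl (Cfsg.Agent.Nodes.Reps.cj_one _)).eq_of_ne_one ht ht1 ht' ht1')

end Main

end Cfsg.Agent.OddHalf.D4.L3

end

-- merged: Cfsg.Agent.OddHalf.D4.L3.TriOf
section

/-!
# ODD, D4, row `L_3(2^a)`, (D) over an embedding `f : PSL_3(F) →* G`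

* `frOf` : the frame of `f.range`; `frOf_U`, `frOf_Xg` : its Sylow 2-subgroup and highest root group are `Sf f`, `Zf f`;
* `false_of_base_f` : **(D)**.
-/

set_option autoImplicit false
set_option linter.unusedSectionVars false

namespace Cfsg.Agent.OddHalf.D4.L3

open Subgroup
open Matrix.SpecialLinearGroup (transvection)
open Cfsg.Agent.StdRank2 Cfsg.Agent.OddHalf.DblR
open Cfsg.Agent.ClassicalGeometry.AutPSL.Root

universe v

section

variable {F : Type*} [Field F] {G : Type*} [Group G]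

/-- the isomorphism of the quotient by the trivial centre -/
noncomputable def eOf {f : Y3 F →* G} (hf : Function.Injective f) (hc : center ↥f.range = ⊥) :
    ↥f.range ⧸ center ↥f.range ≃* Y3 F :=
  (QuotientGroup.quotientMulEquivOfEq hc).trans (QuotientGroup.quotientBot.trans (MonoidHom.ofInjective hf).symm)

theorem eOf_mk {f : Y3 F →* G} (hf : Function.Injective f) (hc : center ↥f.range = ⊥) (y : Y3 F) {g : G}
    (hg : g = f y) (hm : g ∈ f.range) : eOf hf hc (QuotientGroup.mk ⟨g, hm⟩) = y := by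
  subst hg
  show (MonoidHom.ofInjective hf).symm ⟨f y, hm⟩ = y
  rw [MulEquiv.symm_apply_eq]
  rfl

open Classical in
/-- the frame of `f.range` -/
noncomputable def frOf [CharP F 2] {f : Y3 F →* G} (hf : Function.Injective f) (hc : center ↥f.range = ⊥) :
    FrameL3 f.range F where
  e := eOf hf hc
  x i j s := if h : i ≠ j then f (pr (transvection h s)) else 1
  mem := by
    intro i j h s
    rw [dif_pos h]
    exact ⟨_, rfl⟩
  map := by
    intro i j h s
    exact eOf_mk hf hc _ (dif_pos h) _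
  two := by
    intro i j h s
    rw [dif_pos h, ← map_mul, ← map_mul, ← Matrix.SpecialLinearGroup.transvection_add, CharTwo.add_self_eq_zero,
      Matrix.SpecialLinearGroup.transvection_coeff_zero, map_one, map_one]

variable [CharP F 2] {f : Y3 F →* G} (hf : Function.Injective f) (hc : center ↥f.range = ⊥)

theorem frOf_x {i j : Fin 3} (h : i ≠ j) (s : F) : (frOf hf hc).x i j s = f (pr (transvection h s)) := dif_pos h

theorem frOf_x01 (s : F) : (frOf hf hc).x 0 1 s = U f s 0 0 := by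
  rw [frOf_x hf hc (by decide), U, um_eq01]

theorem frOf_x12 (s : F) : (frOf hf hc).x 1 2 s = U f 0 s 0 := by
  rw [frOf_x hf hc (by decide), U, um_eq12]

theorem frOf_x02 (s : F) : (frOf hf hc).x 0 2 s = U f 0 0 s := by
  rw [frOf_x hf hc (by decide), U, um_eq02]

include hc in
theorem odd_center : Odd (Nat.card (center ↥f.range)) := by
  rw [hc, card_bot]
  exact odd_one

theorem frOf_el (a b c : F) : (frOf hf hc).el a b c = U f a b (c + a * b) := by
  rw [FrameL3.el, frOf_x01, frOf_x12, frOf_x02, U_mul, U_mul]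
  congr 1 <;> ring

theorem frOf_U : (frOf hf hc).U = Sf f := by
  ext g
  rw [FrameL3.mem_U _ (odd_center hc), mem_Sf]
  constructor
  · rintro ⟨a, b, c, rfl⟩
    exact ⟨a, b, _, frOf_el hf hc a b c⟩
  · rintro ⟨a, b, c, rfl⟩
    refine ⟨a, b, c - a * b, ?_⟩
    rw [frOf_el, sub_add_cancel]

theorem frOf_Xg : Xg (frOf hf hc) 0 2 = Zf f := by
  ext g
  rw [mem_Xg _ (odd_center hc) (by decide), mem_Zf]
  constructor
  · rintro ⟨s, rfl⟩
    exact ⟨s, frOf_x02 hf hc s⟩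
  · rintro ⟨s, rfl⟩
    exact ⟨s, (frOf_x02 hf hc s).symm⟩

end

section main

variable {F : Type*} [Field F] {G : Type*} [Group G] [CharP F 2] {f : Y3 F →* G}

theorem center_range {R : Subgroup G} (A : Amb f.range R) : center ↥f.range = ⊥ := by
  rw [eq_bot_iff]
  intro k hk
  rw [mem_bot]
  apply Subtype.ext
  exact A.ctr k.1 k.2 fun x hx => (congrArg Subtype.val (mem_center_iff.1 hk ⟨x, hx⟩)).symm

/-- the range is perfect -/
theorem commutator_range (hf : Function.Injective f) : _root_.commutator ↥f.range = ⊤ := by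
  have hs : IsSimpleGroup (Y3 F) := S0249.result 3 le_rfl
  have hs' : IsSimpleGroup ↥f.range := (MonoidHom.ofInjective hf).symm.isSimpleGroup
  rcases (Subgroup.commutator_normal (⊤ : Subgroup ↥f.range) ⊤).eq_bot_or_eq_top with h | h
  · exfalso
    have h1 : ∀ x y : ↥f.range, x * y = y * x := by
      intro x y
      have h2 := Subgroup.commutator_mem_commutator (mem_top x) (mem_top y)
      rw [h, mem_bot] at h2
      exact commutatorElement_eq_one_iff_mul_comm.1 h2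
    have h3 := h1 ⟨U f 1 0 0, Sf_le f (U_mem f 1 0 0)⟩ ⟨U f 0 1 0, Sf_le f (U_mem f 0 1 0)⟩
    have h4 : U f 1 0 0 * U f 0 1 0 = U f 0 1 0 * U f 1 0 0 := congrArg Subtype.val h3
    rw [U_mul, U_mul] at h4
    have h5 := (U_inj hf h4).2.2
    simp at h5
  · exact h

/-- **(D)** over `f`. -/
theorem false_of_base_f (hf : Function.Injective f) [Finite F] [Finite G] {R W : Subgroup G} (h8 : 8 ≤ Nat.card F)
    (A : Amb f.range R) (B : Base f.range R (Sf f) (Zf f) W) {t t' : G} (ht : t ∈ R) (ht1 : t ≠ 1) (ht' : t' ∈ R)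
    (ht1' : t' ≠ 1) (hne : t' ≠ t) : False := by
  have hc := center_range A
  rw [← frOf_U hf hc, ← frOf_Xg hf hc] at B
  exact false_of_base (frOf hf hc) (odd_center hc) (commutator_range hf) A h8 B ht ht1 ht' ht1' hne

end main

end Cfsg.Agent.OddHalf.D4.L3

end

-- merged: Cfsg.Agent.OddHalf.D4.L3.Row
section

/-!
# ODD, D4: the row `l3e`: `L_3(2^a)`, `a ≥ 3`
-/

set_option autoImplicit false

namespace Cfsg.Agent.OddHalf.D4.L3

open Cfsg.Agent.OddHalf.D4 Cfsg.Agent.ClassicalGeometry.AutPSL.Root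
open Subgroup (centralizer)

universe u

theorem charP_two {F : Type} [Field F] [Fintype F] {a : ℕ} (h : Fintype.card F = 2 ^ a) : CharP F 2 := by
  apply CharTwo.of_one_ne_zero_of_two_eq_zero one_ne_zero
  have h1 := FiniteField.cast_card_eq_zero F
  rw [h, Nat.cast_pow] at h1
  have h2 : ((2 : ℕ) : F) = 0 := by
    by_contra h3
    exact pow_ne_zero a h3 h1
  exact_mod_cast h2

/-- **D4, row `l3e`**, modulo the contradiction `hD` for doubled root groups -/
theorem row_of (h1173 : Start.P1173.{u})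
    (hD : ∀ {F : Type} [Field F] [Finite F] [CharP F 2] {G : Type u} [Group G] [Finite G], 8 ≤ Nat.card F →
      ∀ f : Y3 F →* G, Function.Injective f → ∀ R W : Subgroup G, DblR.Amb f.range R →
      DblR.Base f.range R (Sf f) (Zf f) W → ∀ t ∈ R, ∀ t' ∈ R, t ≠ 1 → t' ≠ 1 → t' ≠ t → False) :
    Cut.Row1.{u} (fun K _ => Cut.L3e K) := by
  intro G _ hG K S hrk hz hP
  have := hG.fin
  obtain ⟨F, i1, i2, a, ha, hc, ⟨e⟩⟩ := hP
  have hch : CharP F 2 := charP_two hc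
  have h8 : 8 ≤ Nat.card F := by
    rw [Nat.card_eq_fintype_card, hc]
    calc 8 = 2 ^ 3 := by norm_num
      _ ≤ 2 ^ a := Nat.pow_le_pow_right (by norm_num) ha
  let f : Y3 F →* G := K.subtype.comp e.symm.toMonoidHom
  have hf : Function.Injective f := (Subgroup.subtype_injective K).comp e.symm.injective
  have hr : f.range = K := by
    ext x
    constructor
    · rintro ⟨y, rfl⟩
      exact (e.symm y).2
    · intro hx
      refine ⟨e ⟨x, hx⟩, ?_⟩
      show ((e.symm (e ⟨x, hx⟩) : ↥K) : G) = x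
      rw [e.symm_apply_apply]
  clear_value f
  subst hr
  exact core hG h1173 h8 hf S hrk hz (fun f' hf' => hD h8 f' hf')

/-- **D4, row `l3e`.** -/
theorem row (h1173 : Start.P1173.{u}) : Cut.Row1.{u} (fun K _ => Cut.L3e K) :=
  row_of h1173 fun h8 _ hf _ _ A B _ ht _ ht' ht1 ht1' hne => false_of_base_f hf h8 A B ht ht1 ht' ht1' hne

end Cfsg.Agent.OddHalf.D4.L3

end
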